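import Mathlib
import Cfsg.Agent.Aschbacher.Tensor

/-!
# Tensor powers: slots, normal form of wreath elements, blocks along the first slot
-/

set_option autoImplicit false
set_option linter.unusedSectionVars false

namespace Cfsg.Agent.TensorWreath

open Matrix Cfsg.Agent.Aschbacher

variable {F : Type*} [Field F] {m t : ℕ}

/-- a slot of the tensor power -/
abbrev S (j : Fin t) : Matrix (Fin m) (Fin m) F →ₐ[F] Matrix (Fin t → Fin m) (Fin t → Fin m) F :=
  slotHom j

theorem pure_zero (x : Fin t → Matrix (Fin m) (Fin m) F) (i : Fin t) (h : x i = 0) :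
    pureTensor x = 0 := by
  ext f g
  rw [pureTensor_apply, Matrix.zero_apply]
  exact Finset.prod_eq_zero (Finset.mem_univ i) (by simp [h])

theorem S_apply (j : Fin t) (z : Matrix (Fin m) (Fin m) F) (x y : Fin t → Fin m) :
    S j z x y = if ∀ i, i ≠ j → x i = y i then z (x j) (y j) else 0 := by
  rw [slotHom_apply, pureTensor_apply, ← Finset.mul_prod_erase _ _ (Finset.mem_univ j), Pi.mulSingle_eq_same]
  split_ifs with h
  · rw [Finset.prod_eq_one fun i hi => ?_, mul_one]
    rw [Pi.mulSingle_eq_of_ne (Finset.ne_of_mem_erase hi), h i (Finset.ne_of_mem_erase hi), Matrix.one_apply_eq]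
  · push Not at h
    obtain ⟨i, hij, hne⟩ := h
    rw [Finset.prod_eq_zero (Finset.mem_erase.2 ⟨hij, Finset.mem_univ i⟩)
      (by rw [Pi.mulSingle_eq_of_ne hij, Matrix.one_apply_ne hne]), mul_zero]

theorem S_comm {i j : Fin t} (h : i ≠ j) (a b : Matrix (Fin m) (Fin m) F) : S i a * S j b = S j b * S i a := by
  rw [slotHom_apply, slotHom_apply, ← map_mul, ← map_mul]
  congr 1
  funext l
  simp only [Pi.mul_apply]
  rcases eq_or_ne l i with rfl | hl
  · simp [Pi.mulSingle_eq_of_ne h]
  · simp [Pi.mulSingle_eq_of_ne hl]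

theorem adjoin_S : Algebra.adjoin F (⋃ j : Fin t, Set.range (S (F := F) (m := m) j)) = ⊤ := by
  refine eq_top_iff.2 fun M _ => ?_
  clear * - M
  induction M using Matrix.induction_on' with
  | h_zero => exact zero_mem _
  | h_add p q hp hq => exact add_mem hp hq
  | h_std_basis f g c =>
    rw [← mul_one c, ← smul_eq_mul, ← Matrix.smul_single, ← pureTensor_single]
    refine Subalgebra.smul_mem _ ?_ _
    have key : ∀ s : Finset (Fin t), pureTensor (fun i => if i ∈ s then Matrix.single (f i) (g i) (1 : F) else 1) ∈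
        Algebra.adjoin F (⋃ j : Fin t, Set.range (S (F := F) (m := m) j)) := by
      intro s
      induction s using Finset.induction with
      | empty =>
        simp only [Finset.notMem_empty, if_false]
        rw [show (fun _ : Fin t => (1 : Matrix (Fin m) (Fin m) F)) = 1 from rfl, map_one]
        exact one_mem _
      | insert i s hi ih =>
        have e : (fun j => if j ∈ insert i s then Matrix.single (f j) (g j) (1 : F) else 1) =
            Pi.mulSingle i (Matrix.single (f i) (g i) (1 : F)) *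
              fun j => if j ∈ s then Matrix.single (f j) (g j) (1 : F) else 1 := by
          funext j
          rcases eq_or_ne j i with rfl | hj
          · simp [hi]
          · simp [hj, Pi.mulSingle_eq_of_ne hj]
        rw [e, map_mul]
        exact mul_mem (Algebra.subset_adjoin (Set.mem_iUnion.2 ⟨i, _, rfl⟩)) ih
    simpa using key Finset.univ

/-- a pure tensor of invertible matrices -/
def pureGL (a : Fin t → GL (Fin m) F) : GL (Fin t → Fin m) F :=
  Units.map pureTensor (MulEquiv.piUnits.symm a)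

theorem pureGL_coe (a : Fin t → GL (Fin m) F) :
    (pureGL a : Matrix (Fin t → Fin m) (Fin t → Fin m) F) = pureTensor fun i => (a i : Matrix (Fin m) (Fin m) F) := rfl

theorem pureGL_mul (a b : Fin t → GL (Fin m) F) : pureGL a * pureGL b = pureGL (a * b) := by
  simp [pureGL, map_mul]

theorem pureGL_one : pureGL (1 : Fin t → GL (Fin m) F) = 1 := by simp [pureGL]

theorem pureGL_inv (a : Fin t → GL (Fin m) F) : (pureGL a)⁻¹ = pureGL a⁻¹ := by simp [pureGL]

/-- one slot of invertible matrices -/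
def sgl (j : Fin t) : GL (Fin m) F →* GL (Fin t → Fin m) F :=
  Units.map (slotHom (F := F) (m := m) j : Matrix (Fin m) (Fin m) F →* _)

theorem sgl_coe (j : Fin t) (a : GL (Fin m) F) :
    (sgl j a : Matrix (Fin t → Fin m) (Fin t → Fin m) F) = S j (a : Matrix (Fin m) (Fin m) F) := rfl

theorem sgl_eq (j : Fin t) (a : GL (Fin m) F) : sgl j a = pureGL (Pi.mulSingle j a) := by
  refine Units.ext ?_
  rw [sgl_coe, pureGL_coe, slotHom_apply]
  congr 1
  funext i
  rcases eq_or_ne i j with rfl | h
  · simp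
  · simp [Pi.mulSingle_eq_of_ne h]

/-- a permutation of the slots -/
def permGL (σ : Equiv.Perm (Fin t)) : GL (Fin t → Fin m) F where
  val := Matrix.of fun x y => if y = x ∘ σ then 1 else 0
  inv := Matrix.of fun x y => if y = x ∘ σ.symm then 1 else 0
  val_inv := by
    ext x y
    rw [Matrix.mul_apply, Finset.sum_eq_single (x ∘ σ)]
    · simp [Matrix.one_apply, Function.comp_assoc, eq_comm]
    · intro b _ hb; simp [hb]
    · simp
  inv_val := by
    ext x y
    rw [Matrix.mul_apply, Finset.sum_eq_single (x ∘ σ.symm)]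
    · simp [Matrix.one_apply, Function.comp_assoc, eq_comm]
    · intro b _ hb; simp [hb]
    · simp

theorem permGL_apply (σ : Equiv.Perm (Fin t)) (x y : Fin t → Fin m) :
    (permGL σ : GL (Fin t → Fin m) F).val x y = if y = x ∘ σ then 1 else 0 := rfl

theorem perm_mul_apply (σ : Equiv.Perm (Fin t)) (M : Matrix (Fin t → Fin m) (Fin t → Fin m) F) (x y : Fin t → Fin m) :
    ((permGL σ : GL (Fin t → Fin m) F).val * M) x y = M (x ∘ σ) y := by
  rw [Matrix.mul_apply, Finset.sum_eq_single (x ∘ σ)]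
  · rw [permGL_apply, if_pos rfl, one_mul]
  · intro b _ hb; rw [permGL_apply, if_neg hb, zero_mul]
  · simp

theorem mul_perm_apply (σ : Equiv.Perm (Fin t)) (M : Matrix (Fin t → Fin m) (Fin t → Fin m) F) (x y : Fin t → Fin m) :
    (M * (permGL σ : GL (Fin t → Fin m) F).val) x y = M x (y ∘ σ.symm) := by
  rw [Matrix.mul_apply, Finset.sum_eq_single (y ∘ σ.symm)]
  · rw [permGL_apply, if_pos (by rw [Function.comp_assoc, Equiv.symm_comp_self, Function.comp_id]), mul_one]
  · intro b _ hb
    rw [permGL_apply, if_neg, mul_zero]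
    rintro rfl
    exact hb (by rw [Function.comp_assoc, Equiv.self_comp_symm, Function.comp_id])
  · simp

theorem permGL_mul (σ τ : Equiv.Perm (Fin t)) :
    (permGL σ : GL (Fin t → Fin m) F) * permGL τ = permGL (σ * τ) := by
  refine Units.ext (Matrix.ext fun x y => ?_)
  rw [Units.val_mul, perm_mul_apply, permGL_apply, permGL_apply, Equiv.Perm.coe_mul, Function.comp_assoc]

theorem permGL_one : (permGL (1 : Equiv.Perm (Fin t)) : GL (Fin t → Fin m) F) = 1 := by
  refine Units.ext (Matrix.ext fun x y => ?_)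
  rw [permGL_apply, Units.val_one, Matrix.one_apply]
  simp [eq_comm]

theorem permGL_inv (σ : Equiv.Perm (Fin t)) : (permGL σ : GL (Fin t → Fin m) F)⁻¹ = permGL σ⁻¹ :=
  inv_eq_of_mul_eq_one_right (by rw [permGL_mul, mul_inv_cancel, permGL_one])

theorem perm_pure (σ : Equiv.Perm (Fin t)) (X : Fin t → Matrix (Fin m) (Fin m) F) :
    (permGL σ : GL (Fin t → Fin m) F).val * pureTensor X =
      pureTensor (X ∘ σ.symm) * (permGL σ : GL (Fin t → Fin m) F).val := by
  ext x y
  rw [perm_mul_apply, mul_perm_apply, pureTensor_apply, pureTensor_apply]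
  exact Fintype.prod_equiv σ _ _ fun i => by simp

theorem perm_pureGL (σ : Equiv.Perm (Fin t)) (a : Fin t → GL (Fin m) F) :
    permGL σ * pureGL a = pureGL (a ∘ σ.symm) * permGL σ :=
  Units.ext (perm_pure σ _)

theorem conj_perm_S (σ : Equiv.Perm (Fin t)) (i : Fin t) (z : Matrix (Fin m) (Fin m) F) :
    conjMat (permGL σ) (S i z) = S (σ i) z := by
  rw [conjMat_eq_iff_mul, slotHom_apply, slotHom_apply, perm_pure]
  congr 2
  funext j
  rcases eq_or_ne j (σ i) with rfl | hj
  · simp
  · rw [Function.comp_apply, Pi.mulSingle_eq_of_ne hj, Pi.mulSingle_eq_of_ne fun h => hj (by rw [← h, σ.apply_symm_apply])]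

theorem conj_pure_S (a : Fin t → GL (Fin m) F) (i : Fin t) (z : Matrix (Fin m) (Fin m) F) :
    conjMat (pureGL a) (S i z) = S i (conjMat (a i) z) := by
  rw [conjMat_eq_iff_mul, slotHom_apply, slotHom_apply, pureGL_coe, ← map_mul, ← map_mul]
  congr 1
  funext j
  rcases eq_or_ne j i with rfl | hj
  · simp [conjMat_apply, mul_assoc]
  · simp [Pi.mulSingle_eq_of_ne hj]

/-- the wreath group -/
abbrev Wr (F : Type*) [Field F] (m t : ℕ) : Subgroup (GL (Fin t → Fin m) F) :=
  Cfsg.Geo.tensorWreathStandard m t F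

theorem pureGL_mem (a : Fin t → GL (Fin m) F) : pureGL a ∈ Wr F m t :=
  Subgroup.subset_closure (Or.inl ⟨a, fun _ _ => rfl⟩)

theorem permGL_mem (σ : Equiv.Perm (Fin t)) : (permGL σ : GL (Fin t → Fin m) F) ∈ Wr F m t :=
  Subgroup.subset_closure (Or.inr ⟨σ, fun _ _ => rfl⟩)

theorem sgl_mem (j : Fin t) (a : GL (Fin m) F) : sgl j a ∈ Wr F m t := by
  rw [sgl_eq]; exact pureGL_mem _

/-- normal form -/
theorem exists_nf {g : GL (Fin t → Fin m) F} (hg : g ∈ Wr F m t) :
    ∃ σ a, g = permGL σ * pureGL a := by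
  induction hg using Subgroup.closure_induction with
  | mem x hx =>
    rcases hx with ⟨gs, hgs⟩ | ⟨σ, hσ⟩
    · exact ⟨1, gs, by rw [permGL_one, one_mul]; exact Units.ext (Matrix.ext hgs)⟩
    · exact ⟨σ, 1, by rw [pureGL_one, mul_one]; exact Units.ext (Matrix.ext hσ)⟩
  | one => exact ⟨1, 1, by rw [permGL_one, pureGL_one, one_mul]⟩
  | mul x y _ _ hx hy =>
    obtain ⟨σ, a, rfl⟩ := hx
    obtain ⟨τ, b, rfl⟩ := hy
    refine ⟨σ * τ, (a ∘ τ) * b, ?_⟩
    have e := perm_pureGL τ (a ∘ τ)
    rw [Function.comp_assoc, Equiv.self_comp_symm, Function.comp_id] at e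
    rw [← permGL_mul, ← pureGL_mul, mul_assoc, mul_assoc, ← mul_assoc (pureGL a), ← e, mul_assoc]
  | inv x _ hx =>
    obtain ⟨σ, a, rfl⟩ := hx
    exact ⟨σ⁻¹, a⁻¹ ∘ σ.symm, by
      rw [_root_.mul_inv_rev, pureGL_inv, permGL_inv]
      have e := perm_pureGL σ⁻¹ (a⁻¹ ∘ σ.symm)
      rw [e, Function.comp_assoc]
      congr 2
      funext i
      simp [Equiv.Perm.inv_def]⟩

theorem conj_nf_S (σ : Equiv.Perm (Fin t)) (a : Fin t → GL (Fin m) F) (i : Fin t) (z : Matrix (Fin m) (Fin m) F) :
    conjMat (permGL σ * pureGL a) (S i z) = S (σ i) (conjMat (a i) z) := by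
  rw [conjMat_mul, conj_pure_S, conj_perm_S]

/-- elements permuting the slots are wreath elements -/
theorem mem_of_slots (hm : 0 < m) (ht : 0 < t) {g : GL (Fin t → Fin m) F} (σ : Equiv.Perm (Fin t))
    (h : ∀ i z, ∃ y, conjMat g (S i z) = S (σ i) y) : g ∈ Wr F m t := by
  haveI : Nonempty (Fin t → Fin m) := ⟨fun _ => ⟨0, hm⟩⟩
  have := mem_tensorWreath ht (fun j => S (F := F) (m := m) j) adjoin_S (Equiv.refl _) 1
    (fun i x => by simp [conjMat_apply]) g σ h
  obtain ⟨x, ⟨y, hy, rfl⟩, hxy⟩ := this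
  have e : y = g := by
    rw [← hxy]
    refine Units.ext ?_
    simp [Cfsg.Geo.glReindex]
  exact e ▸ hy

/-- blocks along the first slot -/
def blk : Matrix (Fin (t + 1) → Fin m) (Fin (t + 1) → Fin m) F ≃ₐ[F]
    Matrix (Fin m) (Fin m) (Matrix (Fin t → Fin m) (Fin t → Fin m) F) :=
  (Matrix.reindexAlgEquiv F F (Fin.consEquiv fun _ => Fin m).symm).trans
    (Matrix.compAlgEquiv (Fin m) (Fin t → Fin m) F F).symm

theorem blk_apply (M : Matrix (Fin (t + 1) → Fin m) (Fin (t + 1) → Fin m) F) (a b : Fin m)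
    (u v : Fin t → Fin m) : blk M a b u v = M (Fin.cons a u) (Fin.cons b v) := rfl

theorem blk_S_zero (z : Matrix (Fin m) (Fin m) F) :
    blk (S (0 : Fin (t + 1)) z) = z.map (algebraMap F (Matrix (Fin t → Fin m) (Fin t → Fin m) F)) := by
  refine Matrix.ext fun a b => Matrix.ext fun u v => ?_
  rw [blk_apply, S_apply, Matrix.map_apply, Matrix.algebraMap_matrix_apply]
  by_cases h : u = v
  · subst h
    rw [if_pos, if_pos rfl]
    · simp
    · intro i hi
      obtain ⟨j, rfl⟩ := Fin.exists_succ_eq.2 hi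
      simp
  · rw [if_neg, if_neg h]
    intro h'
    exact h (funext fun i => by simpa using h' i.succ (Fin.succ_ne_zero i))

theorem blk_S_succ (i : Fin t) (z : Matrix (Fin m) (Fin m) F) :
    blk (S i.succ z) = Matrix.diagonal fun _ => S i z := by
  refine Matrix.ext fun a b => Matrix.ext fun u v => ?_
  rw [blk_apply, S_apply, Matrix.diagonal_apply]
  by_cases h : a = b
  · subst h
    rw [if_pos rfl, S_apply]
    refine if_congr ⟨fun h' j hj => by simpa using h' j.succ (fun e => hj (Fin.succ_injective _ e)),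
      fun h' j hj => ?_⟩ (by simp) rfl
    rcases Fin.eq_zero_or_eq_succ j with rfl | ⟨k, rfl⟩
    · simp
    · simpa using h' k (fun e => hj (by rw [e]))
  · rw [if_neg h, if_neg]
    · rfl
    · intro h'
      exact h (by simpa using h' 0 (Fin.succ_ne_zero i).symm)

end Cfsg.Agent.TensorWreath
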