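import Cfsg.Agent.Lib.Forms.Max.TensorWreath.Levels

/-!
# Tame overgroups over the field of two elements in dimension three
-/

set_option autoImplicit false
set_option linter.unusedSectionVars false

namespace Cfsg.Agent.TensorWreath

open Matrix Cfsg.Agent.Aschbacher
open scoped Kronecker

variable {F : Type*} [Field F] [Fintype F] {t : ℕ}

/-- changing one pair of functions in one slot -/
def upd2 (j : Fin t) (q : (Fin t → Fin 3) × (Fin t → Fin 3)) (a b : Fin 3) : (Fin t → Fin 3) × (Fin t → Fin 3) :=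
  (Function.update q.1 j a, Function.update q.2 j b)

theorem sumE_row [CharP F 2] (j : Fin t) (c : Fin 3) (q : (Fin t → Fin 3) × (Fin t → Fin 3))
    (r : (Fin t → Fin 3) × (Fin t → Fin 3)) :
    (sumE (F := F) j c r q ≠ 0 → q.1 j ≠ c ∧ q.2 j ≠ c ∧ q.1 j ≠ q.2 j) ∧
      sumE (F := F) j c r q = sumE (F := F) j c r (upd2 j q (q.2 j) (q.1 j)) := by
  classical
  constructor
  · intro h
    rw [sumE_apply (le_refl 3)] at h
    split_ifs at h with hq hp
    · refine ⟨hq.1, hq.2, fun e => h ?_⟩
      obtain ⟨d, hd, -⟩ := exists_third' (le_refl 3) c c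
      obtain ⟨d', hd', -⟩ := exists_third' (le_refl 3) c (q.1 j)
      have h2 : ∃ e : {d : Fin 3 // d ≠ c}, e ≠ ⟨q.1 j, hq.1⟩ :=
        Fintype.exists_ne_of_one_lt_card (by rw [Fintype.card_subtype_compl]; simp) _
      obtain ⟨e', he'⟩ := h2
      rw [sum_indep e' _ fun v v' hv => ?_, mul_zero]
      have e2 : (⟨q.2 j, hq.2⟩ : {d : Fin 3 // d ≠ c}) = ⟨q.1 j, hq.1⟩ := Subtype.ext e.symm
      rw [e2, hv _ he'.symm]
    · simp at h
    · simp at h
  · rw [sumE_apply (le_refl 3), sumE_apply (le_refl 3)]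
    simp only [upd2, Function.update_self]
    by_cases h : q.1 j ≠ c ∧ q.2 j ≠ c
    · rw [dif_pos h, dif_pos ⟨h.2, h.1⟩]
      refine congrArg₂ (· * ·) (if_congr ?_ rfl rfl) (Finset.sum_congr rfl fun v _ => mul_comm _ _)
      refine and_congr_right fun _ => and_congr_right fun _ => and_congr
        (forall_congr' fun i => forall_congr' fun hi => by rw [Function.update_of_ne hi])
        (forall_congr' fun i => forall_congr' fun hi => by rw [Function.update_of_ne hi])
    · rw [dif_neg h, dif_neg fun h' => h ⟨h'.2, h'.1⟩]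

theorem ell_entry [CharP F 2] (x y X Y : Fin 3) : ell F (x, y) (X, Y) =
    if x ≠ y ∧ ((X = x ∧ Y = y) ∨ (X = y ∧ Y = x)) then 1 else 0 := by
  fin_cases x <;> fin_cases y <;> fin_cases X <;> fin_cases Y <;>
    simp [ell, sw, Matrix.one_apply, CharTwo.add_self_eq_zero]

theorem dlt_entry [CharP F 2] (p q : (Fin t → Fin 3) × (Fin t → Fin 3)) : dlt F t p q =
    if ∀ j, p.1 j ≠ p.2 j ∧ ((q.1 j = p.1 j ∧ q.2 j = p.2 j) ∨ (q.1 j = p.2 j ∧ q.2 j = p.1 j)) then 1 else 0 := by
  classical
  simp only [dlt, kp, act, Matrix.of_apply, Finset.mem_univ, if_true, ell_entry]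
  split_ifs with h
  · exact Finset.prod_eq_one fun j _ => if_pos (h j)
  · push Not at h
    obtain ⟨j, hj⟩ := h
    exact Finset.prod_eq_zero (Finset.mem_univ j) (if_neg fun h' => by
      rcases h'.2 with ⟨a, b⟩ | ⟨a, b⟩
      · exact (hj h'.1).1 a b
      · exact (hj h'.1).2 a b)

/-- the permutation matrices of one slot lie in the base -/
theorem exists_perm_slot [CharP F 2] (π : Equiv.Perm (Fin 3)) :
    ∃ a : GL (Fin 3) F, a.val.det = 1 ∧ ∀ u v, a.val u v = if π u = v then 1 else 0 := by
  have hd : (π.toPEquiv.toMatrix : Matrix (Fin 3) (Fin 3) F).det = 1 := by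
    rw [show (π.toPEquiv.toMatrix : Matrix (Fin 3) (Fin 3) F) = π.permMatrix F from rfl, Matrix.det_permutation]
    rcases Int.units_eq_one_or (Equiv.Perm.sign π) with h | h <;> simp [h, CharTwo.neg_eq]
  refine ⟨Matrix.GeneralLinearGroup.mkOfDetNeZero _ (fun h => one_ne_zero (hd.symm.trans h)), hd, fun u v => ?_⟩
  show (π.toPEquiv.toMatrix : Matrix (Fin 3) (Fin 3) F) u v = _
  simp [PEquiv.toMatrix_apply]

/-- the error terms are multiples of the last level -/
theorem exists_coeff [CharP F 2] {o : Fin 3} (IH : Level (F := F) o t)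
    {G : Subgroup (GL (Fin (t + 2) → Fin 3) F)} (hB : Base G) (hT : Tame o G) {s : ℕ} :
    ∃ c : F, ∀ g ∈ G, conjMat (dbl g) (fs F (t + 2) s + c • dlt F (t + 2)) = fs F (t + 2) s + c • dlt F (t + 2) := by
  classical
  obtain ⟨err, hfix, hrow⟩ := exists_err 2 (le_refl 3) IH hB hT (fs F (t + 2) s) fun h hh => fs_fixed s hh
  have hsupp : ∀ (p q : (Fin (t + 2) → Fin 3) × (Fin (t + 2) → Fin 3)) j c, p.1 j ≠ c → p.2 j ≠ c → err p q ≠ 0 →
      q.1 j ≠ c ∧ q.2 j ≠ c ∧ q.1 j ≠ q.2 j := by
    rintro ⟨x, y⟩ q j c hx hy h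
    obtain ⟨W, hW⟩ := hrow j c
    rw [hW x y hx hy, Matrix.mul_apply] at h
    obtain ⟨r, -, hr⟩ := Finset.exists_ne_zero_of_sum_ne_zero h
    exact (sumE_row j c q r).1 (right_ne_zero_of_mul hr)
  have hsw : ∀ (p q : (Fin (t + 2) → Fin 3) × (Fin (t + 2) → Fin 3)) j c, p.1 j ≠ c → p.2 j ≠ c →
      err p q = err p (upd2 j q (q.2 j) (q.1 j)) := by
    rintro ⟨x, y⟩ q j c hx hy
    obtain ⟨W, hW⟩ := hrow j c
    rw [hW x y hx hy, hW x y hx hy, Matrix.mul_apply, Matrix.mul_apply]
    exact Finset.sum_congr rfl fun r _ => by rw [(sumE_row j c q r).2]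
  -- supported pairs
  have hpair : ∀ p q, err p q ≠ 0 → ∀ j, p.1 j ≠ p.2 j ∧
      ((q.1 j = p.1 j ∧ q.2 j = p.2 j) ∨ (q.1 j = p.2 j ∧ q.2 j = p.1 j)) := by
    intro p q h j
    have key : ∀ a b c d : Fin 3, (∀ e, a ≠ e → b ≠ e → c ≠ e ∧ d ≠ e ∧ c ≠ d) →
        a ≠ b ∧ ((c = a ∧ d = b) ∨ (c = b ∧ d = a)) := by decide
    exact key _ _ _ _ fun e h1 h2 => hsupp p q j e h1 h2 h
  have hdiag : ∀ (u : Finset (Fin (t + 2))) p q, (∀ j, p.1 j ≠ p.2 j ∧
      ((q.1 j = p.1 j ∧ q.2 j = p.2 j) ∨ (q.1 j = p.2 j ∧ q.2 j = p.1 j))) →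
      (∀ j ∉ u, q.1 j = p.1 j ∧ q.2 j = p.2 j) → err p q = err p p := by
    intro u
    induction u using Finset.induction with
    | empty =>
      intro p q _ h0
      have e : q = p := Prod.ext (funext fun j => (h0 j (by simp)).1) (funext fun j => (h0 j (by simp)).2)
      rw [e]
    | insert j u hju ih =>
      intro p q h h0
      by_cases hq : q.1 j = p.1 j ∧ q.2 j = p.2 j
      · refine ih p q h fun l hl => ?_
        rcases eq_or_ne l j with rfl | hlj
        · exact hq
        · exact h0 l (by simp [hlj, hl])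
      · have hq' := (h j).2.resolve_left hq
        obtain ⟨c, hc1, hc2⟩ := exists_third' (le_refl 3) (p.1 j) (p.2 j)
        rw [hsw p q j c hc1.symm hc2.symm]
        refine ih p _ (fun l => ?_) fun l hl => ?_
        · rcases eq_or_ne l j with rfl | hlj
          · exact ⟨(h l).1, Or.inl ⟨by simp [upd2, hq'.2], by simp [upd2, hq'.1]⟩⟩
          · simpa [upd2, Function.update_of_ne hlj] using h l
        · rcases eq_or_ne l j with rfl | hlj
          · exact ⟨by simp [upd2, hq'.2], by simp [upd2, hq'.1]⟩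
          · simpa [upd2, Function.update_of_ne hlj] using h0 l (by simp [hlj, hl])
  have herrfix : ∀ h ∈ G, h ∈ Wr F 3 (t + 2) → conjMat (dbl h) err = err := fun h hh hw => by
    have e := hfix h hh
    rw [map_add, fs_fixed s hw] at e
    exact add_left_cancel e
  have hperm : ∀ (j : Fin (t + 2)) (π : Equiv.Perm (Fin 3)) p,
      err p p = err (upd2 j p (π (p.1 j)) (π (p.2 j))) (upd2 j p (π (p.1 j)) (π (p.2 j))) := by
    intro j π p
    obtain ⟨a, hdet, ha⟩ := exists_perm_slot (F := F) π
    have hg := herrfix (sgl j a) (hB j a hdet) (sgl_mem _ _)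
    rw [conjMat_eq_self_iff] at hg
    set p' := upd2 j p (π (p.1 j)) (π (p.2 j)) with hp'
    have hrow' : ∀ (x z : Fin (t + 2) → Fin 3), (sgl j a).val x z = if z = Function.update x j (π (x j)) then 1 else 0 := by
      intro x z
      rw [sgl_coe, S_apply, ha]
      by_cases h : z = Function.update x j (π (x j))
      · subst h
        rw [if_pos (fun i hi => by rw [Function.update_of_ne hi]), Function.update_self, if_pos rfl, if_pos rfl]
      · rw [if_neg h]
        split_ifs with h1 h2
        · refine absurd (funext fun i => ?_) h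
          rcases eq_or_ne i j with rfl | hi
          · rw [Function.update_self, h2]
          · rw [Function.update_of_ne hi, h1 i hi]
        · rfl
        · rfl
    have hd : ∀ r q : (Fin (t + 2) → Fin 3) × (Fin (t + 2) → Fin 3),
        (dbl (sgl j a)).val r q = if q = upd2 j r (π (r.1 j)) (π (r.2 j)) then 1 else 0 := by
      rintro ⟨r1, r2⟩ ⟨q1, q2⟩
      rw [dbl_coe, kroneckerMap_apply, hrow', hrow']
      simp only [upd2, Prod.mk.injEq, ite_mul, one_mul, zero_mul, ← ite_and]
    have e := congrFun (congrFun hg p) p'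
    rw [Matrix.mul_apply, Matrix.mul_apply, Finset.sum_eq_single p' (fun r _ hr => by rw [hd, if_neg hr, zero_mul]) (by simp),
      Finset.sum_eq_single p (fun r _ hr => by
        rw [hd, if_neg, mul_zero]
        intro h
        refine hr (Prod.ext (funext fun i => ?_) (funext fun i => ?_))
        · have h1 := congrFun (congrArg Prod.fst h) i
          rcases eq_or_ne i j with rfl | hi
          · simpa [p', upd2] using h1.symm
          · simpa [p', upd2, Function.update_of_ne hi] using h1.symm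
        · have h1 := congrFun (congrArg Prod.snd h) i
          rcases eq_or_ne i j with rfl | hi
          · simpa [p', upd2] using h1.symm
          · simpa [p', upd2, Function.update_of_ne hi] using h1.symm) (by simp)] at e
    rw [hd, if_pos rfl, one_mul, mul_one] at e
    exact e.symm
  let p₀ : (Fin (t + 2) → Fin 3) × (Fin (t + 2) → Fin 3) := (fun _ => 0, fun _ => 1)
  have hconst : ∀ (u : Finset (Fin (t + 2))) p, (∀ j, p.1 j ≠ p.2 j) → (∀ j ∉ u, p.1 j = 0 ∧ p.2 j = 1) →
      err p p = err p₀ p₀ := by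
    intro u
    induction u using Finset.induction with
    | empty =>
      intro p _ h0
      have e : p = p₀ := Prod.ext (funext fun j => (h0 j (by simp)).1) (funext fun j => (h0 j (by simp)).2)
      rw [e]
    | insert j u hju ih =>
      intro p h h0
      obtain ⟨π, hπ⟩ : ∃ π : Equiv.Perm (Fin 3), π (p.1 j) = 0 ∧ π (p.2 j) = 1 := by
        have key : ∀ a b : Fin 3, a ≠ b → ∃ π : Equiv.Perm (Fin 3), π a = 0 ∧ π b = 1 := by decide
        exact key _ _ (h j)
      rw [hperm j π p, hπ.1, hπ.2]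
      refine ih _ (fun l => ?_) fun l hl => ?_
      · rcases eq_or_ne l j with rfl | hlj
        · simp [upd2]
        · simpa [upd2, Function.update_of_ne hlj] using h l
      · rcases eq_or_ne l j with rfl | hlj
        · simp [upd2]
        · simpa [upd2, Function.update_of_ne hlj] using h0 l (by simp [hlj, hl])
  have herr : err = err p₀ p₀ • dlt F (t + 2) := by
    ext p q
    rw [Matrix.smul_apply, dlt_entry, smul_eq_mul]
    split_ifs with h
    · rw [mul_one, hdiag Finset.univ p q h (fun j hj => absurd (Finset.mem_univ j) hj),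
        hconst Finset.univ p (fun j => (h j).1) (fun j hj => absurd (Finset.mem_univ j) hj)]
    · rw [mul_zero]
      by_contra h'
      exact h (hpair p q h')
  exact ⟨err p₀ p₀, fun g hg => by rw [← herr]; exact hfix g hg⟩

theorem zero_or_one (hq : Fintype.card F = 2) (c : F) : c = 0 ∨ c = 1 := by
  classical
  by_contra hc
  push Not at hc
  have h : ({0, 1, c} : Finset F).card = 3 := Finset.card_eq_three.2 ⟨0, 1, c, zero_ne_one, hc.1.symm, hc.2.symm, rfl⟩
  have := Finset.card_le_univ ({0, 1, c} : Finset F)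
  omega

/-- at least three slots -/
theorem level_binary [CharP F 2] (hq : Fintype.card F = 2) {o : Fin 3} (IH : Level (F := F) o (t + 1)) :
    Level (F := F) o (t + 2) := by
  intro G hB hT g hg
  change g ∈ Wr F 3 (t + 1 + 2)
  classical
  obtain ⟨c₁, h1⟩ := exists_coeff IH hB hT (s := 1)
  obtain ⟨c₂, h2⟩ := exists_coeff IH hB hT (s := 2)
  have e1 := h1 g hg
  have e2 := h2 g hg
  rcases zero_or_one hq c₁ with rfl | rfl
  · rw [zero_smul, add_zero] at e1
    exact mem_of_f1 (Nat.succ_pos _) fun M => ctr_equiv e1 M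
  rw [one_smul] at e1
  -- it suffices that the last level is preserved
  have done : (∀ M, ctr (dlt F (t + 1 + 2)) (conjMat g M) = conjMat g (ctr (dlt F (t + 1 + 2)) M)) →
      g ∈ Wr F 3 (t + 1 + 2) := fun hd => mem_of_f1 (Nat.succ_pos _) fun M => by
    have e := ctr_equiv e1 M
    rwa [ctr_add, ctr_add, map_add, hd, add_left_inj] at e
  rcases zero_or_one hq c₂ with rfl | rfl
  · rw [zero_smul, add_zero] at e2
    rcases Nat.eq_zero_or_pos t with rfl | ht
    · refine done fun M => ctr_equiv ?_ M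
      have e := congrArg₂ (· * ·) e1 e2
      simp only [← map_mul, add_mul, (fs_mul_dlt 2 (by norm_num)).2, add_zero] at e
      rw [show fs F (0 + 1 + 2) 1 * fs F (0 + 1 + 2) 2 = dlt F (0 + 1 + 2) from f1_mul_f2] at e
      exact e
    · refine mem_of_root (le_refl 3) (Nat.succ_pos _) fun i a b hab c => ?_
      obtain ⟨k, hk⟩ := Fintype.exists_ne_of_one_lt_card (by simp) i
      obtain ⟨v, w, hv, hw, hvw⟩ := witness (show 3 ≤ t + 1 + 2 by omega) hk.symm a b hab c
      rw [← hvw, map_add]
      have hv' : ctr (fs F (t + 1 + 2) 2) (conjMat g v) = conjMat g v := by rw [ctr_equiv e2, hv]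
      have hw' : ctr (fs F (t + 1 + 2) 2) (conjMat g w) = conjMat g w := by rw [ctr_equiv e2, hw]
      have e := ctr_equiv e1 (v * w - w * v)
      rw [ctr_add, ctr_add, map_sub (conjMat g), map_mul, map_mul, ← hv', ← hw',
        ctr_dlt_bracket (by omega), add_zero, hv', hw', map_add] at e
      rw [← e]
      exact ctr_f1_mem _
  · rw [one_smul] at e2
    refine done fun M => ?_
    have key : ∀ X, ctr (fs F (t + 1 + 2) 1 + dlt F (t + 1 + 2)) (ctr (fs F (t + 1 + 2) 2 + dlt F (t + 1 + 2)) X) =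
        ctr (dlt F (t + 1 + 2)) X := fun X => by
      rw [ctr_add, ctr_add, map_add, map_add, ctr_fs_comp 1 2 (by norm_num), (ctr_fs_dlt 1 (by omega) X).1,
        (ctr_fs_dlt 2 (by omega) X).2, ctr_dlt_idem, zero_add, zero_add, zero_add]
    rw [← key, ← key, ctr_equiv e2, ctr_equiv e1]

end Cfsg.Agent.TensorWreath
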