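import Cfsg.Agent.Lib.Forms.Max.TensorWreath.Quadratic
import Cfsg.Agent.Aschbacher.WreathTwo

/-!
# Quadratic wreath elements of displacement at most one slot are slot transvections or transpositions
-/

set_option autoImplicit false
set_option linter.unusedSectionVars false

namespace Cfsg.Agent.TensorWreath

open Matrix Cfsg.Agent.Aschbacher

variable {F : Type*} [Field F] {m t : ℕ}

/-- a vector times a tensor -/
def tens (f : Fin m → F) (w : (Fin t → Fin m) → F) : (Fin (t + 1) → Fin m) → F :=
  fun y => f (y 0) * w (Fin.tail y)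

theorem pure_mulVec_tens (X : Fin (t + 1) → Matrix (Fin m) (Fin m) F) (f : Fin m → F) (w : (Fin t → Fin m) → F) :
    pureTensor X *ᵥ tens f w = tens (X 0 *ᵥ f) (pureTensor (fun i => X i.succ) *ᵥ w) := by
  funext x
  simp only [mulVec, dotProduct, tens, Finset.sum_mul, Finset.mul_sum]
  refine (Equiv.sum_comp (Fin.consEquiv (fun _ : Fin (t + 1) => Fin m)) _).symm.trans ?_
  rw [Fintype.sum_prod_type]
  refine Eq.trans ?_ Finset.sum_comm
  refine Finset.sum_congr rfl fun b _ => Finset.sum_congr rfl fun v _ => ?_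
  simp only [Fin.consEquiv, Equiv.coe_fn_mk, Fin.cons_zero, Fin.tail_cons, pureTensor_apply, Fin.prod_univ_succ,
    Fin.cons_succ, Fin.tail]
  ring

theorem S0_mulVec_tens (z : Matrix (Fin m) (Fin m) F) (f : Fin m → F) (w : (Fin t → Fin m) → F) :
    S (0 : Fin (t + 1)) z *ᵥ tens f w = tens (z *ᵥ f) w := by
  rw [slotHom_apply, pure_mulVec_tens, Pi.mulSingle_eq_same]
  have e : (fun i : Fin t => (Pi.mulSingle (0 : Fin (t + 1)) z : Fin (t + 1) → Matrix (Fin m) (Fin m) F) i.succ) = 1 :=
    funext fun i => Pi.mulSingle_eq_of_ne (Fin.succ_ne_zero i) _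
  rw [e, map_one, Matrix.one_mulVec]

theorem tens_combination {r : ℕ} (v : Fin r → Fin m → F) (hv : LinearIndependent F v)
    (w : Fin r → (Fin t → Fin m) → F) (h : ∑ i, tens (v i) (w i) = 0) : ∀ i, w i = 0 := by
  intro i
  funext u
  refine Fintype.linearIndependent_iff.1 hv (fun i => w i u) (funext fun a => ?_) i
  have := congrFun h (Fin.cons a u)
  simpa [tens, Finset.sum_apply, mul_comm] using this

theorem rank_S0_ge {r : ℕ} (z : Matrix (Fin m) (Fin m) F) (f : Fin r → Fin m → F)
    (hf : LinearIndependent F fun i => z *ᵥ f i) : r * m ^ t ≤ (S (0 : Fin (t + 1)) z).rank := by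
  let L : (Fin r × (Fin t → Fin m) → F) →ₗ[F] ((Fin (t + 1) → Fin m) → F) :=
    { toFun := fun c => ∑ i, tens (f i) fun u => c (i, u)
      map_add' := fun a b => by
        rw [← Finset.sum_add_distrib]
        exact Finset.sum_congr rfl fun i _ => funext fun x => mul_add _ _ _
      map_smul' := fun s a => by
        rw [Finset.smul_sum]
        exact Finset.sum_congr rfl fun i _ => funext fun x => by simp [tens]; ring }
  have h := le_rank (S (0 : Fin (t + 1)) z) L fun c hc => by
    have h0 : ∑ i, tens (z *ᵥ f i) (fun u => c (i, u)) = 0 := by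
      rw [← hc]
      simp only [L, LinearMap.coe_mk, AddHom.coe_mk, Matrix.mulVec_sum, S0_mulVec_tens]
    funext iu
    exact congrFun (tens_combination _ hf _ h0 iu.1) iu.2
  simpa using h

theorem rank_S0_le (v φ : Fin m → F) : (S (0 : Fin (t + 1)) (vecMulVec v φ)).rank ≤ m ^ t := by
  classical
  let A : Matrix (Fin (t + 1) → Fin m) (Fin t → Fin m) F := Matrix.of fun x u => if Fin.tail x = u then v (x 0) else 0
  let B : Matrix (Fin t → Fin m) (Fin (t + 1) → Fin m) F := Matrix.of fun u y => if Fin.tail y = u then φ (y 0) else 0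
  have e : S (0 : Fin (t + 1)) (vecMulVec v φ) = A * B := by
    ext x y
    rw [S_apply, Matrix.mul_apply, Finset.sum_eq_single (Fin.tail x) (fun u _ hu => by simp [A, Ne.symm hu]) (by simp)]
    simp only [A, B, of_apply, if_true, vecMulVec_apply]
    by_cases h : Fin.tail y = Fin.tail x
    · rw [if_pos h, if_pos fun i hi => ?_]
      obtain ⟨j, rfl⟩ := Fin.exists_succ_eq.2 hi
      exact (congrFun h j).symm
    · rw [if_neg h, if_neg, mul_zero]
      exact fun h' => h (funext fun j => (h' j.succ (Fin.succ_ne_zero j)).symm)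
  rw [e]
  exact (Matrix.rank_mul_le_left A B).trans ((Matrix.rank_le_card_width A).trans (by simp))

theorem exists_chain (hm : 3 ≤ m) {α : Matrix (Fin m) (Fin m) F} {N : ℕ} (hN : α ^ N = 0) (hα : α ≠ 0) :
    ∃ f e : Fin m → F, α *ᵥ e = 0 ∧ LinearIndependent F ![f, α *ᵥ f, e] := by
  classical
  have hcomp : ∀ a b (v : Fin m → F), α ^ a *ᵥ (α ^ b *ᵥ v) = α ^ (a + b) *ᵥ v := fun a b v => by
    rw [Matrix.mulVec_mulVec, ← pow_add]
  have li : ∀ f g e : Fin m → F, (∀ c₁ c₂ c₃ : F, c₁ • f + c₂ • g + c₃ • e = 0 → c₁ = 0 ∧ c₂ = 0 ∧ c₃ = 0) →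
      LinearIndependent F ![f, g, e] := fun f g e h => Fintype.linearIndependent_iff.2 fun c hc => by
    simp only [Fin.sum_univ_three, Matrix.cons_val_zero, Matrix.cons_val_one, Matrix.cons_val] at hc
    obtain ⟨h1, h2, h3⟩ := h _ _ _ hc
    intro i; fin_cases i <;> assumption
  by_cases h2 : α ^ 2 = 0
  · obtain ⟨f, hf⟩ : ∃ f, α *ᵥ f ≠ 0 := by
      by_contra h
      push Not at h
      exact hα (Matrix.ext_iff_mulVec.2 fun x => by rw [h, Matrix.zero_mulVec])
    have hαα : ∀ v, α *ᵥ (α *ᵥ v) = 0 := fun v => by rw [Matrix.mulVec_mulVec, ← sq, h2, Matrix.zero_mulVec]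
    obtain ⟨e, he, hne⟩ : ∃ e, e ∈ LinearMap.ker α.mulVecLin ∧ e ∉ Submodule.span F {α *ᵥ f} := by
      by_contra h
      push Not at h
      have h1 := Submodule.finrank_mono (show LinearMap.ker α.mulVecLin ≤ Submodule.span F {α *ᵥ f} from h)
      have h3 := Submodule.finrank_mono (show LinearMap.range α.mulVecLin ≤ LinearMap.ker α.mulVecLin from by
        rintro _ ⟨v, rfl⟩; exact hαα v)
      have h4 := LinearMap.finrank_range_add_finrank_ker α.mulVecLin
      rw [finrank_span_singleton hf] at h1
      rw [Module.finrank_fintype_fun_eq_card, Fintype.card_fin] at h4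
      omega
    refine ⟨f, e, he, li _ _ _ fun c₁ c₂ c₃ hc => ?_⟩
    have hc1 : c₁ = 0 := by
      have := congrArg (α *ᵥ ·) hc
      simp only [mulVec_add, mulVec_smul, hαα, show α *ᵥ e = 0 from he, smul_zero, add_zero, mulVec_zero] at this
      exact (smul_eq_zero.1 this).resolve_right hf
    rw [hc1, zero_smul, zero_add] at hc
    have hc3 : c₃ = 0 := by
      by_contra h3
      refine hne (Submodule.mem_span_singleton.2 ⟨-(c₃⁻¹ * c₂), ?_⟩)
      rw [neg_smul, ← smul_smul, eq_neg_of_add_eq_zero_left hc, smul_neg, neg_neg, inv_smul_smul₀ h3]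
    rw [hc3, zero_smul, add_zero] at hc
    exact ⟨hc1, (smul_eq_zero.1 hc).resolve_right hf, hc3⟩
  · have hex : ∃ k, α ^ (k + 1) = 0 := ⟨N, by rw [pow_succ, hN, zero_mul]⟩
    set k := Nat.find hex with hk
    have hk1 : α ^ (k + 1) = 0 := Nat.find_spec hex
    have hk2 : 2 ≤ k := by
      by_contra h
      exact h2 (pow_eq_zero_of_le (by omega) hk1)
    have hk0 : α ^ k ≠ 0 := by
      have := Nat.find_min hex (show k - 1 < k by omega)
      rwa [Nat.sub_add_cancel (by omega)] at this
    obtain ⟨f, hf⟩ : ∃ f, α ^ k *ᵥ f ≠ 0 := by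
      by_contra h
      push Not at h
      exact hk0 (Matrix.ext_iff_mulVec.2 fun x => by rw [h, Matrix.zero_mulVec])
    have hz : ∀ n, k + 1 ≤ n → α ^ n *ᵥ f = 0 := fun n hn => by
      rw [pow_eq_zero_of_le hn hk1, Matrix.zero_mulVec]
    refine ⟨f, α ^ k *ᵥ f, by rw [Matrix.mulVec_mulVec, ← pow_succ']; exact hz _ le_rfl, li _ _ _ fun c₁ c₂ c₃ hc => ?_⟩
    have h1 := congrArg (α ^ k *ᵥ ·) hc
    simp only [mulVec_add, mulVec_smul, hcomp, mulVec_zero] at h1
    rw [show α ^ k *ᵥ (α *ᵥ f) = α ^ (k + 1) *ᵥ f by rw [Matrix.mulVec_mulVec, pow_succ], hz _ le_rfl,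
      hz (k + k) (by omega), smul_zero, smul_zero, add_zero, add_zero] at h1
    have hc1 := (smul_eq_zero.1 h1).resolve_right hf
    rw [hc1, zero_smul, zero_add] at hc
    have h3 := congrArg (α ^ (k - 1) *ᵥ ·) hc
    simp only [mulVec_add, mulVec_smul, hcomp, mulVec_zero] at h3
    rw [show α ^ (k - 1) *ᵥ (α *ᵥ f) = α ^ k *ᵥ f by rw [Matrix.mulVec_mulVec, ← pow_succ, Nat.sub_add_cancel (by omega)],
      hz (k - 1 + k) (by omega), smul_zero, add_zero] at h3
    have hc2 := (smul_eq_zero.1 h3).resolve_right hf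
    rw [hc2, zero_smul, zero_add] at hc
    exact ⟨hc1, hc2, (smul_eq_zero.1 hc).resolve_right hf⟩

/-- two moving slots displace more than one slot -/
theorem rank_pure_two (hm : 3 ≤ m) (X : Fin (t + 1) → Matrix (Fin m) (Fin m) F) {N : ℕ}
    (hN : (X 0 - 1) ^ N = 0) (h0 : X 0 ≠ 1) (hrest : pureTensor (fun i => X i.succ) ≠ 1) :
    m ^ t + 1 ≤ (pureTensor X - 1).rank := by
  obtain ⟨f, e, he, hli⟩ := exists_chain hm hN (sub_ne_zero.2 h0)
  set α := X 0 - 1 with hα
  set B := pureTensor (fun i => X i.succ) with hB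
  obtain ⟨w', hw'⟩ : ∃ w', B *ᵥ w' - w' ≠ 0 := by
    by_contra h
    push Not at h
    exact hrest (Matrix.ext_iff_mulVec.2 fun x => by rw [sub_eq_zero.1 (h x), Matrix.one_mulVec])
  let L : (((Fin t → Fin m) ⊕ Unit) → F) →ₗ[F] ((Fin (t + 1) → Fin m) → F) :=
    { toFun := fun c => tens f (fun u => c (Sum.inl u)) + c (Sum.inr ()) • tens e w'
      map_add' := fun a b => by funext x; simp [tens]; ring
      map_smul' := fun s a => by funext x; simp [tens]; ring }
  have hkey := le_rank (pureTensor X - 1) L fun c hc => by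
    have hX : ∀ v, X 0 *ᵥ v = v + α *ᵥ v := fun v => by
      rw [hα, Matrix.sub_mulVec, Matrix.one_mulVec]; abel
    set w : (Fin t → Fin m) → F := fun u => c (Sum.inl u) with hw
    set s := c (Sum.inr ())
    have h0' : ∑ i, tens (![f, α *ᵥ f, e] i) (![B *ᵥ w - w, B *ᵥ w, s • (B *ᵥ w' - w')] i) = 0 := by
      rw [← hc, Fin.sum_univ_three]
      simp only [L, LinearMap.coe_mk, AddHom.coe_mk, ← hw, Matrix.sub_mulVec, Matrix.one_mulVec, Matrix.mulVec_add,
        Matrix.mulVec_smul, pure_mulVec_tens, ← hB, hX, he, add_zero, Matrix.cons_val_zero, Matrix.cons_val_one,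
        Matrix.cons_val]
      funext x
      simp [tens]
      ring
    have hall := tens_combination _ hli _ h0'
    have hBw : B *ᵥ w = 0 := by simpa using hall 1
    have hw0 : w = 0 := by
      have h1 := hall 0
      simp only [Matrix.cons_val_zero, hBw, zero_sub, neg_eq_zero] at h1
      exact h1
    have hs : s = 0 := by
      have h1 : s • (B *ᵥ w' - w') = 0 := by simpa using hall 2
      exact (smul_eq_zero.1 h1).resolve_right hw'
    funext x
    rcases x with u | u
    · exact congrFun hw0 u
    · exact hs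
  simpa using hkey

theorem pow_nf (σ : Equiv.Perm (Fin t)) (a : Fin t → GL (Fin m) F) :
    ∀ n : ℕ, ∃ b, (permGL σ * pureGL a) ^ n = permGL (σ ^ n) * pureGL b
  | 0 => ⟨1, by simp [permGL_one, pureGL_one]⟩
  | n + 1 => by
    obtain ⟨b, hb⟩ := pow_nf σ a n
    refine ⟨(b ∘ σ) * a, ?_⟩
    rw [pow_succ, hb, pow_succ, ← permGL_mul, ← pureGL_mul]
    have e := perm_pureGL σ (b ∘ σ)
    rw [Function.comp_assoc, Equiv.self_comp_symm, Function.comp_id] at e
    rw [mul_assoc, ← mul_assoc (pureGL b), ← e, mul_assoc, mul_assoc]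

theorem pureGL_pow (a : Fin t → GL (Fin m) F) (n : ℕ) : pureGL a ^ n = pureGL (a ^ n) := by
  induction n with
  | zero => simp [pureGL_one]
  | succ n ih => rw [pow_succ, pow_succ, ih, pureGL_mul]

variable [Fintype F]

/-- normalising a pure tensor of `p`-power order -/
theorem pure_unipotent (p : ℕ) [Fact p.Prime] [CharP F p] (hm : 0 < m) {a : Fin t → GL (Fin m) F}
    (h : pureGL a ^ p = 1) :
    ∃ b : Fin t → GL (Fin m) F, pureGL b = pureGL a ∧ ∀ i, ((b i).val - 1) ^ p = 0 := by
  classical
  haveI : Nonempty (Fin m) := ⟨⟨0, hm⟩⟩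
  rw [pureGL_pow] at h
  choose c hc0 hc using fun i => pure_scalar hm h i
  choose r hr using fun i => (frobeniusEquiv F p).surjective (c i)
  simp only [frobeniusEquiv_apply, frobenius_def] at hr
  have hr0 : ∀ i, r i ≠ 0 := fun i e => hc0 i (by rw [← hr, e, zero_pow (Fact.out : p.Prime).ne_zero])
  let s : Fin t → GL (Fin m) F := fun i =>
    Units.map (algebraMap F (Matrix (Fin m) (Fin m) F) : F →* _) (Units.mk0 (r i) (hr0 i))
  have hsv : ∀ i, (s i).val = algebraMap F _ (r i) := fun i => rfl
  have hbp : ∀ i, (((s i)⁻¹ * a i).val - 1) ^ p = 0 := fun i => by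
    have hcomm : Commute (s i)⁻¹ (a i) := (Units.ext (by rw [Units.val_mul, Units.val_mul, hsv]; exact (Algebra.commutes _ _)) :
      s i * a i = a i * s i) |> fun h => Commute.inv_left h
    rw [sub_pow_char_of_commute _ (Commute.one_right _), one_pow, ← Units.val_pow_eq_pow_val, hcomm.mul_pow,
      Units.val_mul, inv_pow, sub_eq_zero]
    have e : (s i) ^ p = a i ^ p := Units.ext (by
      rw [Units.val_pow_eq_pow_val, hsv, ← map_pow, hr, ← hc]; rfl)
    rw [e, ← Units.val_mul, inv_mul_cancel, Units.val_one]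
  refine ⟨fun i => (s i)⁻¹ * a i, ?_, hbp⟩
  have hR : pureTensor (fun i => (s i).val) = algebraMap F (Matrix (Fin t → Fin m) (Fin t → Fin m) F) (∏ i, r i) := by
    rw [show (fun i => (s i).val) = fun i => r i • (1 : Matrix (Fin m) (Fin m) F) from
      funext fun i => by rw [hsv, Algebra.algebraMap_eq_smul_one], pureTensor_smul,
      show (fun _ : Fin t => (1 : Matrix (Fin m) (Fin m) F)) = 1 from rfl, map_one, Algebra.algebraMap_eq_smul_one]
  have hone : ∏ i, r i = 1 := by
    haveI : Nonempty (Fin t → Fin m) := ⟨fun _ => ⟨0, hm⟩⟩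
    refine (frobenius_inj F p) ?_
    rw [frobenius_def, map_one]
    refine (algebraMap F (Matrix (Fin t → Fin m) (Fin t → Fin m) F)).injective ?_
    rw [map_pow, ← hR, map_one, ← map_pow]
    have e : (fun i => (s i).val) ^ p = fun i => ((a ^ p) i).val := funext fun i => by
      rw [Pi.pow_apply, hsv, ← map_pow, hr, ← hc]
    rw [e, ← pureGL_coe, h, Units.val_one]
  rw [show a = s * fun i => (s i)⁻¹ * a i from funext fun i => (mul_inv_cancel_left _ _).symm, ← pureGL_mul]
  have : pureGL s = 1 := Units.ext (by rw [pureGL_coe, hR, hone, map_one, Units.val_one])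
  rw [this, one_mul]
  congr 1
  funext i
  simp [mul_inv_cancel_left]

/-- elements of small quadratic displacement in the wreath group -/
theorem classify (p : ℕ) [Fact p.Prime] [CharP F p] (hm : 3 ≤ m) (ht : 0 < t)
    {g : GL (Fin t → Fin m) F} (hg : g ∈ Wr F m t) (hsq : (g.val - 1) * (g.val - 1) = 0)
    (hr : (g.val - 1).rank ≤ m ^ (t - 1)) :
    (∃ (i : Fin t) (v φ : Fin m → F) (h : φ ⬝ᵥ v = 0), g = sgl i (trv v φ h)) ∨
      (m = 3 ∧ p = 2 ∧ ∃ (i k : Fin t) (d : Fin t → GL (Fin m) F), i ≠ k ∧
        g = pureGL d * permGL (Equiv.swap i k) * (pureGL d)⁻¹) := by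
  classical
  haveI : Nonempty (Fin m) := ⟨⟨0, by omega⟩⟩
  haveI : Nonempty (Fin t → Fin m) := ⟨fun _ => ⟨0, by omega⟩⟩
  have hp : g ^ p = 1 := Units.ext (by
    have h1 : (g.val - 1) ^ p = 0 := pow_eq_zero_of_le (Fact.out : p.Prime).two_le (by rw [sq, hsq])
    rwa [sub_pow_char_of_commute _ (Commute.one_right _), one_pow, sub_eq_zero, ← Units.val_pow_eq_pow_val] at h1)
  obtain ⟨σ, a, rfl⟩ := exists_nf hg
  by_cases hσ : σ = 1
  · subst hσ
    rw [permGL_one, one_mul] at hp hsq hr ⊢
    obtain ⟨b, hba, hb⟩ := pure_unipotent p (by omega) hp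
    rw [← hba] at hsq hr ⊢
    left
    obtain ⟨t, rfl⟩ : ∃ s, t = s + 1 := ⟨t - 1, by omega⟩
    rw [Nat.add_sub_cancel] at hr
    by_cases hall : ∀ i, b i = 1
    · refine ⟨0, 0, 0, by simp, ?_⟩
      rw [show b = 1 from funext hall, pureGL_one]
      refine Units.ext ?_
      simp [sgl_coe, trv_coe]
    push Not at hall
    obtain ⟨i, hi⟩ := hall
    have hone : ∀ l, l ≠ i → b l = 1 := by
      by_contra hcon
      push Not at hcon
      obtain ⟨l, hl, hbl⟩ := hcon
      let τ := Equiv.swap (0 : Fin (t + 1)) i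
      have hr' : ((pureGL (b ∘ τ.symm)).val - 1).rank ≤ m ^ t := by
        have e := perm_pureGL τ b
        rw [eq_comm, ← eq_mul_inv_iff_mul_eq] at e
        rw [e, rank_conj_sub]; exact hr
      have h0 : (b ∘ τ.symm) 0 = b i := by simp [τ]
      have h2 := rank_pure_two hm (fun j => ((b ∘ τ.symm) j).val) (N := p)
        (by show (((b ∘ τ.symm) 0).val - 1) ^ p = 0; rw [h0]; exact hb i)
        (by show ((b ∘ τ.symm) 0).val ≠ 1; rw [h0]; exact fun e => hi (Units.ext e))
        fun e => by
          obtain ⟨j, hj⟩ : ∃ j : Fin t, j.succ = τ l := Fin.exists_succ_eq.2 fun e => hl (τ.injective (by simp [τ, e]))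
          obtain ⟨c, -, hc⟩ := pure_scalar (a := fun j => (b ∘ τ.symm) j.succ) (by omega)
            (Units.ext e) j
          simp only [Function.comp_apply, hj, Equiv.symm_apply_apply] at hc
          have h3 := hb l
          rw [hc, ← map_one (algebraMap F (Matrix (Fin m) (Fin m) F)), ← map_sub, ← map_pow,
            map_eq_zero_iff _ (algebraMap F (Matrix (Fin m) (Fin m) F)).injective] at h3
          rw [sub_eq_zero.1 (eq_zero_of_pow_eq_zero h3), map_one] at hc
          exact hbl (Units.ext hc)
      rw [pureGL_coe] at hr'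
      omega
    have hbi : pureGL b = sgl i (b i) := by
      rw [sgl_eq]
      congr 1
      funext l
      rcases eq_or_ne l i with rfl | hl
      · simp
      · simp [hone l hl, Pi.mulSingle_eq_of_ne hl]
    rw [hbi] at hr ⊢
    set α := (b i).val - 1 with hα
    obtain ⟨f, hf⟩ : ∃ f, α *ᵥ f ≠ 0 := by
      by_contra h
      push Not at h
      exact hi (Units.ext (sub_eq_zero.1 (Matrix.ext_iff_mulVec.2 fun x => by rw [Matrix.zero_mulVec]; exact h x)))
    have hspan : ∀ x, α *ᵥ x ∈ Submodule.span F {α *ᵥ f} := by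
      intro x
      by_contra hx
      have hr' : (S (0 : Fin (t + 1)) α).rank ≤ m ^ t := by
        rw [← Equiv.swap_apply_right (0 : Fin (t + 1)) i, ← conj_perm_S, rank_conjMat, hα, map_sub, map_one, ← sgl_coe]
        exact hr
      have h2 := rank_S0_ge (t := t) α ![f, x] (Fintype.linearIndependent_iff.2 fun c hc => by
        simp only [Fin.sum_univ_two, Matrix.cons_val_zero, Matrix.cons_val_one] at hc
        have hc1 : c 1 = 0 := by
          by_contra h
          refine hx (Submodule.mem_span_singleton.2 ⟨-((c 1)⁻¹ * c 0), ?_⟩)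
          rw [neg_smul, ← smul_smul, eq_neg_of_add_eq_zero_left hc, smul_neg, neg_neg, inv_smul_smul₀ h]
        rw [hc1, zero_smul, add_zero] at hc
        have hc0 := (smul_eq_zero.1 hc).resolve_right hf
        intro j; fin_cases j <;> assumption)
      have := pow_pos (show 0 < m by omega) t
      omega
    choose φ hφ using fun y => Submodule.mem_span_singleton.1 (hspan (Pi.single y 1))
    have hαv : α = vecMulVec (α *ᵥ f) φ := Matrix.ext fun x y => by
      have h1 := congrFun (hφ y) x
      simp only [Matrix.mulVec_single_one, Pi.smul_apply, smul_eq_mul, Matrix.col_apply] at h1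
      rw [vecMulVec_apply, ← h1, mul_comm]
    set v := α *ᵥ f with hv
    have hαv' : α *ᵥ v = (φ ⬝ᵥ v) • v := by
      conv_lhs => rw [hαv]
      exact vecMulVec_mulVec' _ _ _
    have hk : ∀ n : ℕ, α ^ n *ᵥ v = (φ ⬝ᵥ v) ^ n • v := by
      intro n
      induction n with
      | zero => simp
      | succ n ih => rw [pow_succ, ← Matrix.mulVec_mulVec, hαv', Matrix.mulVec_smul, ih, smul_smul, pow_succ, mul_comm]
    have h0 : φ ⬝ᵥ v = 0 := by
      have := hk p
      rw [hα, hb i, Matrix.zero_mulVec] at this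
      exact eq_zero_of_pow_eq_zero ((smul_eq_zero.1 this.symm).resolve_right hf)
    refine ⟨i, v, φ, h0, ?_⟩
    congr 1
    exact Units.ext (by rw [trv_coe, ← hαv, hα]; abel)
  · right
    obtain ⟨i, hi⟩ : ∃ i, σ i ≠ i := by
      by_contra h
      push Not at h
      exact hσ (Equiv.ext h)
    obtain ⟨rfl, hswap⟩ := moved_bound hm hr hi
    set k := σ i with hk
    have hp2 : p = 2 := by
      by_contra h
      obtain ⟨r, hr2⟩ := (Fact.out : p.Prime).odd_of_ne_two h
      obtain ⟨b, hb⟩ := pow_nf σ a p
      rw [hp] at hb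
      have h1 := perm_eq_one (by omega) hb.symm
      have hsq' : σ * σ = 1 := by rw [hswap, Equiv.swap_mul_self]
      rw [hr2, pow_succ, pow_mul, sq, hsq', one_pow, one_mul] at h1
      exact hσ h1
    refine ⟨rfl, hp2, i, k, ?_⟩
    let d : Fin t → GL (Fin 3) F := Function.update 1 k (a i)⁻¹
    set a' := (d ∘ σ) * a * d⁻¹ with ha'
    have hd : a' i = 1 := by simp [a', d, ← hk, hi.symm]
    have hr' : ((permGL σ * pureGL a').val - 1).rank ≤ 3 ^ (t - 1) := by
      rw [ha', ← conj_pure_nf, rank_conj_sub]; exact hr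
    have hg2 : (permGL σ * pureGL a') ^ 2 = 1 := by
      rw [ha', ← conj_pure_nf, conj_pow, ← hp2, hp, mul_one, mul_inv_cancel]
    have hσσ : σ * σ = 1 := by rw [hswap, Equiv.swap_mul_self]
    have hσk : σ k = i := by rw [hswap, hk]; simp
    obtain ⟨c, hc0, hc⟩ : ∃ c : F, c ≠ 0 ∧ (a' k).val = algebraMap F _ c := by
      have e := perm_pureGL σ (a' ∘ σ)
      rw [Function.comp_assoc, Equiv.self_comp_symm, Function.comp_id] at e
      rw [sq, mul_assoc, ← mul_assoc (pureGL a'), ← e, mul_assoc, pureGL_mul, ← mul_assoc, permGL_mul, hσσ,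
        permGL_one, one_mul] at hg2
      obtain ⟨c, h0, hc⟩ := pure_scalar (by omega) hg2 i
      refine ⟨c, h0, ?_⟩
      rwa [Pi.mul_apply, Function.comp_apply, ← hk, hd, mul_one] at hc
    set g' := (permGL σ * pureGL a').val with hg'
    have hlink : ∀ x y, g' x y ≠ 0 → x k = y i ∧ x i = y k := fun x y h => by
      refine ⟨entry_link hd h, ?_⟩
      rw [hg', mulVec_perm_pure] at h
      by_contra hne
      exact h (Finset.prod_eq_zero (Finset.mem_univ k)
        (by rw [hσk, hc, Matrix.algebraMap_matrix_apply, if_neg hne]))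
    have hik : i ≠ k := hi.symm
    have hinj2 : Function.Injective ![i, k] := fun u v h => by
      fin_cases u <;> fin_cases v <;> first | rfl | (simp at h; first | exact absurd h hik | exact absurd h hik.symm)
    have ht2 : 2 ≤ t := by simpa using Fintype.card_le_of_injective _ hinj2
    have hdiag : ∀ y : Fin t → Fin 3, y i = y k → ∀ x, g' x y = if x = y then 1 else 0 := by
      intro y hy
      by_contra hcon
      push Not at hcon
      obtain ⟨x, hx⟩ := hcon
      let D := {x : Fin t → Fin 3 // x i < x k}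
      let L : ((D ⊕ Unit) → F) →ₗ[F] ((Fin t → Fin 3) → F) :=
        { toFun := fun c => ext0 (fun x : Fin t → Fin 3 => x i < x k) (fun z => c (Sum.inl z)) + c (Sum.inr ()) • Pi.single y 1
          map_add' := fun u v => by
            rw [show (fun z : D => (u + v) (Sum.inl z)) = (fun z => u (Sum.inl z)) + fun z => v (Sum.inl z) from rfl,
              map_add, Pi.add_apply, add_smul]; abel
          map_smul' := fun s u => by
            rw [show (fun z : D => (s • u) (Sum.inl z)) = s • fun z => u (Sum.inl z) from rfl,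
              map_smul, Pi.smul_apply, smul_eq_mul, RingHom.id_apply, smul_add, smul_smul] }
      have h1 := le_rank (g' - 1) L fun c hc' => by
        set v := ext0 (fun x : Fin t → Fin 3 => x i < x k) fun z : D => c (Sum.inl z) with hv
        have hv0 : ∀ z, ¬ z i < z k → v z = 0 := fun z hz => dif_neg hz
        have hyx : x i = x k := by
          rcases ne_or_eq (g' x y) 0 with h | h
          · obtain ⟨e1, e2⟩ := hlink x y h; rw [e2, e1, hy]
          · rcases eq_or_ne x y with rfl | h'
            · exact hy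
            · exact absurd (by rw [h, if_neg h']) hx
        have hs : c (Sum.inr ()) = 0 := by
          have h2 := congrFun hc' x
          have hgv : (g' *ᵥ v) x = 0 := Finset.sum_eq_zero fun z _ => by
            by_cases hz : g' x z = 0
            · simp only [hz, zero_mul]
            · obtain ⟨e1, e2⟩ := hlink x z hz
              simp only [hv0 z (by rw [← e1, ← e2, hyx]; exact lt_irrefl _), mul_zero]
          simp only [L, LinearMap.coe_mk, AddHom.coe_mk, Matrix.sub_mulVec, Matrix.one_mulVec,
            Matrix.mulVec_add, Matrix.mulVec_smul, Matrix.mulVec_single_one, Pi.sub_apply, Pi.add_apply,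
            Pi.smul_apply, Matrix.col_apply, smul_eq_mul, Pi.zero_apply] at h2
          change (g' *ᵥ v) x - v x + c (Sum.inr ()) * (g' - 1) x y = 0 at h2
          rw [hgv, hv0 x (by rw [hyx]; exact lt_irrefl _), sub_zero, zero_add, mul_eq_zero, Matrix.sub_apply,
            Matrix.one_apply, sub_eq_zero] at h2
          exact h2.resolve_right fun h => hx h
        have hvz : v = 0 := eq_zero_of_descent (fun x => x i) (fun x => x k) (fun x y h => (hlink x y h).1)
          hv0 fun z _ => by
            have h2 := congrFun hc' z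
            simp only [L, LinearMap.coe_mk, AddHom.coe_mk, ← hv, hs, zero_smul, add_zero, Matrix.sub_mulVec,
              Matrix.one_mulVec, Pi.sub_apply, Pi.zero_apply, sub_eq_zero] at h2
            exact h2
        funext z
        rcases z with z | z
        · have := congrFun hvz z.1
          simpa [v, ext0, z.2] using this
        · exact hs
      have h2 := card_restrict (m := 3) ![i, k] hinj2 (fun y => y 0 < y 1)
      simp only [Function.comp_apply, Matrix.cons_val_zero, Matrix.cons_val_one] at h2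
      rw [show Nat.card {y : Fin 2 → Fin 3 // y 0 < y 1} = 3 by rw [Nat.card_eq_fintype_card]; decide,
        Nat.card_eq_fintype_card] at h2
      simp only [Fintype.card_sum, Fintype.card_unit] at h1
      have h3 : 3 * 3 ^ (t - 2) + 1 ≤ 3 ^ (t - 1) := h2 ▸ h1.trans hr'
      rw [show t - 1 = t - 2 + 1 by omega, pow_succ] at h3
      omega
    -- hence the pure part is trivial
    have hentry : ∀ x y, g' x y = ∏ l, (a' l).val (x (σ l)) (y l) := fun x y => mulVec_perm_pure x y
    have hsc : ∀ l, ∃ c : F, (a' l).val = algebraMap F _ c := by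
      intro l
      rcases eq_or_ne l i with rfl | hli
      · exact ⟨1, by rw [hd, Units.val_one, map_one]⟩
      rcases eq_or_ne l k with rfl | hlk
      · exact ⟨c, hc⟩
      have hσl : σ l = l := by rw [hswap]; exact Equiv.swap_apply_of_ne_of_ne hli hlk
      have hrest : ∀ u : Fin 3, ∀ j, j ≠ l → (a' j).val (u) (u) ≠ 0 := fun u j _ e => by
        have h1 := hdiag (fun _ => u) rfl (fun _ => u)
        rw [if_pos rfl, hentry, Finset.prod_eq_zero (Finset.mem_univ j) e] at h1
        exact zero_ne_one h1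
      have hsplit : ∀ (b u : Fin 3), g' (Function.update (fun _ => u) l b) (fun _ => u) =
          (a' l).val b u * ∏ j ∈ Finset.univ.erase l, (a' j).val u u := fun b u => by
        rw [hentry, ← Finset.mul_prod_erase _ _ (Finset.mem_univ l), hσl, Function.update_self]
        congr 1
        refine Finset.prod_congr rfl fun j hj => ?_
        rw [Function.update_of_ne fun e => Finset.ne_of_mem_erase hj (σ.injective (e.trans hσl.symm))]
      refine ⟨(a' l).val 0 0, Matrix.ext fun b u => ?_⟩
      rw [Matrix.algebraMap_matrix_apply]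
      rcases eq_or_ne b u with rfl | hbu
      · rw [if_pos rfl]
        let y : Fin t → Fin 3 := Function.update (fun _ => 0) l b
        have h1 := hdiag (fun _ => 0) rfl (fun _ => 0)
        have h2 := hdiag y (by simp [y, Function.update_of_ne hli.symm, Function.update_of_ne hlk.symm]) y
        rw [if_pos rfl, hentry, ← Finset.mul_prod_erase _ _ (Finset.mem_univ l)] at h1 h2
        rw [hσl] at h2
        simp only [y, Function.update_self] at h2
        have e : ∏ j ∈ Finset.univ.erase l, (a' j).val (Function.update (fun _ => (0 : Fin 3)) l b (σ j))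
            (Function.update (fun _ => (0 : Fin 3)) l b j) = ∏ j ∈ Finset.univ.erase l, (a' j).val 0 0 :=
          Finset.prod_congr rfl fun j hj => by
            rw [Function.update_of_ne (Finset.ne_of_mem_erase hj), Function.update_of_ne fun e =>
              Finset.ne_of_mem_erase hj (σ.injective (e.trans hσl.symm))]
        rw [e] at h2
        exact mul_right_cancel₀ (Finset.prod_ne_zero_iff.2 fun j hj => hrest 0 j (Finset.ne_of_mem_erase hj))
          (h2.trans h1.symm)
      · rw [if_neg hbu]
        have h1 := hsplit b u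
        rw [hdiag _ rfl _, if_neg (fun e => hbu (by simpa using congrFun e l))] at h1
        exact (mul_eq_zero.1 h1.symm).resolve_right
          (Finset.prod_ne_zero_iff.2 fun j hj => hrest u j (Finset.ne_of_mem_erase hj))
    choose cs hcs using hsc
    have hprod : ∏ l, cs l = 1 := by
      have h1 := hdiag (fun _ => 0) rfl (fun _ => 0)
      rw [if_pos rfl, hentry] at h1
      simpa [hcs, Matrix.algebraMap_matrix_apply] using h1
    have hone : pureGL a' = 1 := Units.ext (by
      rw [pureGL_coe, show (fun l => (a' l).val) = fun l => cs l • (1 : Matrix (Fin 3) (Fin 3) F) from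
        funext fun l => by rw [hcs, Algebra.algebraMap_eq_smul_one], pureTensor_smul, hprod, one_smul,
        show (fun _ : Fin t => (1 : Matrix (Fin 3) (Fin 3) F)) = 1 from rfl, map_one, Units.val_one])
    refine ⟨d⁻¹, hik, ?_⟩
    rw [← hswap]
    calc permGL σ * pureGL a = (pureGL d)⁻¹ * (pureGL d * (permGL σ * pureGL a) * (pureGL d)⁻¹) * pureGL d := by group
      _ = _ := by rw [conj_pure_nf, ← ha', hone, mul_one]; simp [pureGL_inv]

end Cfsg.Agent.TensorWreath
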