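import Cfsg.Agent.Lib.Forms.Max.TensorWreath.Fixed

/-!
# Fixed tensors read as operators on matrices
-/

set_option autoImplicit false
set_option linter.unusedSectionVars false

namespace Cfsg.Agent.TensorWreath

open Matrix Cfsg.Agent.Aschbacher
open scoped Kronecker

variable {F : Type*} [Field F] {m t : ℕ}

/-- an operator on pairs read as an operator on matrices -/
def ctr {ι : Type*} [Fintype ι] (a : Matrix (ι × ι) (ι × ι) F) : Matrix ι ι F →ₗ[F] Matrix ι ι F where
  toFun M := Matrix.of fun x X => ∑ p : ι × ι, a (x, p.1) (X, p.2) * M p.2 p.1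
  map_add' M N := by ext; simp [mul_add, Finset.sum_add_distrib]
  map_smul' c M := by ext; simp [Finset.mul_sum, mul_left_comm]

theorem ctr_apply {ι : Type*} [Fintype ι] (a : Matrix (ι × ι) (ι × ι) F) (M : Matrix ι ι F) (x X : ι) :
    ctr a M x X = ∑ p : ι × ι, a (x, p.1) (X, p.2) * M p.2 p.1 := rfl

theorem ctr_add {ι : Type*} [Fintype ι] (a b : Matrix (ι × ι) (ι × ι) F) (M : Matrix ι ι F) :
    ctr (a + b) M = ctr a M + ctr b M := by
  ext; simp [ctr_apply, add_mul, Finset.sum_add_distrib]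

theorem ctr_sum {ι α : Type*} [Fintype ι] (s : Finset α) (a : α → Matrix (ι × ι) (ι × ι) F) (M : Matrix ι ι F) :
    ctr (∑ i ∈ s, a i) M = ∑ i ∈ s, ctr (a i) M := by
  ext x X
  simp only [ctr_apply, Matrix.sum_apply, Finset.sum_mul]
  exact Finset.sum_comm

theorem ctr_smul {ι : Type*} [Fintype ι] (c : F) (a : Matrix (ι × ι) (ι × ι) F) (M : Matrix ι ι F) :
    ctr (c • a) M = c • ctr a M := by
  ext; simp [ctr_apply, Finset.mul_sum, mul_assoc]

theorem ctr_mul_left {ι : Type*} [Fintype ι] (A B : Matrix ι ι F) (a : Matrix (ι × ι) (ι × ι) F) (M : Matrix ι ι F) :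
    ctr ((A ⊗ₖ B) * a) M = A * ctr a (M * B) := by
  ext x X
  simp only [ctr_apply, Matrix.mul_apply, kroneckerMap_apply, Fintype.sum_prod_type, Finset.sum_mul, Finset.mul_sum]
  refine ((Finset.sum_congr rfl fun y _ => Finset.sum_comm).trans Finset.sum_comm).trans (Finset.sum_congr rfl fun p₁ _ => ?_)
  refine (Finset.sum_comm.trans (Finset.sum_congr rfl fun Y _ => Finset.sum_comm)).trans (Finset.sum_comm.trans ?_)
  exact Finset.sum_congr rfl fun _ _ => Finset.sum_congr rfl fun _ _ => Finset.sum_congr rfl fun _ _ => by ring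

theorem ctr_mul_right {ι : Type*} [Fintype ι] (C D : Matrix ι ι F) (a : Matrix (ι × ι) (ι × ι) F) (M : Matrix ι ι F) :
    ctr (a * (C ⊗ₖ D)) M = ctr a (D * M) * C := by
  ext x X
  simp only [ctr_apply, Matrix.mul_apply, kroneckerMap_apply, Fintype.sum_prod_type, Finset.sum_mul, Finset.mul_sum]
  refine ((Finset.sum_congr rfl fun y _ => Finset.sum_comm).trans Finset.sum_comm).trans (Finset.sum_congr rfl fun r₁ _ => ?_)
  refine Finset.sum_congr rfl fun y _ => Finset.sum_comm.trans ?_
  exact Finset.sum_congr rfl fun _ _ => Finset.sum_congr rfl fun _ _ => by ring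

theorem ctr_sandwich {ι : Type*} [Fintype ι] (A B C D : Matrix ι ι F) (a : Matrix (ι × ι) (ι × ι) F)
    (M : Matrix ι ι F) : ctr ((A ⊗ₖ B) * a * (C ⊗ₖ D)) M = A * ctr a (D * M * B) * C := by
  rw [ctr_mul_right, ctr_mul_left]

/-- the tensor product of one kernel for each slot -/
def kp (k : Fin t → Matrix (Fin m × Fin m) (Fin m × Fin m) F) :
    Matrix ((Fin t → Fin m) × (Fin t → Fin m)) ((Fin t → Fin m) × (Fin t → Fin m)) F :=
  Matrix.of fun p q => ∏ j, k j (p.1 j, p.2 j) (q.1 j, q.2 j)

theorem kp_mul (k k' : Fin t → Matrix (Fin m × Fin m) (Fin m × Fin m) F) : kp k * kp k' = kp (k * k') := by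
  ext p q
  simp only [kp, Matrix.mul_apply, Matrix.of_apply, ← Finset.prod_mul_distrib, Pi.mul_apply, Fintype.prod_sum]
  exact (Fintype.sum_equiv (Equiv.arrowProdEquivProdArrow (Fin t) (fun _ => Fin m) (fun _ => Fin m)) _ _ fun f => rfl).symm

theorem kp_zero {k : Fin t → Matrix (Fin m × Fin m) (Fin m × Fin m) F} (j : Fin t) (h : k j = 0) : kp k = 0 := by
  ext p q
  rw [kp, Matrix.of_apply, Matrix.zero_apply]
  exact Finset.prod_eq_zero (Finset.mem_univ j) (by simp [h])

theorem ctr_kp_pure (k : Fin t → Matrix (Fin m × Fin m) (Fin m × Fin m) F) (X : Fin t → Matrix (Fin m) (Fin m) F) :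
    ctr (kp k) (pureTensor X) = pureTensor fun j => ctr (k j) (X j) := by
  ext x Y
  simp only [ctr_apply, kp, Matrix.of_apply, pureTensor_apply, ← Finset.prod_mul_distrib, Fintype.prod_sum]
  exact (Fintype.sum_equiv (Equiv.arrowProdEquivProdArrow (Fin t) (fun _ => Fin m) (fun _ => Fin m)) _ _ fun f => rfl).symm

/-- the exchange of the two letters of a slot -/
def sw (F : Type*) [Field F] (m : ℕ) : Matrix (Fin m × Fin m) (Fin m × Fin m) F :=
  Matrix.of fun p q => if q = (p.2, p.1) then 1 else 0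

theorem sw_sq : sw F m * sw F m = 1 := by
  ext p q
  rw [Matrix.mul_apply, Finset.sum_eq_single (p.2, p.1) (fun r _ hr => by simp [sw, hr]) (by simp)]
  simp [sw, Matrix.one_apply, eq_comm]

theorem sw_comm (A : Matrix (Fin m) (Fin m) F) : (A ⊗ₖ A) * sw F m = sw F m * (A ⊗ₖ A) := by
  ext p q
  rw [Matrix.mul_apply, Matrix.mul_apply, Finset.sum_eq_single (q.2, q.1)
    (fun r _ hr => by rw [sw, Matrix.of_apply, if_neg (fun h => hr (by rw [h])), mul_zero]) (by simp),
    Finset.sum_eq_single (p.2, p.1) (fun r _ hr => by simp [sw, hr]) (by simp)]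
  simp [sw, kroneckerMap_apply, mul_comm]

theorem ctr_sw (X : Matrix (Fin m) (Fin m) F) : ctr (sw F m) X = X := by
  ext a b
  rw [ctr_apply, Finset.sum_eq_single (b, a)
    (fun r _ hr => by rw [sw, Matrix.of_apply, if_neg, zero_mul]; intro h; simp at h; exact hr (Prod.ext h.1.symm h.2)) (by simp)]
  simp [sw]

theorem ctr_one (X : Matrix (Fin m) (Fin m) F) : ctr (1 : Matrix (Fin m × Fin m) (Fin m × Fin m) F) X = X.trace • 1 := by
  ext a b
  simp [ctr_apply, Fintype.sum_prod_type, Matrix.one_apply, Matrix.trace, ite_and, Finset.sum_mul]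

theorem trace_pureTensor (X : Fin t → Matrix (Fin m) (Fin m) F) : (pureTensor X).trace = ∏ j, (X j).trace := by
  simp only [Matrix.trace, Matrix.diag, pureTensor_apply, Fintype.prod_sum]

/-- linear properties need only be checked on pure tensors -/
theorem pure_induction {P : Matrix (Fin t → Fin m) (Fin t → Fin m) F → Prop} (h0 : P 0)
    (hadd : ∀ a b, P a → P b → P (a + b)) (hsmul : ∀ (c : F) a, P a → P (c • a))
    (hpure : ∀ X : Fin t → Matrix (Fin m) (Fin m) F, P (pureTensor X)) (M : Matrix (Fin t → Fin m) (Fin t → Fin m) F) : P M := by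
  induction M using Matrix.induction_on' with
  | h_zero => exact h0
  | h_add p q hp hq => exact hadd _ _ hp hq
  | h_std_basis f g c =>
    rw [← mul_one c, ← smul_eq_mul, ← Matrix.smul_single, ← pureTensor_single]
    exact hsmul _ _ (hpure _)

theorem dbl_pure (a : Fin t → GL (Fin m) F) : (dbl (pureGL a)).val = kp fun j => (a j).val ⊗ₖ (a j).val := by
  ext p q
  simp [dbl_coe, pureGL_coe, kp, pureTensor_apply, Finset.prod_mul_distrib]

theorem dbl_perm_apply (π : Equiv.Perm (Fin t)) (p q : (Fin t → Fin m) × (Fin t → Fin m)) :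
    (dbl (permGL π : GL (Fin t → Fin m) F)).val p q = if q = (p.1 ∘ π, p.2 ∘ π) then 1 else 0 := by
  obtain ⟨q1, q2⟩ := q
  simp only [dbl_coe, kroneckerMap_apply, permGL_apply, Prod.mk.injEq, ite_mul, one_mul, zero_mul, ← ite_and]

theorem conj_perm_kp (π : Equiv.Perm (Fin t)) (k : Fin t → Matrix (Fin m × Fin m) (Fin m × Fin m) F) :
    conjMat (dbl (permGL π)) (kp k) = kp (k ∘ π.symm) := by
  rw [conjMat_eq_iff_mul]
  ext p q
  rw [Matrix.mul_apply, Matrix.mul_apply,
    Finset.sum_eq_single (p.1 ∘ π, p.2 ∘ π) (fun r _ hr => by rw [dbl_perm_apply, if_neg hr, zero_mul]) (by simp),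
    Finset.sum_eq_single (q.1 ∘ π.symm, q.2 ∘ π.symm) (fun r _ hr => by
      rw [dbl_perm_apply, if_neg, mul_zero]
      intro h
      refine hr ?_
      rw [h]
      simp [Function.comp_assoc]) (by simp), dbl_perm_apply, dbl_perm_apply]
  simp only [Function.comp_assoc, Equiv.symm_comp_self, Function.comp_id, Prod.mk.eta, if_pos, one_mul, mul_one]
  exact Fintype.prod_equiv π _ _ fun i => by simp

theorem conj_pure_kp (a : Fin t → GL (Fin m) F) (k : Fin t → Matrix (Fin m × Fin m) (Fin m × Fin m) F)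
    (hk : ∀ (j : Fin t) (A : Matrix (Fin m) (Fin m) F), (A ⊗ₖ A) * k j = k j * (A ⊗ₖ A)) :
    conjMat (dbl (pureGL a)) (kp k) = kp k := by
  rw [conjMat_eq_iff_mul, dbl_pure, kp_mul, kp_mul]
  congr 1
  funext j
  exact hk j _

/-- invariance of a permuted family of kernels -/
theorem fixed_sum {α : Type*} (s : Finset α) (k : α → Fin t → Matrix (Fin m × Fin m) (Fin m × Fin m) F)
    (hk : ∀ i j (A : Matrix (Fin m) (Fin m) F), (A ⊗ₖ A) * k i j = k i j * (A ⊗ₖ A))
    (e : Equiv.Perm (Fin t) → α ≃ α) (he : ∀ π i, (e π i ∈ s ↔ i ∈ s) ∧ k i ∘ π.symm = k (e π i))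
    {h : GL (Fin t → Fin m) F} (hh : h ∈ Wr F m t) : conjMat (dbl h) (∑ i ∈ s, kp (k i)) = ∑ i ∈ s, kp (k i) := by
  obtain ⟨π, a, rfl⟩ := exists_nf hh
  rw [map_mul, conjMat_mul, map_sum, Finset.sum_congr rfl fun i _ => conj_pure_kp a (k i) (hk i), map_sum]
  refine Finset.sum_equiv (e π) (fun i => ((he π i).1).symm) fun i _ => ?_
  rw [conj_perm_kp, (he π i).2]

/-- equivariance -/
theorem ctr_equiv {a : Matrix ((Fin t → Fin m) × (Fin t → Fin m)) ((Fin t → Fin m) × (Fin t → Fin m)) F}
    {g : GL (Fin t → Fin m) F} (h : conjMat (dbl g) a = a) (M : Matrix (Fin t → Fin m) (Fin t → Fin m) F) :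
    ctr a (conjMat g M) = conjMat g (ctr a M) := by
  conv_lhs => rw [← h, conjMat_apply, dbl_coe, ← map_inv, dbl_coe, ctr_sandwich]
  rw [conjMat_apply, conjMat_apply]
  congr 2
  have e : (g⁻¹).val * g.val = 1 := by rw [← Units.val_mul, inv_mul_cancel, Units.val_one]
  simp only [← mul_assoc, e, one_mul]
  rw [mul_assoc, e, mul_one]

/-- elements keeping the root vectors in the slot algebras -/
theorem mem_of_root (hm : 3 ≤ m) (ht : 0 < t) {g : GL (Fin t → Fin m) F}
    (hel : ∀ (i : Fin t) (a b : Fin m), a ≠ b → ∀ c : F, conjMat g (S i (Matrix.single a b c)) ∈ L0 F m t) :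
    g ∈ Wr F m t := by
  refine mem_of_L0 hm ht fun v hv => ?_
  suffices hle : L0 F m t ≤ (L0 F m t).comap (conjMat g).toLinearMap from hle hv
  refine L0_le_of (by omega) hel fun i a b hab => ?_
  rw [Submodule.mem_comap]
  have := L0_bracket (hel i a b hab 1) (hel i b a hab.symm 1)
  simpa [map_sub, ← map_mul] using this

/-- the sum of the slot exchanges -/
def swSum (F : Type*) [Field F] (m t : ℕ) : Matrix ((Fin t → Fin m) × (Fin t → Fin m)) ((Fin t → Fin m) × (Fin t → Fin m)) F :=
  ∑ j : Fin t, kp (Function.update 1 j (sw F m))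

theorem swSum_fixed {h : GL (Fin t → Fin m) F} (hh : h ∈ Wr F m t) : conjMat (dbl h) (swSum F m t) = swSum F m t := by
  refine fixed_sum Finset.univ _ (fun i j A => ?_) (fun π => π) (fun π i => ⟨by simp, ?_⟩) hh
  · rcases eq_or_ne j i with rfl | hj
    · rw [Function.update_self]; exact sw_comm A
    · simp [Function.update_of_ne hj]
  · funext j
    rcases eq_or_ne j (π i) with rfl | hj
    · simp
    · rw [Function.comp_apply, Function.update_of_ne hj, Function.update_of_ne (fun h => hj (by rw [← h, π.apply_symm_apply]))]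
      rfl

theorem ctr_swSum_mem {M : Matrix (Fin t → Fin m) (Fin t → Fin m) F} (hM : M.trace = 0) :
    ctr (swSum F m t) M ∈ L0 F m t := by
  rw [swSum, ctr_sum]
  refine Submodule.sum_mem _ fun j _ => ?_
  obtain ⟨z, hz, htr⟩ : ∃ z, ctr (kp (Function.update 1 j (sw F m))) M = S j z ∧ z.trace = M.trace := by
    clear hM
    induction M using pure_induction with
    | h0 => exact ⟨0, by simp⟩
    | hadd a b ha hb =>
      obtain ⟨u, hu, hu'⟩ := ha
      obtain ⟨v, hv, hv'⟩ := hb
      exact ⟨u + v, by rw [map_add, map_add, hu, hv], by rw [trace_add, trace_add, hu', hv']⟩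
    | hsmul c a ha =>
      obtain ⟨u, hu, hu'⟩ := ha
      exact ⟨c • u, by rw [map_smul, map_smul, hu], by rw [trace_smul, trace_smul, hu']⟩
    | hpure X =>
      refine ⟨(∏ l ∈ Finset.univ.erase j, (X l).trace) • X j, ?_, ?_⟩
      · rw [ctr_kp_pure, map_smul, slotHom_apply]
        have e : (fun l => ctr ((Function.update 1 j (sw F m) : Fin t → _) l) (X l)) =
            fun l => (if l = j then 1 else (X l).trace) • (Pi.mulSingle j (X j) : Fin t → _) l := by
          funext l
          rcases eq_or_ne l j with rfl | hl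
          · rw [Function.update_self, ctr_sw, if_pos rfl, Pi.mulSingle_eq_same, one_smul]
          · rw [Function.update_of_ne hl, Pi.one_apply, ctr_one, if_neg hl, Pi.mulSingle_eq_of_ne hl]
        rw [e, pureTensor_smul]
        congr 1
        rw [← Finset.mul_prod_erase _ _ (Finset.mem_univ j), if_pos rfl, one_mul]
        exact Finset.prod_congr rfl fun l hl => if_neg (Finset.ne_of_mem_erase hl)
      · rw [trace_smul, trace_pureTensor, smul_eq_mul, mul_comm]
        exact Finset.mul_prod_erase _ (fun l => (X l).trace) (Finset.mem_univ j)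
  rw [hz]
  exact slI_le j (S_mem_slI j (mem_sl.2 (htr.trans hM)))

theorem mem_of_swSum (hm : 3 ≤ m) (ht : 0 < t) {g : GL (Fin t → Fin m) F}
    (h : conjMat (dbl g) (swSum F m t) = swSum F m t) : g ∈ Wr F m t := by
  classical
  refine mem_of_root hm ht fun i a b hab c => ?_
  let X : Fin t → Matrix (Fin m) (Fin m) F := Function.update (fun _ => Matrix.single a a 1) i (Matrix.single a b c)
  have htr : (pureTensor X).trace = 0 := by
    rw [trace_pureTensor]
    refine Finset.prod_eq_zero (Finset.mem_univ i) ?_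
    simp only [X, Function.update_self]
    exact mem_sl.1 (single_mem_sl hab c)
  have e : S i (Matrix.single a b c) = ctr (swSum F m t) (pureTensor X) := by
    rw [swSum, ctr_sum, Finset.sum_eq_single i (fun j _ hj => ?_) (by simp)]
    · rw [ctr_kp_pure, slotHom_apply]
      congr 1
      funext l
      rcases eq_or_ne l i with rfl | hl
      · simp [X, ctr_sw]
      · simp [X, Function.update_of_ne hl, Pi.mulSingle_eq_of_ne hl, ctr_one, Matrix.trace_single_eq_same]
    · rw [ctr_kp_pure]
      refine pure_zero _ i ?_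
      rw [Function.update_of_ne hj.symm, Pi.one_apply, ctr_one]
      simp [X, mem_sl.1 (single_mem_sl hab c)]
  rw [e, ← ctr_equiv h]
  refine ctr_swSum_mem ?_
  rw [conjMat_apply, Matrix.trace_mul_comm, ← mul_assoc, ← Units.val_mul, inv_mul_cancel, Units.val_one, one_mul, htr]

variable [Fintype F]

/-- tame overgroups in the general case -/
theorem level_general (p : ℕ) [Fact p.Prime] [CharP F p] (hm : 3 ≤ m) (hgen : 4 ≤ m ∨ Fintype.card F ≠ 2) {o : Fin m}
    (IH : Level (F := F) o t) : Level (F := F) o (t + 1) := by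
  intro G hB hT g hg
  obtain ⟨err, hfix, hrow⟩ := exists_err p hm IH hB hT (swSum F m (t + 2)) fun h hh => swSum_fixed hh
  have herr : err = 0 := by
    ext ⟨x, y⟩ q
    obtain ⟨c, hcx, hcy⟩ := exists_third' hm (x 0) (y 0)
    obtain ⟨W, hW⟩ := hrow 0 c
    rw [hW x y hcx.symm hcy.symm, sumE_eq_zero hm hgen]
    simp
  refine mem_of_swSum hm (Nat.succ_pos _) ?_
  have := hfix g hg
  rwa [herr, add_zero] at this

end Cfsg.Agent.TensorWreath
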