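import Cfsg.Agent.Lib.Forms.Max.TensorWreath.Slice

/-!
# One step down the tensor power
-/

set_option autoImplicit false
set_option linter.unusedSectionVars false

namespace Cfsg.Agent.TensorWreath

open Matrix Cfsg.Agent.Aschbacher

variable {F : Type*} [Field F] {m t : ℕ}

/-- the statement proved by induction on the number of slots -/
def Level (o : Fin m) (t : ℕ) : Prop :=
  ∀ G : Subgroup (GL (Fin (t + 1) → Fin m) F), Base G → Tame o G → G ≤ Wr F m (t + 1)

theorem cons_comp_swap (a a' : Fin m) (x : Fin t → Fin m) :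
    (Fin.cons a (Fin.cons a' x) : Fin (t + 2) → Fin m) ∘ (Equiv.swap 0 1 : Equiv.Perm (Fin (t + 2))) =
      Fin.cons a' (Fin.cons a x) := by
  funext i
  induction i using Fin.cases with
  | zero => simp
  | succ i =>
    induction i using Fin.cases with
    | zero => simp
    | succ i =>
      rw [Function.comp_apply, Equiv.swap_apply_of_ne_of_ne (Fin.succ_ne_zero _)
        (fun h => Fin.succ_ne_zero i (Fin.succ_injective _ (h.trans Fin.succ_zero_eq_one.symm)))]
      simp

theorem blk_conj_swap (M : Matrix (Fin (t + 1) → Fin m) (Fin (t + 1) → Fin m) F) (a b : Fin m) :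
    blk (conjMat (permGL (Equiv.swap (0 : Fin (t + 2)) 1)) (lift M)) a b = lift (blk M a b) := by
  ext x y
  rw [blk_apply, conjMat_apply, permGL_inv, mul_assoc, perm_mul_apply, mul_perm_apply, lift_apply, lift_apply,
    blk_apply, ← Fin.cons_self_tail x, ← Fin.cons_self_tail y, Equiv.Perm.inv_def, Equiv.symm_symm,
    cons_comp_swap, cons_comp_swap]
  simp

theorem Base.comap {G : Subgroup (GL (Fin (t + 1) → Fin m) F)} (hG : Base G) : Base (G.comap liftW) :=
  fun j a ha => by rw [Subgroup.mem_comap, liftW_sgl]; exact hG _ a ha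

theorem Tame.comap (hm : 0 < m) {o : Fin m} {G : Subgroup (GL (Fin (t + 2) → Fin m) F)} (hG : Tame o G) :
    Tame o (G.comap liftW) := by
  intro w hw z hz hr b
  set τ := (permGL (Equiv.swap (0 : Fin (t + 2)) 1) : GL (Fin (t + 2) → Fin m) F)
  have e : τ * liftW w * liftW z * (τ * liftW w)⁻¹ = τ * liftW (w * z * w⁻¹) * τ⁻¹ := by
    rw [map_mul, map_mul, map_inv, _root_.mul_inv_rev]; simp [mul_assoc]
  have hb : ∀ a c, blk (τ * liftW w * liftW z * (τ * liftW w)⁻¹).val a c = lift (blk (w * z * w⁻¹).val a c) :=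
    fun a c => by rw [e, ← conjMat_units, liftW_coe, blk_conj_swap]
  obtain ⟨c, hc⟩ := hG _ (mul_mem (permGL_mem _) (liftW_mem hw)) _ hz (fun a c hac => by
    rw [hb, hr a c hac, Matrix.one_apply, Matrix.one_apply, apply_ite lift, map_one, map_zero]) b
  refine ⟨c, lift_injective hm ?_⟩
  rw [← hb, hc, map_smul, map_one]

theorem L0_bracket {x y : Matrix (Fin t → Fin m) (Fin t → Fin m) F} (hx : x ∈ L0 F m t) (hy : y ∈ L0 F m t) :
    x * y - y * x ∈ L0 F m t := by
  induction hy using Submodule.iSup_induction' with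
  | zero => simp
  | add u v _ _ hu hv =>
    convert add_mem hu hv using 1
    noncomm_ring
  | mem j v hv => exact slI_le j (bracket_slI hv hx)

variable [Fintype F]

/-- conjugation keeping the elementary slot transvections inside the wreath group keeps the slot algebras -/
theorem mem_of_conj_wreath (p : ℕ) [Fact p.Prime] [CharP F p] (hm : 3 ≤ m) {w : GL (Fin (t + 1) → Fin m) F}
    (h : ∀ (i : Fin (t + 1)) (a : GL (Fin m) F), a.val.det = 1 → w * sgl i a * w⁻¹ ∈ Wr F m (t + 1)) :
    w ∈ Wr F m (t + 1) := by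
  refine mem_of_L0 hm (Nat.succ_pos _) fun v hv => ?_
  suffices hle : L0 F m (t + 1) ≤ (L0 F m (t + 1)).comap (conjMat w).toLinearMap from hle hv
  have hel : ∀ (i : Fin (t + 1)) (a b : Fin m), a ≠ b → ∀ c : F,
      conjMat w (S i (Matrix.single a b c)) ∈ L0 F m (t + 1) := by
    intro i a b hab c
    obtain ⟨d, hda, hdb⟩ := exists_third' hm a b
    have hsub : (w * sgl i (elU a b hab c) * w⁻¹).val - 1 = conjMat w (S i (Matrix.single a b c)) := by
      rw [conj_val_sub, sgl_coe, elU_coe, map_add, map_one, add_sub_cancel_left]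
    rw [← hsub]
    have hmem := h i _ (elU_det a b hab c)
    rcases classify p hm (Nat.succ_pos t) hmem
      (by rw [hsub, ← map_mul, ← map_mul, Matrix.single_mul_single_of_ne _ _ _ _ hab.symm, map_zero, map_zero])
      (by rw [hsub, rank_conjMat, show Matrix.single a b c = vecMulVec (Pi.single a c) (Pi.single b 1) by
            ext u v; simp [Matrix.single_apply, vecMulVec_apply, Pi.single_apply]; aesop]
          exact rank_S_le _ _ _) with ⟨j, v, φ, hφ, e⟩ | ⟨-, -, j, k, dd, hjk, e⟩
    · rw [e]; exact trv_sub_mem j v φ hφ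
    · exfalso
      refine commutator_ne_swap (by omega) (h i _ (elU_det a d hda.symm c)) (h i _ (elU_det d b hdb (1 : F))) hjk dd ?_
      rw [← e, elU_commutator hab hda.symm hdb, map_mul, map_mul, map_mul, map_inv, map_inv]
      group
  refine L0_le_of (by omega) hel fun i a b hab => ?_
  rw [Submodule.mem_comap]
  have := L0_bracket (hel i a b hab 1) (hel i b a hab.symm 1)
  simpa [map_sub, ← map_mul] using this

variable {o : Fin m}

/-- elements preserving the slice are wreath elements -/
theorem Pair.mem (p : ℕ) [Fact p.Prime] [CharP F p] (hm : 3 ≤ m) (IH : Level (F := F) o t)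
    {G G' : Subgroup (GL (Fin (t + 2) → Fin m) F)} {g : GL (Fin (t + 2) → Fin m) F} (h : Pair o G G' g) :
    g ∈ Wr F m (t + 2) := by
  classical
  obtain ⟨b₀, hb₀, -⟩ := exists_third' hm o o
  set w := h.core b₀ hb₀
  have hwr : w ∈ Wr F m (t + 1) := mem_of_conj_wreath p hm fun i a ha =>
    IH _ h.base'.comap (h.tame'.comap (by omega))
      (h.conj_lift hm hb₀ (by rw [liftW_sgl]; exact h.base _ a ha))
  choose M hM using h.row hm
  let M' : Matrix (Fin m) (Fin m) F := Matrix.of M
  have hg : g.val = S 0 M' * lift w.val := (blk (F := F) (m := m) (t := t + 1)).injective (by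
    ext1 a e
    rw [map_mul, blk_S_zero, blk_lift, Matrix.mul_diagonal, Matrix.map_apply, ← Algebra.smul_def]
    exact hM a e)
  have hu : IsUnit M' := by
    rw [← Matrix.mulVec_injective_iff_isUnit]
    refine (injective_iff_map_eq_zero M'.mulVecLin).2 fun z (hz : M' *ᵥ z = 0) => ?_
    have hS : IsUnit (S (0 : Fin (t + 2)) M') := by
      have e : S (0 : Fin (t + 2)) M' = (g * (liftW w)⁻¹).val := by
        rw [Units.val_mul, hg, mul_assoc, ← liftW_coe, ← Units.val_mul, mul_inv_cancel, Units.val_one, mul_one]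
      rw [e]; exact Units.isUnit _
    have h1 : S (0 : Fin (t + 2)) M' *ᵥ tens z (fun _ => (1 : F)) = 0 := by
      rw [S0_mulVec_tens, hz]; funext x; simp [tens]
    have h2 := Matrix.mulVec_injective_of_isUnit hS (h1.trans (Matrix.mulVec_zero _).symm)
    funext a
    simpa [tens] using congrFun h2 (Fin.cons a fun _ => o)
  obtain ⟨u, hu⟩ := hu
  have e : g = sgl 0 u * liftW w := Units.ext (by rw [hg, Units.val_mul, sgl_coe, hu, liftW_coe])
  rw [e]
  exact mul_mem (sgl_mem _ _) (liftW_mem hwr)

end Cfsg.Agent.TensorWreath
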