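import Cfsg.Agent.Lib.Forms.Max.TensorWreath.Classify

/-!
# Slot transvections, lifts and the tame hypothesis
-/

set_option autoImplicit false
set_option linter.unusedSectionVars false

namespace Cfsg.Agent.TensorWreath

open Matrix Cfsg.Agent.Aschbacher

variable {F : Type*} [Field F] {m t : ℕ}

/-- a block scalar matrix -/
def lift : Matrix (Fin t → Fin m) (Fin t → Fin m) F →ₐ[F]
    Matrix (Fin (t + 1) → Fin m) (Fin (t + 1) → Fin m) F :=
  (blk (F := F) (m := m) (t := t)).symm.toAlgHom.comp (Matrix.scalarAlgHom (Fin m) F)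

theorem blk_lift (v : Matrix (Fin t → Fin m) (Fin t → Fin m) F) :
    blk (lift v) = Matrix.diagonal fun _ => v := by
  simp [lift]

theorem lift_S (i : Fin t) (z : Matrix (Fin m) (Fin m) F) : lift (S i z) = S i.succ z :=
  (blk (F := F) (m := m) (t := t)).injective (by rw [blk_lift, blk_S_succ])

theorem lift_apply (v : Matrix (Fin t → Fin m) (Fin t → Fin m) F) (x y : Fin (t + 1) → Fin m) :
    lift v x y = if x 0 = y 0 then v (Fin.tail x) (Fin.tail y) else 0 := by
  have h := blk_apply (lift v) (x 0) (y 0) (Fin.tail x) (Fin.tail y)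
  rw [Fin.cons_self_tail, Fin.cons_self_tail, blk_lift, Matrix.diagonal_apply] at h
  rw [← h]
  split_ifs <;> rfl

theorem lift_injective (hm : 0 < m) : Function.Injective (lift (F := F) (m := m) (t := t)) := fun u v h => by
  have := congrArg (fun M => blk M ⟨0, hm⟩ ⟨0, hm⟩) h
  simpa [blk_lift] using this

/-- the lift of invertible matrices -/
def liftW : GL (Fin t → Fin m) F →* GL (Fin (t + 1) → Fin m) F :=
  Units.map (lift (F := F) (m := m) (t := t)).toMonoidHom

theorem liftW_coe (v : GL (Fin t → Fin m) F) :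
    (liftW v : Matrix (Fin (t + 1) → Fin m) (Fin (t + 1) → Fin m) F) = lift v.val := rfl

theorem liftW_sgl (i : Fin t) (a : GL (Fin m) F) : liftW (sgl i a) = sgl i.succ a :=
  Units.ext (lift_S i a.val)

theorem lift_pure (X : Fin t → Matrix (Fin m) (Fin m) F) : lift (pureTensor X) = pureTensor (Fin.cons 1 X) := by
  ext x y
  rw [lift_apply, pureTensor_apply, pureTensor_apply, Fin.prod_univ_succ, Fin.cons_zero, Matrix.one_apply]
  simp only [Fin.cons_succ, ite_mul, one_mul, zero_mul]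
  rfl

theorem liftW_mem {w : GL (Fin t → Fin m) F} (hw : w ∈ Wr F m t) : liftW w ∈ Wr F m (t + 1) := by
  obtain ⟨σ, a, rfl⟩ := exists_nf hw
  rw [map_mul]
  refine mul_mem ?_ ?_
  · convert permGL_mem (F := F) (m := m) (Equiv.Perm.decomposeFin.symm (0, σ)) using 1
    refine Units.ext (Matrix.ext fun x y => ?_)
    rw [liftW_coe, lift_apply, permGL_apply, permGL_apply]
    have e : (x ∘ Equiv.Perm.decomposeFin.symm (0, σ)) = Fin.cons (x 0) (Fin.tail x ∘ σ) := by
      funext i
      induction i using Fin.cases with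
      | zero => simp
      | succ i => simp [Fin.tail]
    rw [e]
    by_cases h : x 0 = y 0
    · rw [if_pos h]
      refine if_congr ⟨fun h' => ?_, fun h' => ?_⟩ rfl rfl
      · rw [← Fin.cons_self_tail y, h', h]
      · rw [h', Fin.tail_cons]
    · rw [if_neg h, if_neg]
      rintro rfl
      simp at h
  · convert pureGL_mem (F := F) (m := m) (Fin.cons 1 a) using 1
    refine Units.ext ?_
    rw [liftW_coe, pureGL_coe, lift_pure, pureGL_coe]
    congr 1
    funext i
    induction i using Fin.cases with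
    | zero => simp
    | succ i => simp

/-- elementary transvections -/
def elU (a b : Fin m) (h : a ≠ b) (c : F) : GL (Fin m) F :=
  trv (Pi.single a c) (Pi.single b 1) (by simp [h.symm])

theorem elU_coe (a b : Fin m) (h : a ≠ b) (c : F) :
    (elU a b h c : Matrix (Fin m) (Fin m) F) = 1 + Matrix.single a b c := by
  rw [elU, trv_coe, vecMulVec_eq Unit]
  ext i j
  simp [Matrix.single_apply, Matrix.mul_apply, Pi.single_apply]
  aesop

theorem elU_inv_coe (a b : Fin m) (h : a ≠ b) (c : F) :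
    ((elU a b h c)⁻¹ : GL (Fin m) F).val = 1 - Matrix.single a b c := by
  rw [elU, trv_inv_coe]
  congr 1
  ext i j
  simp [Matrix.single_apply, vecMulVec_apply, Pi.single_apply]
  aesop

theorem trv_det (v φ : Fin m → F) (h : φ ⬝ᵥ v = 0) : (trv v φ h).val.det = 1 :=
  Aschbacher.mem_specialLinear.1 (trv_mem_SL v φ h)

theorem elU_det (a b : Fin m) (h : a ≠ b) (c : F) : (elU a b h c).val.det = 1 := trv_det _ _ _

theorem elU_commutator {a b d : Fin m} (hab : a ≠ b) (had : a ≠ d) (hdb : d ≠ b) (c : F) :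
    elU a b hab c = elU a d had c * elU d b hdb 1 * (elU a d had c)⁻¹ * (elU d b hdb 1)⁻¹ := by
  rw [eq_mul_inv_iff_mul_eq, eq_mul_inv_iff_mul_eq]
  refine Units.ext ?_
  simp only [Units.val_mul, elU_coe, mul_add, add_mul, one_mul, mul_one, Matrix.single_mul_single_same,
    Matrix.single_mul_single_of_ne _ _ _ _ hab.symm, Matrix.single_mul_single_of_ne _ _ _ _ hdb,
    Matrix.single_mul_single_of_ne _ _ _ _ hab, Matrix.single_mul_single_of_ne _ _ _ _ had.symm]
  simp [Matrix.single_mul_single_of_ne, had, had.symm, hab, hab.symm, hdb, hdb.symm, mul_assoc]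
  abel

/-- conjugating a slot by a wreath element -/
theorem conj_nf_sgl (σ : Equiv.Perm (Fin t)) (b : Fin t → GL (Fin m) F) (i : Fin t) (a : GL (Fin m) F) :
    permGL σ * pureGL b * sgl i a * (permGL σ * pureGL b)⁻¹ = sgl (σ i) (b i * a * (b i)⁻¹) :=
  Units.ext (by
    rw [← conjMat_units, sgl_coe, conj_nf_S, sgl_coe, conjMat_units])

theorem mul_nf (σ τ : Equiv.Perm (Fin t)) (a b : Fin t → GL (Fin m) F) :
    permGL σ * pureGL a * (permGL τ * pureGL b) = permGL (σ * τ) * pureGL ((a ∘ τ) * b) := by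
  have e := perm_pureGL τ (a ∘ τ)
  rw [Function.comp_assoc, Equiv.self_comp_symm, Function.comp_id] at e
  rw [← permGL_mul, ← pureGL_mul, mul_assoc, mul_assoc, ← mul_assoc (pureGL a), ← e, mul_assoc]

theorem inv_nf (σ : Equiv.Perm (Fin t)) (a : Fin t → GL (Fin m) F) :
    ∃ b, (permGL σ * pureGL a)⁻¹ = permGL σ⁻¹ * pureGL b :=
  ⟨a⁻¹ ∘ σ.symm, inv_eq_of_mul_eq_one_right (by
    rw [mul_nf, mul_inv_cancel, permGL_one, one_mul, ← pureGL_one (F := F) (m := m) (t := t)]
    congr 1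
    funext i
    simp [Equiv.Perm.inv_def])⟩

theorem nf_unique (hm : 2 ≤ m) {σ τ : Equiv.Perm (Fin t)} {a b : Fin t → GL (Fin m) F}
    (h : permGL σ * pureGL a = permGL τ * pureGL b) : σ = τ := by
  obtain ⟨c, hc⟩ := inv_nf τ b
  have h1 : permGL τ⁻¹ * pureGL c * (permGL σ * pureGL a) = 1 := by rw [← hc, h, inv_mul_cancel]
  rw [mul_nf] at h1
  exact (inv_mul_eq_one.1 (perm_eq_one hm h1)).symm

theorem commutator_ne_swap (hm : 2 ≤ m) {x y : GL (Fin t → Fin m) F} (hx : x ∈ Wr F m t) (hy : y ∈ Wr F m t)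
    {i k : Fin t} (hik : i ≠ k) (d : Fin t → GL (Fin m) F) :
    x * y * x⁻¹ * y⁻¹ ≠ pureGL d * permGL (Equiv.swap i k) * (pureGL d)⁻¹ := by
  intro h
  obtain ⟨σ, a, rfl⟩ := exists_nf hx
  obtain ⟨τ, b, rfl⟩ := exists_nf hy
  obtain ⟨a', ha'⟩ := inv_nf σ a
  obtain ⟨b', hb'⟩ := inv_nf τ b
  have e : pureGL d * permGL (Equiv.swap i k) * (pureGL d)⁻¹ =
      permGL (Equiv.swap i k) * pureGL ((d ∘ Equiv.swap i k) * 1 * d⁻¹) := by
    rw [← conj_pure_nf, pureGL_one, mul_one]
  rw [ha', hb', mul_nf, mul_nf, mul_nf, e] at h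
  have h1 := congrArg Equiv.Perm.sign (nf_unique hm h)
  rw [map_mul, map_mul, map_mul, map_inv, map_inv, Equiv.Perm.sign_swap hik] at h1
  simp [mul_assoc, mul_left_comm (Equiv.Perm.sign τ)] at h1

/-- a conjugate subgroup -/
def conjSub (w : GL (Fin t → Fin m) F) (G : Subgroup (GL (Fin t → Fin m) F)) : Subgroup (GL (Fin t → Fin m) F) :=
  G.comap (MulAut.conj w⁻¹).toMonoidHom

theorem mem_conjSub {w : GL (Fin t → Fin m) F} {G : Subgroup (GL (Fin t → Fin m) F)} {x : GL (Fin t → Fin m) F} :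
    x ∈ conjSub w G ↔ w⁻¹ * x * w ∈ G := by
  rw [conjSub, Subgroup.mem_comap, MulEquiv.coe_toMonoidHom, MulAut.conj_apply, inv_inv]

theorem conj_mem_conjSub {w : GL (Fin t → Fin m) F} {G : Subgroup (GL (Fin t → Fin m) F)}
    {x : GL (Fin t → Fin m) F} (hx : x ∈ G) : w * x * w⁻¹ ∈ conjSub w G :=
  mem_conjSub.2 (by simpa [mul_assoc] using hx)

/-- containing the special linear groups of the slots -/
def Base (G : Subgroup (GL (Fin t → Fin m) F)) : Prop :=
  ∀ (j : Fin t) (a : GL (Fin m) F), a.val.det = 1 → sgl j a ∈ G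

theorem Base.conjSub {G : Subgroup (GL (Fin t → Fin m) F)} (hG : Base G) {w : GL (Fin t → Fin m) F}
    (hw : w ∈ Wr F m t) : Base (conjSub w G) := by
  intro j a ha
  obtain ⟨σ, b, hσ⟩ := exists_nf ((Wr F m t).inv_mem hw)
  rw [mem_conjSub]
  have e := conj_nf_sgl σ b j a
  rw [← hσ, inv_inv] at e
  rw [e]
  refine hG _ _ ?_
  simp only [Units.val_mul]
  rw [Matrix.det_units_conj]
  exact ha

/-- the rows of the first slot outside `o` are trivial, as is the diagonal block at `o` -/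
def Rad (o : Fin m) (M : Matrix (Fin (t + 1) → Fin m) (Fin (t + 1) → Fin m) F) : Prop :=
  ∀ a b, ¬(a = o ∧ b ≠ o) → blk M a b = (1 : Matrix (Fin m) (Fin m) (Matrix (Fin t → Fin m) (Fin t → Fin m) F)) a b

/-- radical elements of the conjugates have scalar blocks -/
def Tame (o : Fin m) (G : Subgroup (GL (Fin (t + 1) → Fin m) F)) : Prop :=
  ∀ w ∈ Wr F m (t + 1), ∀ z ∈ G, Rad o (w * z * w⁻¹).val → ∀ b, ∃ c : F,
    blk (w * z * w⁻¹).val o b = c • 1

theorem Tame.self {o : Fin m} {G : Subgroup (GL (Fin (t + 1) → Fin m) F)} (hG : Tame o G)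
    {z : GL (Fin (t + 1) → Fin m) F} (hz : z ∈ G) (hr : Rad o z.val) (b : Fin m) : ∃ c : F, blk z.val o b = c • 1 := by
  simpa using hG 1 (one_mem _) z hz (by simpa using hr) b

theorem Tame.conjSub {o : Fin m} {G : Subgroup (GL (Fin (t + 1) → Fin m) F)} (hG : Tame o G)
    {w : GL (Fin (t + 1) → Fin m) F} (hw : w ∈ Wr F m (t + 1)) : Tame o (conjSub w G) := by
  intro v hv z hz hr b
  have e : v * z * v⁻¹ = v * w * (w⁻¹ * z * w) * (v * w)⁻¹ := by group
  rw [e] at hr ⊢
  exact hG _ (mul_mem hv hw) _ (mem_conjSub.1 hz) hr b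

theorem rank_S_le (i : Fin (t + 1)) (v φ : Fin m → F) : (S i (vecMulVec v φ)).rank ≤ m ^ t := by
  rw [← Equiv.swap_apply_left (0 : Fin (t + 1)) i, ← conj_perm_S, rank_conjMat]
  exact rank_S0_le v φ

theorem sgl_trv_sub (i : Fin t) (v φ : Fin m → F) (h : φ ⬝ᵥ v = 0) :
    (sgl i (trv v φ h)).val - 1 = S i (vecMulVec v φ) := by
  rw [sgl_coe, trv_coe, map_add, map_one, add_sub_cancel_left]

theorem trv_sub_mem (i : Fin t) (v φ : Fin m → F) (h : φ ⬝ᵥ v = 0) :
    (sgl i (trv v φ h)).val - 1 ∈ L0 F m t := by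
  rw [sgl_trv_sub]
  refine slI_le i (S_mem_slI i (mem_sl.2 ?_))
  rw [trace_vecMulVec, dotProduct_comm]
  exact h

/-- containment of the elementary root vectors -/
theorem L0_le_of (hm : 2 ≤ m) {R : Submodule F (Matrix (Fin t → Fin m) (Fin t → Fin m) F)}
    (hsingle : ∀ (i : Fin t) (a b : Fin m), a ≠ b → ∀ c : F, S i (Matrix.single a b c) ∈ R)
    (hdiag : ∀ (i : Fin t) (a b : Fin m), a ≠ b →
      S i (Matrix.single a a (1 : F) - Matrix.single b b 1) ∈ R) : L0 F m t ≤ R := by
  classical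
  refine iSup_le fun i => ?_
  rintro _ ⟨z, hz, rfl⟩
  set a₀ : Fin m := ⟨0, by omega⟩
  have htr : ∑ r, z r r = 0 := mem_sl.1 hz
  have h1 : ∑ r, ∑ u, ((S i (Matrix.single r u (z r u))) -
      if r = u then z r u • S i (Matrix.single a₀ a₀ (1 : F)) else 0) ∈ R := by
    refine Submodule.sum_mem _ fun r _ => Submodule.sum_mem _ fun u _ => ?_
    by_cases h : r = u
    · subst h
      rw [if_pos rfl, show Matrix.single r r (z r r) = z r r • Matrix.single r r (1 : F) by simp [Matrix.smul_single],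
        map_smul, ← smul_sub, ← map_sub]
      rcases eq_or_ne r a₀ with rfl | h0
      · simp
      · exact R.smul_mem _ (hdiag i r a₀ h0)
    · rw [if_neg h, sub_zero]
      exact hsingle i r u h _
  simp only [Finset.sum_sub_distrib, Finset.sum_ite_eq, Finset.mem_univ, if_true] at h1
  rw [← Finset.sum_smul, htr, zero_smul, sub_zero] at h1
  rw [AlgHom.toLinearMap_apply, Matrix.matrix_eq_sum_single z]
  simp only [map_sum]
  exact h1

end Cfsg.Agent.TensorWreath
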