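import Cfsg.Agent.Lib.Forms.Max.TensorWreath.Spread

/-!
# Overgroups which are not tame contain the special linear group
-/

set_option autoImplicit false
set_option linter.unusedSectionVars false

namespace Cfsg.Agent.TensorWreath

open Matrix Cfsg.Agent.Aschbacher

variable {F : Type*} [Field F] {m t : ℕ}

theorem perm_det_sq {σ : Equiv.Perm (Fin t)} (h : σ * σ = 1) : (permGL σ : GL (Fin t → Fin m) F).val.det ^ 2 = 1 := by
  rw [sq, ← Matrix.det_mul, ← Units.val_mul, permGL_mul, h, permGL_one, Units.val_one, Matrix.det_one]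

/-- three-cycles of slots have determinant one -/
theorem three_cycle_mem {a b c : Fin t} (hab : a ≠ b) (hbc : b ≠ c) (hac : a ≠ c) :
    (permGL (Equiv.swap a b * Equiv.swap b c) : GL (Fin t → Fin m) F) ∈ Wr F m t ⊓ Cfsg.Geo.specialLinear (Fin t → Fin m) F := by
  refine ⟨permGL_mem _, Aschbacher.mem_specialLinear.2 ?_⟩
  set σ := Equiv.swap a b * Equiv.swap b c with hσ
  have h3 : σ * σ * σ = 1 := Equiv.ext fun x => by
    rcases eq_or_ne x a with rfl | hxa
    · simp [hσ, Equiv.swap_apply_of_ne_of_ne, hab, hbc, hac, hab.symm, hbc.symm, hac.symm]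
    rcases eq_or_ne x b with rfl | hxb
    · simp [hσ, Equiv.swap_apply_of_ne_of_ne, hab, hbc, hac, hab.symm, hbc.symm, hac.symm]
    rcases eq_or_ne x c with rfl | hxc
    · simp [hσ, Equiv.swap_apply_of_ne_of_ne, hab, hbc, hac, hab.symm, hbc.symm, hac.symm]
    · simp [hσ, Equiv.swap_apply_of_ne_of_ne, hxa, hxb, hxc]
  have e2 : (permGL σ : GL (Fin t → Fin m) F).val.det ^ 2 = 1 := by
    rw [hσ, ← permGL_mul, Units.val_mul, Matrix.det_mul, mul_pow, perm_det_sq (Equiv.swap_mul_self _ _),
      perm_det_sq (Equiv.swap_mul_self _ _), one_mul]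
  have e3 : (permGL σ : GL (Fin t → Fin m) F).val.det ^ 3 = 1 := by
    rw [pow_succ, sq, ← Matrix.det_mul, ← Matrix.det_mul, ← Units.val_mul, ← Units.val_mul, permGL_mul, permGL_mul, h3,
      permGL_one, Units.val_one, Matrix.det_one]
  calc (permGL σ : GL (Fin t → Fin m) F).val.det = (permGL σ : GL (Fin t → Fin m) F).val.det ^ 2 *
        (permGL σ : GL (Fin t → Fin m) F).val.det := by rw [e2, one_mul]
    _ = _ := by rw [← pow_succ, e3]

theorem base_of_le {G : Subgroup (GL (Fin t → Fin m) F)}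
    (hG : Wr F m t ⊓ Cfsg.Geo.specialLinear (Fin t → Fin m) F ≤ G) : Base G :=
  fun j a ha => hG ⟨sgl_mem j a, Aschbacher.mem_specialLinear.2 (sgl_det j ha)⟩

variable {G : Subgroup (GL (Fin (t + 1) → Fin m) F)}

theorem el_row (hm : 3 ≤ m) (hB : Base G) {a c a' : Fin m} (h : a ≠ c) (h' : a' ≠ c)
    {R : Matrix (Fin t → Fin m) (Fin t → Fin m) F} (hR : elB a c h R ∈ G) : elB a' c h' R ∈ G := by
  rcases eq_or_ne a' a with rfl | hne
  · exact hR
  have hu : elB (t := t) a' a hne (1 : Matrix (Fin t → Fin m) (Fin t → Fin m) F) ∈ G := by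
    rw [elB_one]; exact hB 0 _ (elU_det _ _ _ _)
  have e := elB_comm a' a c hne h h' 1 R
  rw [one_mul] at e
  rw [e]
  exact mul_mem (mul_mem (mul_mem hu hR) (inv_mem hu)) (inv_mem hR)

theorem el_col (hm : 3 ≤ m) (hB : Base G) {a c c' : Fin m} (h : a ≠ c) (h' : a ≠ c')
    {R : Matrix (Fin t → Fin m) (Fin t → Fin m) F} (hR : elB a c h R ∈ G) : elB a c' h' R ∈ G := by
  rcases eq_or_ne c c' with rfl | hne
  · exact hR
  have hu : elB (t := t) c c' hne (1 : Matrix (Fin t → Fin m) (Fin t → Fin m) F) ∈ G := by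
    rw [elB_one]; exact hB 0 _ (elU_det _ _ _ _)
  have e := elB_comm a c c' h hne h' R 1
  rw [mul_one] at e
  rw [e]
  exact mul_mem (mul_mem (mul_mem hR hu) (inv_mem hR)) (inv_mem hu)

theorem el_move (hm : 3 ≤ m) (hB : Base G) {a c r s : Fin m} (h : a ≠ c) (h' : r ≠ s)
    {R : Matrix (Fin t → Fin m) (Fin t → Fin m) F} (hR : elB a c h R ∈ G) : elB r s h' R ∈ G := by
  by_cases hrc : r = c
  · obtain ⟨d, hda, hdc⟩ := exists_third' hm a c
    have hrd : r ≠ d := hrc ▸ hdc.symm
    exact el_col hm hB hrd h' (el_row hm hB hda.symm hrd (el_col hm hB h hda.symm hR))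
  · exact el_col hm hB hrc h' (el_row hm hB h hrc hR)

/-- the blocks of the root elements in the group -/
def blockAlg (hm : 3 ≤ m) (hB : Base G) : Subalgebra F (Matrix (Fin t → Fin m) (Fin t → Fin m) F) where
  carrier := {R | ∀ a c (h : a ≠ c), elB a c h R ∈ G}
  mul_mem' {R S} hR hS a c h := by
    obtain ⟨b, hba, hbc⟩ := exists_third' hm a c
    rw [elB_comm a b c hba.symm hbc h R S]
    exact mul_mem (mul_mem (mul_mem (hR a b hba.symm) (hS b c hbc)) (inv_mem (hR a b hba.symm))) (inv_mem (hS b c hbc))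
  one_mem' a c h := by rw [elB_one]; exact hB 0 _ (elU_det _ _ _ _)
  add_mem' {R S} hR hS a c h := by rw [← elB_mul]; exact mul_mem (hR a c h) (hS a c h)
  zero_mem' a c h := by
    have e : elB (t := t) a c h (0 : Matrix (Fin t → Fin m) (Fin t → Fin m) F) = 1 :=
      blk_ext (by rw [blk_elB, Units.val_one, map_one, Matrix.single_zero, add_zero])
    rw [e]; exact one_mem G
  algebraMap_mem' r a c h := by
    rw [Algebra.algebraMap_eq_smul_one, elB_smul_one]; exact hB 0 _ (elU_det _ _ _ _)

theorem mem_blockAlg {hm : 3 ≤ m} {hB : Base G} {R : Matrix (Fin t → Fin m) (Fin t → Fin m) F} :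
    R ∈ blockAlg hm hB ↔ ∀ a c (h : a ≠ c), elB a c h R ∈ G := Iff.rfl

theorem blockAlg_stable (hm : 3 ≤ m) (hB : Base G) : AdStable (blockAlg hm hB) := by
  intro j E _ _ hE R hR a c h
  obtain ⟨u, hu, hu', hud⟩ : ∃ u : GL (Fin m) F, u.val = 1 + E ∧ (u⁻¹).val = 1 - E ∧ u.val.det = 1 := by
    rcases hE with ⟨p, q, hpq, e⟩ | ⟨p, q, q', hpq, hpq', hqq', e⟩
    · exact ⟨elU p q hpq (E p q), by rw [elU_coe, ← e], by rw [elU_inv_coe, ← e], elU_det _ _ _ _⟩
    · have hd : (Pi.single q (1 : F) + Pi.single q' 1) ⬝ᵥ (Pi.single p 1 : Fin m → F) = 0 := by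
        simp [hpq, hpq']
      have hv : vecMulVec (Pi.single p (1 : F)) (Pi.single q (1 : F) + Pi.single q' 1) = E := by
        rw [e, vecMulVec_add]
        congr 1 <;> ext u v <;> simp [Matrix.single_apply, vecMulVec_apply, Pi.single_apply] <;> aesop
      exact ⟨trv _ _ hd, by rw [trv_coe, hv], by rw [trv_inv_coe, hv], trv_det _ _ _⟩
  have hmem : liftW (sgl j u) ∈ G := by rw [liftW_sgl]; exact hB _ _ hud
  have := mul_mem (mul_mem hmem (hR a c h)) (inv_mem hmem)
  rw [conj_lift_elB, conjMat_apply, sgl_coe, hu, ← map_inv, sgl_coe, hu', map_add, map_sub, map_one] at this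
  exact this

theorem elB_S (a c : Fin m) (h : a ≠ c) (i : Fin t) (z : Matrix (Fin m) (Fin m) F) :
    (elB a c h (S i z)).val = 1 + S 0 (Matrix.single a c 1) * S i.succ z := by
  refine (blk (F := F) (m := m) (t := t)).injective ?_
  rw [blk_elB, map_add, map_one, map_mul, blk_S_zero, blk_S_succ, Matrix.map_single, map_one]
  congr 1
  ext1 p q
  rw [Matrix.mul_diagonal, Matrix.single_apply, Matrix.single_apply]
  split_ifs <;> simp

/-- a non-scalar block gives all blocks -/
theorem blockAlg_eq_top (hm : 3 ≤ m) (hG : Wr F m (t + 1) ⊓ Cfsg.Geo.specialLinear (Fin (t + 1) → Fin m) F ≤ G)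
    {R : Matrix (Fin t → Fin m) (Fin t → Fin m) F} (hns : ¬ ∃ r : F, R = r • 1) {a c : Fin m} (h : a ≠ c)
    (hR : elB a c h R ∈ G) : blockAlg hm (base_of_le hG) = ⊤ := by
  classical
  have hB := base_of_le hG
  set A := blockAlg hm hB
  have hRA : R ∈ A := fun r s h' => el_move hm hB h h' hR
  obtain ⟨i, hi⟩ := exists_slot hm (blockAlg_stable hm hB) hRA hns
  have hall : ∀ (k : Fin t) (z : Matrix (Fin m) (Fin m) F), S k z ∈ A := by
    intro k z
    rcases eq_or_ne k i with rfl | hki
    · exact hi z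
    have hoff : ∀ p q, p ≠ q → S k (Matrix.single p q (1 : F)) ∈ A := by
      intro p q hpq r s hrs
      set σ := Equiv.swap (0 : Fin (t + 1)) k.succ * Equiv.swap k.succ i.succ with hσ
      have hik : k.succ ≠ i.succ := fun e => hki (Fin.succ_injective _ e)
      have hmem := hG (three_cycle_mem (F := F) (m := m) (Fin.succ_ne_zero k).symm hik (Fin.succ_ne_zero i).symm)
      have h0 : σ 0 = k.succ := by
        rw [hσ, Equiv.Perm.mul_apply, Equiv.swap_apply_of_ne_of_ne (Fin.succ_ne_zero k).symm (Fin.succ_ne_zero i).symm,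
          Equiv.swap_apply_left]
      have h1 : σ i.succ = 0 := by rw [hσ, Equiv.Perm.mul_apply, Equiv.swap_apply_right, Equiv.swap_apply_right]
      have hin := hi (Matrix.single r s 1) p q hpq
      have hc := mul_mem (mul_mem hmem hin) (inv_mem hmem)
      have e : permGL σ * elB p q hpq (S i (Matrix.single r s 1)) * (permGL σ)⁻¹ =
          elB r s hrs (S k (Matrix.single p q (1 : F))) := by
        refine Units.ext ?_
        rw [← conjMat_units, elB_S, elB_S, map_add, map_one, map_mul, conj_perm_S, conj_perm_S, h0, h1,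
          S_comm (Fin.succ_ne_zero k)]
      rw [← e]
      exact hc
    rw [Matrix.matrix_eq_sum_single z]
    simp only [map_sum]
    refine sum_mem fun p _ => sum_mem fun q _ => ?_
    rw [single_eq_smul p q (z p q), map_smul]
    refine Subalgebra.smul_mem A ?_ _
    obtain ⟨d, hdp, hdq⟩ := exists_third' hm p q
    rcases eq_or_ne p q with rfl | hpq
    · have := A.mul_mem (hoff p d hdp.symm) (hoff d p hdp)
      rwa [← map_mul, Matrix.single_mul_single_same, mul_one] at this
    · exact hoff p q hpq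
  refine top_le_iff.1 ?_
  rw [← adjoin_S]
  refine Algebra.adjoin_le fun M hM => ?_
  obtain ⟨k, z, rfl⟩ := Set.mem_iUnion.1 hM
  exact hall k z

/-- all elementary transvections -/
theorem sl_le_of_top (hm : 3 ≤ m) {hB : Base G} (htop : blockAlg hm hB = ⊤) :
    Cfsg.Geo.specialLinear (Fin (t + 1) → Fin m) F ≤ G := by
  classical
  intro g hg
  let T : Subgroup (SpecialLinearGroup (Fin (t + 1) → Fin m) F) := G.comap SpecialLinearGroup.toGL
  have direct : ∀ {P Q : Fin (t + 1) → Fin m} (hPQ : P ≠ Q), P 0 ≠ Q 0 → ∀ r : F,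
      SpecialLinearGroup.transvection hPQ r ∈ T := by
    intro P Q hPQ h0 r
    have hmem : Matrix.single (Fin.tail P) (Fin.tail Q) r ∈ blockAlg hm hB := by rw [htop]; exact Algebra.mem_top
    have e : elB (P 0) (Q 0) h0 (Matrix.single (Fin.tail P) (Fin.tail Q) r) =
        SpecialLinearGroup.toGL (SpecialLinearGroup.transvection hPQ r) := by
      refine Units.ext ?_
      show 1 + blk.symm (Matrix.single (P 0) (Q 0) (Matrix.single (Fin.tail P) (Fin.tail Q) r)) =
        (SpecialLinearGroup.transvection hPQ r).1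
      rw [SpecialLinearGroup.transvection_coe]
      refine congrArg (1 + ·) ((AlgEquiv.symm_apply_eq _).2 ?_)
      ext a b u v
      rw [blk_apply]
      simp only [Matrix.single_apply]
      by_cases h : P = Fin.cons a u ∧ Q = Fin.cons b v
      · obtain ⟨rfl, rfl⟩ := h
        simp
      · rw [if_neg h]
        split_ifs with h1
        · rw [Matrix.single_apply, if_neg]
          rintro ⟨hu, hv⟩
          exact h ⟨by rw [← h1.1, ← hu, Fin.cons_self_tail], by rw [← h1.2, ← hv, Fin.cons_self_tail]⟩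
        · rfl
    show SpecialLinearGroup.toGL (SpecialLinearGroup.transvection hPQ r) ∈ G
    rw [← e]
    exact hmem _ _ h0
  have all : ∀ (P Q : Fin (t + 1) → Fin m) (hPQ : P ≠ Q) (r : F), SpecialLinearGroup.transvection hPQ r ∈ T := by
    intro P Q hPQ r
    by_cases h0 : P 0 = Q 0
    · obtain ⟨d, hd, -⟩ := exists_third' hm (P 0) (P 0)
      set Z := Function.update P 0 d
      have hZ0 : Z 0 = d := Function.update_self _ _ _
      have hPZ : P ≠ Z := fun e => hd (by rw [← hZ0, ← e])
      have hZQ : Z ≠ Q := fun e => hd (by rw [← hZ0, e, h0])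
      have h1 := direct hPZ (by rw [hZ0]; exact hd.symm) r
      have h2 := direct hZQ (by rw [hZ0, ← h0]; exact hd) 1
      have h1' := direct hPZ (by rw [hZ0]; exact hd.symm) (-r)
      have h2' := direct hZQ (by rw [hZ0, ← h0]; exact hd) (-1)
      have e : SpecialLinearGroup.transvection hPQ r = SpecialLinearGroup.transvection hPZ r *
          SpecialLinearGroup.transvection hZQ 1 * SpecialLinearGroup.transvection hPZ (-r) *
            SpecialLinearGroup.transvection hZQ (-1) := by
        refine Subtype.ext ?_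
        show (SpecialLinearGroup.transvection hPQ r).1 = (SpecialLinearGroup.transvection hPZ r).1 *
          (SpecialLinearGroup.transvection hZQ 1).1 * (SpecialLinearGroup.transvection hPZ (-r)).1 *
            (SpecialLinearGroup.transvection hZQ (-1)).1
        simp only [SpecialLinearGroup.transvection_coe, mul_add, add_mul, one_mul, mul_one,
          Matrix.single_mul_single_same, Matrix.single_mul_single_of_ne _ _ _ _ hPZ.symm,
          Matrix.single_mul_single_of_ne _ _ _ _ hZQ.symm, Matrix.single_mul_single_of_ne _ _ _ _ hPQ.symm, add_zero,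
          zero_mul, zero_add]
        have hneg : ∀ (p q : Fin (t + 1) → Fin m) (s : F), Matrix.single p q (-s) = -Matrix.single p q s :=
          fun p q s => eq_neg_of_add_eq_zero_left (by rw [← Matrix.single_add, neg_add_cancel]; simp)
        simp only [mul_neg, mul_one, neg_mul, neg_neg, hneg]
        abel
      rw [e]
      exact mul_mem (mul_mem (mul_mem h1 h2) h1') h2'
    · exact direct hPQ h0 r
  have hT : T = ⊤ := Classical.Linear.eq_top_of_transvection_mem T all
  let x : SpecialLinearGroup (Fin (t + 1) → Fin m) F := ⟨g.val, mem_specialLinear.1 hg⟩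
  have hx : x ∈ T := hT ▸ Subgroup.mem_top _
  have hxg : SpecialLinearGroup.toGL x = g := Units.ext rfl
  rw [← hxg]; exact hx

/-- groups which are not tame contain the special linear group -/
theorem sl_le_of_not_tame (hm : 3 ≤ m) {o : Fin m}
    (hG : Wr F m (t + 1) ⊓ Cfsg.Geo.specialLinear (Fin (t + 1) → Fin m) F ≤ G) (hT : ¬ Tame o G) :
    Cfsg.Geo.specialLinear (Fin (t + 1) → Fin m) F ≤ G := by
  classical
  unfold Tame at hT
  push Not at hT
  obtain ⟨w, hw, z, hz, hrad, b, hb⟩ := hT
  set G' := conjSub w G with hG'def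
  set SL := Cfsg.Geo.specialLinear (Fin (t + 1) → Fin m) F
  have hconjSL : ∀ (v x : GL (Fin (t + 1) → Fin m) F), x ∈ SL → v * x * v⁻¹ ∈ SL := fun v x hx => by
    rw [Aschbacher.mem_specialLinear] at hx ⊢
    rw [Units.val_mul, Units.val_mul, Matrix.det_units_conj, hx]
  have hG' : Wr F m (t + 1) ⊓ SL ≤ G' := fun x hx => mem_conjSub.2 (hG (Subgroup.mem_inf.2 ⟨(Wr F m (t + 1)).mul_mem ((Wr F m (t + 1)).mul_mem ((Wr F m (t + 1)).inv_mem hw) hx.1) hw, by
    have := hconjSL w⁻¹ x hx.2
    rwa [inv_inv] at this⟩))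
  have hB' := base_of_le hG'
  set z' := w * z * w⁻¹
  have hz' : z' ∈ G' := conj_mem_conjSub hz
  have hbo : b ≠ o := by
    intro e
    refine hb 1 ?_
    rw [e, hrad o o (by simp), Matrix.one_apply_eq, one_smul]
  obtain ⟨c, hcb, hco⟩ := exists_third' hm b o
  set s := sgl (0 : Fin (t + 1)) (elU b c hcb.symm (1 : F)) with hs
  have hsmem : s ∈ G' := hB' 0 _ (elU_det _ _ _ _)
  have hy : z' * s * z'⁻¹ * s⁻¹ ∈ G' := mul_mem (mul_mem (mul_mem hz' hsmem) (inv_mem hz')) (inv_mem hsmem)
  have hy' : z' * s * z'⁻¹ * s⁻¹ = elB o c hco.symm (blk z'.val o b) := by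
    rw [mul_inv_eq_iff_eq_mul, mul_inv_eq_iff_eq_mul]
    refine blk_ext ?_
    set X := blk z'.val - 1 with hX
    have hX0 : ∀ x, x ≠ o → ∀ y, X x y = 0 := fun x hx y => by
      rw [hX, Matrix.sub_apply, hrad x y (fun h => hx h.1), sub_self]
    have hXoo : X o o = 0 := by rw [hX, Matrix.sub_apply, hrad o o (by simp), sub_self]
    have hZ : blk z'.val = 1 + X := by rw [hX]; abel
    have hob : blk z'.val o b = X o b := by rw [hX, Matrix.sub_apply, Matrix.one_apply_ne hbo.symm, sub_zero]
    simp only [Units.val_mul, map_mul, hs, blk_sgl_el', blk_elB, hob, hZ]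
    set E : Matrix (Fin m) (Fin m) (Matrix (Fin t → Fin m) (Fin t → Fin m) F) := Matrix.single b c 1
    have hEX : E * X = 0 := by
      ext1 x y
      rcases eq_or_ne x b with rfl | hx
      · rw [Matrix.single_mul_apply_same, hX0 c hco, mul_zero, Matrix.zero_apply]
      · rw [Matrix.single_mul_apply_of_ne _ _ _ _ _ hx, Matrix.zero_apply]
    have hXE : X * E = Matrix.single o c (X o b) := by
      ext1 x y
      rcases eq_or_ne y c with rfl | hy
      · rw [Matrix.mul_single_apply_same, mul_one, Matrix.single_apply]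
        split_ifs with h
        · rw [h.1]
        · exact hX0 x (fun hx => h ⟨hx.symm, rfl⟩) _
      · rw [Matrix.mul_single_apply_of_ne _ _ _ _ _ hy, Matrix.single_apply, if_neg fun h => hy h.2.symm]
    have hFE : Matrix.single o c (X o b) * E = 0 := Matrix.single_mul_single_of_ne _ _ _ _ hcb _
    have hFX : Matrix.single o c (X o b) * X = 0 := by
      ext1 x y
      rcases eq_or_ne x o with rfl | hx
      · rw [Matrix.single_mul_apply_same, hX0 c hco, mul_zero, Matrix.zero_apply]
      · rw [Matrix.single_mul_apply_of_ne _ _ _ _ _ hx, Matrix.zero_apply]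
    simp only [mul_add, add_mul, one_mul, mul_one, ← mul_assoc, hEX, hXE, hFE, hFX, zero_mul, add_zero]
    abel
  have htop := blockAlg_eq_top hm hG' (fun ⟨r, hr⟩ => hb r hr) hco.symm (hy' ▸ hy)
  have hle := sl_le_of_top hm htop
  intro x hx
  have h1 := mem_conjSub.1 (hle (hconjSL w x hx))
  have e : w⁻¹ * (w * x * w⁻¹) * w = x := by group
  rwa [e] at h1
where
  blk_sgl_el' : ∀ {a b : Fin m} {h : a ≠ b}, blk (sgl (0 : Fin (t + 1)) (elU a b h (1 : F))).val = 1 + Matrix.single a b 1 :=
    fun {a b h} => by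
      rw [sgl_coe, elU_coe, map_add, map_one, map_add, map_one, blk_S_zero, Matrix.map_single, map_one]

end Cfsg.Agent.TensorWreath
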