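import Cfsg.Agent.Lib.Forms.Max.TensorWreath.Good

/-!
# Tame overgroups fix the tensors fixed by the wreath group, up to sums over slot transvections
-/

set_option autoImplicit false
set_option linter.unusedSectionVars false

namespace Cfsg.Agent.TensorWreath

open Matrix Cfsg.Agent.Aschbacher
open scoped Kronecker

variable {F : Type*} [Field F] {m t : ℕ}

/-- the action on the tensor square -/
def dbl : GL (Fin t → Fin m) F →* GL ((Fin t → Fin m) × (Fin t → Fin m)) F :=
  Units.map
    { toFun := fun M => M ⊗ₖ M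
      map_one' := one_kronecker_one
      map_mul' := fun A B => mul_kronecker_mul A B A B }

theorem dbl_coe (g : GL (Fin t → Fin m) F) : (dbl g).val = g.val ⊗ₖ g.val := rfl

/-- sums over a free orbit space -/
theorem sum_free {A α M : Type*} [Fintype A] [AddGroup A] [DecidableEq α] [AddCommMonoid M] (e : A → α → α)
    (he0 : ∀ x, e 0 x = x) (hadd : ∀ a b x, e (a + b) x = e a (e b x)) (f : α → M) (L : A → M →+ M)
    (hf : ∀ a x, f (e a x) = L a (f x)) :
    ∀ s : Finset α, (∀ a, ∀ x ∈ s, e a x ∈ s) → (∀ a, ∀ x ∈ s, e a x = x → a = 0) →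
      ∃ w, ∑ x ∈ s, f x = ∑ a, L a w := by
  intro s
  induction s using Finset.strongInduction with
  | H s ih =>
    intro hinv hfree
    rcases s.eq_empty_or_nonempty with rfl | ⟨x, hx⟩
    · exact ⟨0, by simp⟩
    classical
    set O := Finset.univ.image fun a => e a x
    have hOs : O ⊆ s := by
      intro y hy
      obtain ⟨a, -, rfl⟩ := Finset.mem_image.1 hy
      exact hinv a x hx
    have hinj : Function.Injective fun a => e a x := fun a b (h : e a x = e b x) => by
      have h1 : e (-b + a) x = x := by rw [hadd, h, ← hadd, neg_add_cancel, he0]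
      exact (neg_add_eq_zero.1 (hfree _ x hx h1)).symm
    have hxO : x ∈ O := Finset.mem_image.2 ⟨0, Finset.mem_univ _, he0 x⟩
    obtain ⟨w, hw⟩ := ih (s \ O) (Finset.ssubset_iff_subset_ne.2 ⟨Finset.sdiff_subset, fun h => by
        have := h.symm ▸ hx
        exact (Finset.mem_sdiff.1 this).2 hxO⟩)
      (fun a y hy => by
        obtain ⟨hy1, hy2⟩ := Finset.mem_sdiff.1 hy
        refine Finset.mem_sdiff.2 ⟨hinv a y hy1, fun h => hy2 ?_⟩
        obtain ⟨b, -, hb⟩ := Finset.mem_image.1 h
        exact Finset.mem_image.2 ⟨-a + b, Finset.mem_univ _, by rw [hadd, hb, ← hadd, neg_add_cancel, he0]⟩)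
      (fun a y hy => hfree a y (Finset.mem_sdiff.1 hy).1)
    refine ⟨w + f x, ?_⟩
    rw [← Finset.sum_sdiff hOs, hw, Finset.sum_image fun a _ b _ h => hinj h, ← Finset.sum_add_distrib]
    exact Finset.sum_congr rfl fun a _ => by rw [map_add, hf]

/-- the elementary group of centre `c` in one slot -/
def tvE (j : Fin t) (c : Fin m) (v : {d : Fin m // d ≠ c} → F) : GL (Fin t → Fin m) F :=
  sgl j (trv (Pi.single c 1) (fun d => if h : d = c then 0 else v ⟨d, h⟩) (by simp))

theorem tvE_coe (j : Fin t) (c : Fin m) (v : {d : Fin m // d ≠ c} → F) :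
    (tvE j c v).val = 1 + S j (vecMulVec (Pi.single c 1) fun d => if h : d = c then 0 else v ⟨d, h⟩) := by
  rw [tvE, sgl_coe, trv_coe, map_add, map_one]

theorem tvE_apply (j : Fin t) (c : Fin m) (v : {d : Fin m // d ≠ c} → F) (x y : Fin t → Fin m) :
    (tvE j c v).val x y = (if x = y then 1 else 0) +
      (if x j = c ∧ (∀ i, i ≠ j → x i = y i) then 1 else 0) * (if h : y j = c then 0 else v ⟨y j, h⟩) := by
  rw [tvE_coe, Matrix.add_apply, Matrix.one_apply, S_apply]
  congr 1
  by_cases h : ∀ i, i ≠ j → x i = y i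
  · rw [if_pos h, vecMulVec_apply, Pi.single_apply, if_congr (and_iff_left h) rfl rfl]
  · rw [if_neg h, if_neg fun h' => h h'.2, zero_mul]

theorem tvE_add (j : Fin t) (c : Fin m) (v w : {d : Fin m // d ≠ c} → F) : tvE j c (v + w) = tvE j c v * tvE j c w := by
  rw [tvE, tvE, tvE, ← map_mul]
  congr 1
  refine Units.ext ?_
  rw [Units.val_mul, trv_coe, trv_coe, trv_coe, mul_add, add_mul, add_mul, one_mul, one_mul, mul_one,
    vecMulVec_mul_vecMulVec]
  have h0 : (fun d => if h : d = c then (0 : F) else v ⟨d, h⟩) ⬝ᵥ (Pi.single c 1 : Fin m → F) = 0 := by simp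
  have h1 : (fun d => if h : d = c then (0 : F) else (v + w) ⟨d, h⟩) =
      (fun d => if h : d = c then (0 : F) else v ⟨d, h⟩) + fun d => if h : d = c then (0 : F) else w ⟨d, h⟩ := by
    funext d; by_cases h : d = c <;> simp [h]
  rw [h0, zero_smul, vecMulVec_zero, add_zero, h1, vecMulVec_add]
  abel

theorem tvE_zero (j : Fin t) (c : Fin m) : tvE j c (0 : {d : Fin m // d ≠ c} → F) = 1 := by
  have h := tvE_add j c (0 : {d : Fin m // d ≠ c} → F) 0
  rw [add_zero] at h
  exact mul_eq_left.1 h.symm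

variable [Fintype F]

/-- the sum of the tensor squares over one elementary group -/
noncomputable def sumE (j : Fin t) (c : Fin m) :
    Matrix ((Fin t → Fin m) × (Fin t → Fin m)) ((Fin t → Fin m) × (Fin t → Fin m)) F :=
  ∑ v : {d : Fin m // d ≠ c} → F, (dbl (tvE j c v)).val

theorem card_cast : (Fintype.card F : F) = 0 := FiniteField.cast_card_eq_zero F

theorem sum_indep {ι : Type*} [Fintype ι] [DecidableEq ι] (d : ι) (f : (ι → F) → F)
    (hf : ∀ v v' : ι → F, (∀ i, i ≠ d → v i = v' i) → f v = f v') : ∑ v, f v = 0 := by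
  classical
  rw [← (Equiv.funSplitAt d F).symm.sum_comp f, Fintype.sum_prod_type]
  rw [Finset.sum_congr rfl (g := fun _ => ∑ r, f ((Equiv.funSplitAt d F).symm (0, r))) fun s _ =>
    Finset.sum_congr rfl fun r _ => hf _ _ fun i hi => by simp [Equiv.funSplitAt, Equiv.piSplitAt, hi]]
  rw [Finset.sum_const, Finset.card_univ, nsmul_eq_mul, card_cast, zero_mul]

theorem sum_quad {ι : Type*} [Fintype ι] [DecidableEq ι] (hι : 2 ≤ Fintype.card ι)
    (h : 3 ≤ Fintype.card ι ∨ Fintype.card F ≠ 2) (b d : ι) : ∑ v : ι → F, v b * v d = 0 := by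
  classical
  by_cases hd : ∃ e, e ≠ b ∧ e ≠ d
  · obtain ⟨e, heb, hed⟩ := hd
    exact sum_indep e _ fun v v' hv => by rw [hv b heb.symm, hv d hed.symm]
  · push Not at hd
    have hbd : b ≠ d := by
      rintro rfl
      obtain ⟨e, he⟩ := Fintype.exists_ne_of_one_lt_card (by omega) b
      exact he (by by_contra h'; exact h' (hd e h'))
    have hcard : Fintype.card ι ≤ 2 := by
      rw [← Finset.card_univ]
      refine (Finset.card_le_card fun e _ => ?_).trans (Finset.card_le_two (a := b) (b := d))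
      by_cases he : e = b
      · simp [he]
      · simp [hd e he]
    obtain ⟨l, hl0, hl1⟩ : ∃ l : F, l ≠ 0 ∧ l ≠ 1 := by
      by_contra hc
      push Not at hc
      refine (h.resolve_left (by omega)) (le_antisymm ?_ Fintype.one_lt_card)
      refine (Finset.card_le_card (fun c _ => ?_ : (Finset.univ : Finset F) ⊆ {0, 1})).trans Finset.card_le_two
      simp only [Finset.mem_insert, Finset.mem_singleton]
      exact or_iff_not_imp_left.2 (hc c)
    have e : ∑ v : ι → F, v b * v d = l * ∑ v : ι → F, v b * v d := by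
      rw [Finset.mul_sum]
      refine (Fintype.sum_equiv (Equiv.piCongrRight fun i => if i = b then Equiv.mulLeft₀ l hl0 else Equiv.refl F)
        _ _ fun v => ?_).symm
      simp [hbd.symm, mul_assoc]
    rcases eq_or_ne (∑ v : ι → F, v b * v d) 0 with h0 | h0
    · exact h0
    · exact absurd ((mul_eq_right₀ h0).1 e.symm) hl1

theorem sum_lin {ι : Type*} [Fintype ι] [DecidableEq ι] (hι : 2 ≤ Fintype.card ι) (b : ι) :
    ∑ v : ι → F, v b = 0 := by
  obtain ⟨e, he⟩ := Fintype.exists_ne_of_one_lt_card (by omega) b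
  exact sum_indep e _ fun v v' hv => hv b he.symm

/-- an entry of the sum: only the quadratic part survives -/
theorem sumE_apply (hm : 3 ≤ m) (j : Fin t) (c : Fin m) (p q : (Fin t → Fin m) × (Fin t → Fin m)) :
    sumE (F := F) j c p q = if h : q.1 j ≠ c ∧ q.2 j ≠ c then
      (if p.1 j = c ∧ p.2 j = c ∧ (∀ i, i ≠ j → p.1 i = q.1 i) ∧ (∀ i, i ≠ j → p.2 i = q.2 i) then 1 else 0) *
        ∑ v : {d : Fin m // d ≠ c} → F, v ⟨q.1 j, h.1⟩ * v ⟨q.2 j, h.2⟩ else 0 := by
  classical
  have hι : 2 ≤ Fintype.card {d : Fin m // d ≠ c} := by rw [Fintype.card_subtype_compl]; simp; omega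
  have h1 : ∀ a : F, ∑ _v : {d : Fin m // d ≠ c} → F, a = 0 := fun a => by
    obtain ⟨e⟩ : Nonempty {d : Fin m // d ≠ c} := Fintype.card_pos_iff.1 (by omega)
    exact sum_indep e _ fun _ _ _ => rfl
  simp only [sumE, Matrix.sum_apply, dbl_coe, kroneckerMap_apply, tvE_apply, add_mul, mul_add, Finset.sum_add_distrib, h1,
    zero_add]
  by_cases hq1 : q.1 j = c
  · simp [hq1]
    by_cases hq2 : q.2 j = c
    · simp [hq2]
    · simp [hq2, ← Finset.mul_sum, sum_lin hι]
  by_cases hq2 : q.2 j = c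
  · simp [hq1, hq2, ← Finset.mul_sum, ← Finset.sum_mul, sum_lin hι]
  simp only [dif_neg hq1, dif_neg hq2]
  rw [dif_pos ⟨hq1, hq2⟩, ← Finset.mul_sum, ← Finset.mul_sum, sum_lin hι, mul_zero, mul_zero, zero_add,
    ← Finset.sum_mul, ← Finset.mul_sum, sum_lin hι, mul_zero, zero_mul, zero_add, Finset.mul_sum]
  refine Finset.sum_congr rfl fun v _ => ?_
  rw [mul_mul_mul_comm]
  congr 1
  split_ifs with a b d <;> simp_all

theorem sumE_eq_zero (hm : 3 ≤ m) (h : 4 ≤ m ∨ Fintype.card F ≠ 2) (j : Fin t) (c : Fin m) :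
    sumE (F := F) j c = 0 := by
  ext p q
  rw [sumE_apply hm, Matrix.zero_apply]
  split_ifs with hq hp
  · rw [sum_quad (by rw [Fintype.card_subtype_compl]; simp; omega) (h.imp_left fun h4 => by
      rw [Fintype.card_subtype_compl]; simp; omega), mul_zero]
  · rw [zero_mul]
  · rfl

/-- a fixed tensor extends to one fixed by the tame overgroup -/
theorem exists_err (p : ℕ) [Fact p.Prime] [CharP F p] (hm : 3 ≤ m) {o : Fin m} (IH : Level (F := F) o t)
    {G : Subgroup (GL (Fin (t + 2) → Fin m) F)} (hB : Base G) (hT : Tame o G)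
    (a : Matrix ((Fin (t + 2) → Fin m) × (Fin (t + 2) → Fin m)) ((Fin (t + 2) → Fin m) × (Fin (t + 2) → Fin m)) F)
    (ha : ∀ h ∈ Wr F m (t + 2), conjMat (dbl h) a = a) :
    ∃ err, (∀ g ∈ G, conjMat (dbl g) (a + err) = a + err) ∧
      ∀ (j : Fin (t + 2)) (c : Fin m), ∃ W : Matrix ((Fin (t + 2) → Fin m) × (Fin (t + 2) → Fin m))
        ((Fin (t + 2) → Fin m) × (Fin (t + 2) → Fin m)) F, ∀ x y, x j ≠ c → y j ≠ c → ∀ q,
        err (x, y) q = (W * sumE (F := F) j c) (x, y) q := by
  classical
  let H : Subgroup G := (Wr F m (t + 2)).subgroupOf G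
  let f : G ⧸ H → Matrix ((Fin (t + 2) → Fin m) × (Fin (t + 2) → Fin m))
      ((Fin (t + 2) → Fin m) × (Fin (t + 2) → Fin m)) F := fun x => conjMat (dbl (x.out : G).1) a
  have hf : ∀ g : G, f (QuotientGroup.mk g) = conjMat (dbl g.1) a := fun g => by
    obtain ⟨h, hh⟩ := QuotientGroup.mk_out_eq_mul H g
    show conjMat (dbl ((QuotientGroup.mk g : G ⧸ H).out : G).1) a = _
    rw [hh, Subgroup.coe_mul, map_mul, conjMat_mul]
    congr 1
    exact ha _ h.2
  have hsm : ∀ (g : G) (x : G ⧸ H), f (g • x) = conjMat (dbl g.1) (f x) := fun g x => by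
    induction x using QuotientGroup.induction_on with
    | H r =>
      rw [MulAction.Quotient.smul_mk, smul_eq_mul, hf, hf, Subgroup.coe_mul, map_mul, conjMat_mul]
  set x₀ : G ⧸ H := QuotientGroup.mk 1
  refine ⟨∑ x ∈ Finset.univ.erase x₀, f x, fun g hg => ?_, fun j c => ?_⟩
  · have e : a + ∑ x ∈ Finset.univ.erase x₀, f x = ∑ x, f x := by
      rw [← Finset.add_sum_erase _ _ (Finset.mem_univ x₀), hf 1]
      simp [conjMat_apply]
    rw [e, map_sum]
    exact Fintype.sum_equiv (MulAction.toPerm (⟨g, hg⟩ : G)) _ _ fun x => (hsm ⟨g, hg⟩ x).symm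
  · let u : ({d : Fin m // d ≠ c} → F) → G := fun v => ⟨tvE j c v, hB j _ (trv_det _ _ _)⟩
    obtain ⟨w, hw⟩ := sum_free (A := {d : Fin m // d ≠ c} → F) (fun v x => u v • x)
      (fun x => by
        rw [show u 0 = 1 from Subtype.ext (tvE_zero j c)]; exact one_smul _ _)
      (fun v w x => by
        rw [show u (v + w) = u v * u w from Subtype.ext (tvE_add j c v w), mul_smul]) f
      (fun v => (conjMat (dbl (tvE j c v))).toLinearMap.toAddMonoidHom)
      (fun v x => hsm (u v) x) (Finset.univ.erase x₀)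
      (fun v x hx => by
        rw [Finset.mem_erase] at hx ⊢
        refine ⟨fun h => ?_, Finset.mem_univ _⟩
        have h1 : u v • x₀ = x₀ := by
          rw [MulAction.Quotient.smul_mk, smul_eq_mul, mul_one]
          refine QuotientGroup.eq.2 ?_
          rw [mul_one, Subgroup.inv_mem_iff, Subgroup.mem_subgroupOf]
          exact sgl_mem _ _
        exact hx.1 (smul_left_cancel _ (h.trans h1.symm)))
      (fun v x hx h => by
        by_contra hv
        rw [Finset.mem_erase] at hx
        obtain ⟨g, rfl⟩ := QuotientGroup.mk_surjective x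
        rw [MulAction.Quotient.smul_mk, smul_eq_mul, QuotientGroup.eq, Subgroup.mem_subgroupOf] at h
        have hmem : g.1⁻¹ * tvE j c v * g.1 ∈ Wr F m (t + 2) := by
          have := inv_mem h
          simpa [u, mul_assoc] using this
        have hgW := good p hm IH hB hT g.2 j _ _ _ (by simp)
          (fun e => hv (funext fun d => by simpa [dif_neg d.2] using congrFun e d.1)) hmem
        refine hx.1 (QuotientGroup.eq.2 ?_)
        rw [mul_one, Subgroup.inv_mem_iff, Subgroup.mem_subgroupOf]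
        exact hgW)
    refine ⟨w, fun x y hx hy q => ?_⟩
    rw [hw, Matrix.sum_apply]
    have hrow : ∀ v, ∀ r, (dbl (tvE j c v)).val (x, y) r = if (x, y) = r then (1 : F) else 0 := fun v r => by
      rw [dbl_coe, kroneckerMap_apply, tvE_apply, tvE_apply]
      simp only [hx, hy, false_and, if_false, zero_mul, add_zero]
      obtain ⟨r1, r2⟩ := r
      simp only [Prod.mk.injEq, ite_mul, one_mul, zero_mul, ← ite_and]
    have hinv : ∀ v : {d : Fin m // d ≠ c} → F, (dbl (tvE j c v))⁻¹ = dbl (tvE j c (-v)) := fun v =>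
      inv_eq_of_mul_eq_one_right (by
        rw [← map_mul, ← tvE_add, add_neg_cancel, tvE_zero, map_one])
    simp only [sumE]
    rw [Matrix.mul_sum, Matrix.sum_apply]
    refine Fintype.sum_equiv (Equiv.neg _) _ _ fun v => ?_
    show conjMat (dbl (tvE j c v)) w (x, y) q = _
    rw [conjMat_apply, hinv, mul_assoc, Matrix.mul_apply]
    simp [hrow]

end Cfsg.Agent.TensorWreath
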