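import Cfsg.Agent.Lib.Forms.Max.TensorWreath.Swap
import Cfsg.Agent.Lib.Forms.Max.Tensor.Basic

/-!
# A conjugate of a slot transvection inside the wreath group comes from the wreath group
-/

set_option autoImplicit false
set_option linter.unusedSectionVars false

namespace Cfsg.Agent.TensorWreath

open Matrix Cfsg.Agent.Aschbacher

variable {F : Type*} [Field F] {m t : ℕ}

theorem vecMulVec_ne_zero' {v φ : Fin m → F} (hv : v ≠ 0) (hφ : φ ≠ 0) : vecMulVec v φ ≠ 0 := by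
  obtain ⟨a, ha⟩ := Function.ne_iff.1 hv
  obtain ⟨b, hb⟩ := Function.ne_iff.1 hφ
  intro h
  exact mul_ne_zero ha hb (congrFun (congrFun h a) b)

theorem S_ne_zero {i : Fin t} {z : Matrix (Fin m) (Fin m) F} (hm : 0 < m) (hz : z ≠ 0) : S i z ≠ 0 := by
  haveI : Nonempty (Fin t → Fin m) := ⟨fun _ => ⟨0, hm⟩⟩
  exact fun h => hz (algHom_matrix_injective (S (F := F) (m := m) i) (h.trans (map_zero _).symm))

/-- slot transvections are conjugate to those of centre `o` in the first slot -/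
theorem normalize_trv (hm : 3 ≤ m) (o : Fin m) (j : Fin (t + 1)) (v φ : Fin m → F) (h : φ ⬝ᵥ v = 0) (hv : v ≠ 0)
    (hφ : φ ≠ 0) : ∃ W ∈ Wr F m (t + 1), ∃ φ' : Fin m → F, φ' ≠ 0 ∧ φ' o = 0 ∧ ∀ h',
      W * sgl j (trv v φ h) * W⁻¹ = sgl 0 (trv (Pi.single o 1) φ' h') := by
  classical
  obtain ⟨a, -, hav⟩ := Forms.Max.TensorMax.exists_sl_map (by simp; omega) hv
    (show (Pi.single o (1 : F) : Fin m → F) ≠ 0 by simp)
  set φ' := φ ᵥ* (a⁻¹).val
  have hback : φ' ᵥ* a.val = φ := by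
    rw [Matrix.vecMul_vecMul, ← Units.val_mul, inv_mul_cancel, Units.val_one, Matrix.vecMul_one]
  have h0 : φ' ⬝ᵥ (a.val *ᵥ v) = 0 := by rw [dotProduct_mulVec, hback, h]
  obtain ⟨h1, hconj⟩ := Forms.Max.trv_conj a h0
  refine ⟨permGL (Equiv.swap 0 j) * pureGL (fun _ => a), mul_mem (permGL_mem _) (pureGL_mem _), φ', ?_, ?_, fun h' => ?_⟩
  · intro e
    exact hφ (by rw [← hback, e, Matrix.zero_vecMul])
  · simpa [hav] using h0
  · rw [conj_nf_sgl, Equiv.swap_apply_right]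
    congr 1
    have e : trv v φ h = trv v (φ' ᵥ* a.val) h1 := Units.ext (by rw [trv_coe, trv_coe, hback])
    rw [e, hconj]
    exact Units.ext (by rw [trv_coe, trv_coe, hav])

theorem blk_S_vecMulVec (o : Fin m) (φ : Fin m → F) (a b : Fin m) :
    blk (S (0 : Fin (t + 1)) (vecMulVec (Pi.single o 1) φ)) a b = (if a = o then φ b else 0) • 1 := by
  rw [blk_S_zero, Matrix.map_apply, vecMulVec_apply, Algebra.algebraMap_eq_smul_one]
  congr 1
  rw [Pi.single_apply, ite_mul, one_mul, zero_mul]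

/-- a conjugation between two normalised transvections preserves the slice -/
theorem slice_of_conj {o : Fin m} {φu φy : Fin m → F} (hy0 : φy ≠ 0) {hu : φu ⬝ᵥ Pi.single o 1 = 0}
    {hy : φy ⬝ᵥ Pi.single o 1 = 0} {g : GL (Fin (t + 1) → Fin m) F}
    (h : sgl 0 (trv (Pi.single o 1) φu hu) * g = g * sgl 0 (trv (Pi.single o 1) φy hy)) :
    ∀ a, a ≠ o → blk g.val a o = 0 := by
  classical
  intro a ha
  have e := congrArg Units.val h
  rw [Units.val_mul, Units.val_mul, sgl_coe, sgl_coe, trv_coe, trv_coe, map_add, map_add, map_one, add_mul, mul_add,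
    one_mul, mul_one, add_right_inj] at e
  obtain ⟨b, hb⟩ := Function.ne_iff.1 hy0
  have e' := congrArg (fun M => blk M a b) e
  simp only [map_mul, Matrix.mul_apply, blk_S_vecMulVec, if_neg ha, zero_smul, zero_mul, Finset.sum_const_zero] at e'
  rw [Finset.sum_eq_single_of_mem o (Finset.mem_univ o) fun d _ hd => by rw [if_neg hd, zero_smul, mul_zero],
    if_pos rfl, mul_smul_comm, mul_one] at e'
  exact (smul_eq_zero.1 e'.symm).resolve_left hb

theorem eq_third : ∀ {o b d x : Fin 3}, b ≠ o → d ≠ b → d ≠ o → x ≠ o → x ≠ b → x = d := by decide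

variable [Fintype F]

/-- the kernel of the swap case -/
theorem no_swap [CharP F 2] {o : Fin 3} {G₁ G₂ : Subgroup (GL (Fin (t + 1) → Fin 3) F)}
    (hG₁ : Base G₁) (hG₂ : Base G₂) (ht₂ : Tame o G₂)
    {g : GL (Fin (t + 1) → Fin 3) F} (h12 : ∀ z ∈ G₁, g * z * g⁻¹ ∈ G₂)
    {φ₀ : Fin 3 → F} (hφ₀ : φ₀ ≠ 0) {h₀ : φ₀ ⬝ᵥ Pi.single o 1 = 0} {i k : Fin (t + 1)} (hik : i ≠ k)
    (hconj : g⁻¹ * sgl 0 (trv (Pi.single o 1) φ₀ h₀) * g = permGL (Equiv.swap i k)) : False := by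
  classical
  set u := sgl (0 : Fin (t + 1)) (trv (Pi.single o 1) φ₀ h₀) with hu
  set σ := (permGL (Equiv.swap i k) : GL (Fin (t + 1) → Fin 3) F) with hσ
  let X : (Fin 3 → F) → Matrix (Fin (t + 1) → Fin 3) (Fin (t + 1) → Fin 3) F :=
    fun φ => S 0 (vecMulVec (Pi.single o 1) φ)
  have hφo : φ₀ o = 0 := by simpa using h₀
  -- the stabiliser of `u` acts on the transvections of centre `o`
  have hact : ∀ k₁ ∈ G₂, k₁ * u = u * k₁ → conjMat k₁ (X φ₀) = X φ₀ ∧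
      ∀ φ, φ o = 0 → ∃ φ', φ' o = 0 ∧ conjMat k₁ (X φ) = X φ' := by
    intro k₁ hk hc
    have hfix : conjMat k₁ (X φ₀) = X φ₀ := by
      have e : (k₁ * u * k₁⁻¹).val - 1 = u.val - 1 := by rw [hc, mul_inv_cancel_right]
      rwa [conj_val_sub, hu, sgl_trv_sub] at e
    refine ⟨hfix, fun φ hφ => ?_⟩
    have hP : Pair o G₂ G₂ k₁ :=
      ⟨hG₂, hG₂, ht₂, ht₂, fun z hz => mul_mem (mul_mem hk hz) (inv_mem hk),
        fun z hz => mul_mem (mul_mem (inv_mem hk) hz) hk, slice_of_conj hφ₀ hc.symm⟩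
    obtain ⟨χ, ψ, hχ, hψ, -, hψ0⟩ := hP.coeff (le_refl 3)
    refine ⟨fun c => ∑ d, φ d * ψ d c, by simp [hψ0], (blk (F := F) (m := 3) (t := t)).injective ?_⟩
    ext1 a c
    rw [conjMat_apply, map_mul, map_mul, Matrix.mul_apply, blk_S_vecMulVec]
    simp only [Matrix.mul_apply, X, blk_S_vecMulVec, mul_smul_comm, mul_one, ite_smul, zero_smul,
      Finset.sum_ite_eq', Finset.mem_univ, if_true, smul_mul_assoc, mul_ite, mul_zero]
    rcases eq_or_ne a o with rfl | ha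
    · obtain ⟨b₀, hb₀, -⟩ := exists_third' (le_refl 3) a a
      rw [if_pos rfl, Finset.sum_smul]
      refine Finset.sum_congr rfl fun d _ => ?_
      rcases eq_or_ne d a with rfl | hd
      · rw [hφ, zero_mul, zero_smul, zero_smul]
      · rw [hψ d hd, mul_smul_comm, (hP.inv_row hb₀).2.2, smul_smul]
    · rw [if_neg ha]
      exact Finset.sum_eq_zero fun d _ => by rw [hP.slice a ha, zero_mul, smul_zero]
  -- a second vector
  obtain ⟨φ₁, hφ₁o, hind⟩ : ∃ φ₁ : Fin 3 → F, φ₁ o = 0 ∧ ∀ c : F, φ₁ ≠ c • φ₀ := by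
    by_contra hc
    push Not at hc
    obtain ⟨b, hb, -⟩ := exists_third' (le_refl 3) o o
    obtain ⟨d, hdb, hdo⟩ := exists_third' (le_refl 3) b o
    obtain ⟨c₁, h1⟩ := hc (Pi.single b 1) (by simp [hb.symm])
    obtain ⟨c₂, h2⟩ := hc (Pi.single d 1) (by simp [hdo.symm])
    have a1 := congrFun h1 b
    have a2 := congrFun h1 d
    have a3 := congrFun h2 d
    simp [hdb, hdb.symm] at a1 a2 a3
    rcases a2 with h | h
    · rw [h, zero_mul] at a1; exact one_ne_zero a1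
    · rw [h, mul_zero] at a3; exact one_ne_zero a3
  have hXinj : ∀ φ ψ, X φ = X ψ → φ = ψ := fun φ ψ h => by
    funext b
    have := congrArg (fun M => blk M o b (fun _ => o) (fun _ => o)) h
    simpa [X, blk_S_vecMulVec] using this
  have hXs : ∀ (c : F) φ, X (c • φ) = c • X φ := fun c φ => by
    simp only [X]; rw [vecMulVec_smul, map_smul]
  have hXa : ∀ φ ψ, X (φ + ψ) = X φ + X ψ := fun φ ψ => by
    simp only [X]; rw [vecMulVec_add, map_add]
  -- elements acting as shears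
  let Sh : GL (Fin (t + 1) → Fin 3) F → Prop := fun k₁ => ∃ c : F, conjMat k₁ (X φ₁) = c • X φ₀ + X φ₁
  have htri : ∀ k₁ ∈ G₂, k₁ * u = u * k₁ → ∃ a l : F, l ≠ 0 ∧ conjMat k₁ (X φ₁) = a • X φ₀ + l • X φ₁ := by
    intro k₁ hk hc
    obtain ⟨hfix, hmap⟩ := hact k₁ hk hc
    obtain ⟨φ', hφ', e⟩ := hmap φ₁ hφ₁o
    obtain ⟨a, l, hal⟩ : ∃ a l : F, φ' = a • φ₀ + l • φ₁ := by
      obtain ⟨b, hb⟩ := Function.ne_iff.1 hφ₀
      have hb' : φ₀ b ≠ 0 := hb
      have hbo : b ≠ o := fun e => hb' (e ▸ hφo)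
      obtain ⟨d, hdb, hdo⟩ := exists_third' (le_refl 3) b o
      have hdet : φ₁ d * φ₀ b - φ₁ b * φ₀ d ≠ 0 := fun h0 => by
        refine hind (φ₁ b / φ₀ b) (funext fun x => ?_)
        rw [Pi.smul_apply, smul_eq_mul, div_mul_eq_mul_div, eq_div_iff hb']
        rcases eq_or_ne x o with rfl | hxo
        · rw [hφo, hφ₁o]; ring
        rcases eq_or_ne x b with rfl | hxb
        · ring
        have : x = d := eq_third hbo hdb hdo hxo hxb
        subst this
        exact sub_eq_zero.1 h0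
      set D := φ₁ d * φ₀ b - φ₁ b * φ₀ d
      refine ⟨(φ₁ d * φ' b - φ₁ b * φ' d) / D, (φ₀ b * φ' d - φ₀ d * φ' b) / D, funext fun x => ?_⟩
      simp only [Pi.add_apply, Pi.smul_apply, smul_eq_mul]
      field_simp
      rcases eq_or_ne x o with rfl | hxo
      · rw [hφo, hφ₁o, hφ']; ring
      rcases eq_or_ne x b with rfl | hxb
      · simp only [D]; ring
      have : x = d := eq_third hbo hdb hdo hxo hxb
      subst this
      simp only [D]; ring
    rw [hal, hXa, hXs, hXs] at e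
    refine ⟨a, l, fun hl => ?_, e⟩
    rw [hl, zero_smul, add_zero, ← hfix, ← map_smul, ← hXs] at e
    exact hind a (hXinj _ _ ((conjMat k₁).injective e))
  have hcomm : ∀ k₁ ∈ G₂, ∀ k₂ ∈ G₂, k₁ * u = u * k₁ → k₂ * u = u * k₂ → Sh (k₁ * k₂ * k₁⁻¹ * k₂⁻¹) := by
    intro k₁ h1 k₂ h2 c1 c2
    obtain ⟨a₁, l₁, hl₁, e1⟩ := htri k₁ h1 c1
    obtain ⟨a₂, l₂, hl₂, e2⟩ := htri k₂ h2 c2
    obtain ⟨f1, -⟩ := hact k₁ h1 c1
    obtain ⟨f2, -⟩ := hact k₂ h2 c2
    have hc : (k₁ * k₂ * k₁⁻¹ * k₂⁻¹) * u = u * (k₁ * k₂ * k₁⁻¹ * k₂⁻¹) :=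
      (((Commute.mul_left c1 c2).mul_left (Commute.inv_left c1)).mul_left (Commute.inv_left c2))
    set C := k₁ * k₂ * k₁⁻¹ * k₂⁻¹
    obtain ⟨f, -⟩ := hact C (mul_mem (mul_mem (mul_mem h1 h2) (inv_mem h1)) (inv_mem h2)) hc
    have key : conjMat C (conjMat (k₂ * k₁) (X φ₁)) = conjMat (k₁ * k₂) (X φ₁) := by
      rw [← conjMat_mul]; congr 2; simp [C, mul_assoc]
    clear_value C
    simp only [conjMat_mul, e1, e2, f1, f2, f, map_add, map_smul] at key
    refine ⟨((a₂ + l₂ * a₁) - (a₁ + l₁ * a₂)) / (l₁ * l₂), ?_⟩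
    have h12 : (l₁ * l₂) • conjMat C (X φ₁) =
        ((a₂ + l₂ * a₁) - (a₁ + l₁ * a₂)) • X φ₀ + (l₁ * l₂) • X φ₁ := by
      simp only [smul_add, smul_smul, sub_smul, add_smul, ← add_assoc] at key ⊢
      linear_combination (norm := module) key
    have := congrArg ((l₁ * l₂)⁻¹ • ·) h12
    simp only [smul_add, smul_smul, inv_mul_cancel₀ (mul_ne_zero hl₁ hl₂), one_smul] at this
    rw [this, div_eq_inv_mul]
  have hshear : ∀ k₁ ∈ G₂, ∀ k₂ ∈ G₂, k₁ * u = u * k₁ → k₂ * u = u * k₂ → Sh k₁ → Sh k₂ →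
      conjMat (k₁ * k₂ * k₁⁻¹ * k₂⁻¹) (X φ₁) = X φ₁ := by
    intro k₁ h1 k₂ h2 c1 c2 ⟨a₁, e1⟩ ⟨a₂, e2⟩
    obtain ⟨f1, -⟩ := hact k₁ h1 c1
    obtain ⟨f2, -⟩ := hact k₂ h2 c2
    have key : conjMat (k₁ * k₂) (X φ₁) = conjMat (k₂ * k₁) (X φ₁) := by
      rw [conjMat_mul, conjMat_mul, e1, e2, map_add, map_add, map_smul, map_smul, f1, f2, e1, e2]; abel
    have e : k₁ * k₂ * k₁⁻¹ * k₂⁻¹ * (k₂ * k₁) = k₁ * k₂ := by group
    have h3 : ∀ x, conjMat (k₁ * k₂ * k₁⁻¹ * k₂⁻¹) (conjMat (k₂ * k₁) x) = conjMat (k₁ * k₂) x := fun x => by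
      rw [← conjMat_mul, e]
    have h5 := h3 (X φ₁)
    obtain ⟨f, -⟩ := hact (k₁ * k₂ * k₁⁻¹ * k₂⁻¹) (mul_mem (mul_mem (mul_mem h1 h2) (inv_mem h1)) (inv_mem h2))
      (((Commute.mul_left c1 c2).mul_left (Commute.inv_left c1)).mul_left (Commute.inv_left c2))
    generalize k₁ * k₂ * k₁⁻¹ * k₂⁻¹ = C at h5 f ⊢
    rw [key, conjMat_mul, e1, map_add, map_smul, f2, e2, ← add_assoc, ← add_smul, map_add, map_smul] at h5
    rw [f] at h5
    exact add_left_cancel h5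
  -- the kernel of the action
  let Z : Matrix (Fin (t + 1) → Fin 3) (Fin (t + 1) → Fin 3) F := conjMat g⁻¹ (X φ₁)
  have hZ : ∀ θ : GL (Fin 3) F →* GL (Fin (t + 1) → Fin 3) F,
      (∀ a : GL (Fin 3) F, a.val.det = 1 → θ a ∈ G₁ ∧ θ a * σ = σ * θ a) →
      ∀ a b, a ≠ b → ∀ hab, (θ (elU a b hab 1)).val * Z = Z * (θ (elU a b hab 1)).val := by
    intro θ hθ a b _ hab
    let θ' : GL (Fin 3) F →* GL (Fin (t + 1) → Fin 3) F := (MulAut.conj g).toMonoidHom.comp θ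
    have hθ' : ∀ x, θ' x = g * θ x * g⁻¹ := fun x => rfl
    have hgood : ∀ x : GL (Fin 3) F, x.val.det = 1 → θ' x ∈ G₂ ∧ θ' x * u = u * θ' x := fun x hx => by
      obtain ⟨h1, h2⟩ := hθ x hx
      refine ⟨h12 _ h1, ?_⟩
      have eu : u = g * σ * g⁻¹ := by rw [← hconj]; group
      rw [hθ', eu]
      calc g * θ x * g⁻¹ * (g * σ * g⁻¹) = g * (θ x * σ) * g⁻¹ := by group
        _ = g * (σ * θ x) * g⁻¹ := by rw [h2]
        _ = _ := by group
    have hsh : ∀ p q (hpq : p ≠ q) (c : F), Sh (θ' (elU p q hpq c)) := fun p q hpq c => by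
      obtain ⟨d, hdp, hdq⟩ := exists_third' (le_refl 3) p q
      rw [elU_commutator hpq hdp.symm hdq c, map_mul, map_mul, map_mul, map_inv, map_inv]
      exact hcomm _ (hgood _ (elU_det _ _ _ _)).1 _ (hgood _ (elU_det _ _ _ _)).1
        (hgood _ (elU_det _ _ _ _)).2 (hgood _ (elU_det _ _ _ _)).2
    obtain ⟨d, hda, hdb⟩ := exists_third' (le_refl 3) a b
    have hfix : conjMat (θ' (elU a b hab 1)) (X φ₁) = X φ₁ := by
      rw [elU_commutator hab hda.symm hdb 1, map_mul, map_mul, map_mul, map_inv, map_inv]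
      exact hshear _ (hgood _ (elU_det _ _ _ _)).1 _ (hgood _ (elU_det _ _ _ _)).1
        (hgood _ (elU_det _ _ _ _)).2 (hgood _ (elU_det _ _ _ _)).2 (hsh _ _ _ _) (hsh _ _ _ _)
    rw [← conjMat_eq_self_iff]
    show conjMat _ (conjMat g⁻¹ (X φ₁)) = conjMat g⁻¹ (X φ₁)
    conv_rhs => rw [← hfix, hθ']
    rw [← conjMat_mul, ← conjMat_mul]
    congr 2
    group
  let θ₂ : GL (Fin 3) F →* GL (Fin (t + 1) → Fin 3) F :=
    { toFun := fun a => sgl i a * sgl k a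
      map_one' := by simp
      map_mul' := fun a b => by
        have hc : sgl k a * sgl i b = sgl i b * sgl k a := Units.ext (by
          simp only [Units.val_mul, sgl_coe]; exact S_comm hik.symm _ _)
        rw [map_mul, map_mul, mul_assoc, mul_assoc, ← mul_assoc (sgl k a), hc, mul_assoc] }
  have hσσ : ∀ (l : Fin (t + 1)) (a : GL (Fin 3) F), σ * sgl l a = sgl (Equiv.swap i k l) a * σ := fun l a => by
    have := conj_nf_sgl (Equiv.swap i k) (1 : Fin (t + 1) → GL (Fin 3) F) l a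
    rw [pureGL_one, mul_one, Pi.one_apply, one_mul, inv_one, mul_one, mul_inv_eq_iff_eq_mul] at this
    exact this
  have hZ0 : ∀ ψ, ψ o = 0 → X φ₀ * X ψ = 0 ∧ X ψ * X φ₀ = 0 := fun ψ hψ => by
    simp only [X, ← map_mul, vecMulVec_mul_vecMulVec, dotProduct_single, mul_one, hφo, hψ, zero_smul, vecMulVec_zero, map_zero, and_self]
  have hn : σ.val - 1 = conjMat g⁻¹ (X φ₀) := by
    have e : σ = g⁻¹ * u * (g⁻¹)⁻¹ := by rw [inv_inv]; exact hconj.symm
    rw [e, conj_val_sub, hu, sgl_trv_sub]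
  obtain ⟨β, hβ⟩ := centraliser_swap hik Z
    (fun a b hab => by
      have := hZ θ₂ (fun x hx => ⟨mul_mem (hG₁ i x hx) (hG₁ k x hx), by
        show sgl i x * sgl k x * σ = σ * (sgl i x * sgl k x)
        rw [← mul_assoc, hσσ, Equiv.swap_apply_left, mul_assoc (sgl k x), hσσ, Equiv.swap_apply_right, ← mul_assoc]
        congr 1
        exact Units.ext (by simp only [Units.val_mul, sgl_coe]; exact S_comm hik _ _)⟩) a b hab hab
      show S i _ * S k _ * Z = Z * (S i _ * S k _)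
      rw [← elU_coe a b hab]
      exact this)
    (fun l hli hlk a b hab => by
      have := hZ (sgl l) (fun x hx => ⟨hG₁ l x hx, by rw [hσσ, Equiv.swap_apply_of_ne_of_ne hli hlk]⟩) a b hab hab
      rwa [sgl_coe, elU_coe, map_add, map_one, add_mul, mul_add, one_mul, mul_one, add_right_inj] at this)
    (by
      show σ.val * Z = Z
      have e : (σ.val - 1) * Z = 0 := by rw [hn, ← map_mul, (hZ0 φ₁ hφ₁o).1, map_zero]
      rwa [sub_mul, one_mul, sub_eq_zero] at e)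
    (by
      show Z * σ.val = Z
      have e : Z * (σ.val - 1) = 0 := by rw [hn, ← map_mul, (hZ0 φ₁ hφ₁o).2, map_zero]
      rwa [mul_sub, mul_one, sub_eq_zero] at e)
  rw [hn, ← map_smul, ← hXs] at hβ
  exact hind β (hXinj _ _ ((conjMat g⁻¹).injective hβ))

/-- conjugates of slot transvections inside the wreath group are conjugates by wreath elements -/
theorem good (p : ℕ) [Fact p.Prime] [CharP F p] (hm : 3 ≤ m) {o : Fin m} (IH : Level (F := F) o t)
    {G : Subgroup (GL (Fin (t + 2) → Fin m) F)} (hB : Base G) (hT : Tame o G) {g : GL (Fin (t + 2) → Fin m) F}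
    (hg : g ∈ G) (j : Fin (t + 2)) (v φ : Fin m → F) (h : φ ⬝ᵥ v = 0) (hv : v ≠ 0) (hφ : φ ≠ 0)
    (hy : g⁻¹ * sgl j (trv v φ h) * g ∈ Wr F m (t + 2)) : g ∈ Wr F m (t + 2) := by
  classical
  obtain ⟨Wu, hWu, φu, hφu, hφuo, hu⟩ := normalize_trv hm o j v φ h hv hφ
  have hu' : φu ⬝ᵥ Pi.single o 1 = 0 := by simp [hφuo]
  set y := g⁻¹ * sgl j (trv v φ h) * g with hydef
  have hsub : y.val - 1 = conjMat g⁻¹ (S j (vecMulVec v φ)) := by
    have e : y = g⁻¹ * sgl j (trv v φ h) * (g⁻¹)⁻¹ := by rw [inv_inv]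
    rw [e, conj_val_sub, sgl_trv_sub]
  rcases classify p hm (Nat.succ_pos _) hy
    (by rw [hsub, ← map_mul, ← map_mul, vecMulVec_sq h, map_zero, map_zero])
    (by rw [hsub, rank_conjMat]; exact rank_S_le j v φ) with ⟨i, v', φ', h', e⟩ | ⟨rfl, rfl, i, k, d, hik, e⟩
  · have hne : vecMulVec v' φ' ≠ 0 := fun h0 => S_ne_zero (i := j) (by omega) (vecMulVec_ne_zero' hv hφ)
      ((conjMat g⁻¹).injective (by rw [← hsub, e, sgl_trv_sub, h0, map_zero, map_zero]))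
    obtain ⟨Wy, hWy, φy, hφy, hφyo, hyn⟩ := normalize_trv hm o i v' φ' h'
      (fun h0 => hne (by rw [h0, zero_vecMulVec])) (fun h0 => hne (by rw [h0, vecMulVec_zero]))
    have hy' : φy ⬝ᵥ Pi.single o 1 = 0 := by simp [hφyo]
    have hP : Pair o (conjSub Wy G) (conjSub Wu G) (Wu * g * Wy⁻¹) := by
      refine ⟨hB.conjSub hWy, hB.conjSub hWu, hT.conjSub hWy, hT.conjSub hWu, fun z hz => ?_, fun z hz => ?_,
        slice_of_conj hφy (hu := hu') (hy := hy') ?_⟩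
      · rw [mem_conjSub] at hz ⊢
        have e2 : Wu⁻¹ * (Wu * g * Wy⁻¹ * z * (Wu * g * Wy⁻¹)⁻¹) * Wu = g * (Wy⁻¹ * z * Wy) * g⁻¹ := by group
        rw [e2]
        exact mul_mem (mul_mem hg hz) (inv_mem hg)
      · rw [mem_conjSub] at hz ⊢
        have e2 : Wy⁻¹ * ((Wu * g * Wy⁻¹)⁻¹ * z * (Wu * g * Wy⁻¹)) * Wy = g⁻¹ * (Wu⁻¹ * z * Wu) * g := by group
        rw [e2]
        exact mul_mem (mul_mem (inv_mem hg) hz) hg
      · rw [← hu hu', ← hyn hy', ← e, hydef]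
        group
    have hmem := hP.mem p hm IH
    have e2 : g = Wu⁻¹ * (Wu * g * Wy⁻¹) * Wy := by group
    rw [e2]
    exact mul_mem (mul_mem (inv_mem hWu) hmem) hWy
  · exfalso
    refine no_swap (G₁ := conjSub (pureGL d)⁻¹ G) (G₂ := conjSub Wu G) (hB.conjSub (inv_mem (pureGL_mem d)))
      (hB.conjSub hWu) (hT.conjSub hWu) (g := Wu * g * pureGL d) (fun z hz => ?_) hφu (h₀ := hu') hik ?_
    · rw [mem_conjSub, inv_inv] at hz
      rw [mem_conjSub]
      have e2 : Wu⁻¹ * (Wu * g * pureGL d * z * (Wu * g * pureGL d)⁻¹) * Wu =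
          g * (pureGL d * z * (pureGL d)⁻¹) * g⁻¹ := by group
      rw [e2]
      exact mul_mem (mul_mem hg hz) (inv_mem hg)
    · have e2 : permGL (Equiv.swap i k) = (pureGL d)⁻¹ * y * pureGL d := by rw [e]; group
      rw [← hu hu', e2, hydef]
      group

end Cfsg.Agent.TensorWreath
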