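import Cfsg.Agent.Lib.Forms.Max.TensorWreath.NineWreath

/-!
# Tame overgroups of the slots are inside the wreath group
-/

set_option autoImplicit false
set_option linter.unusedSectionVars false

namespace Cfsg.Agent.TensorWreath

variable {F : Type*} [Field F] [Fintype F] {m : ℕ}

theorem char_two_of_card (h : Fintype.card F = 2) : CharP F 2 := by
  refine CharTwo.of_one_ne_zero_of_two_eq_zero one_ne_zero ?_
  have := FiniteField.cast_card_eq_zero F
  rw [h] at this
  exact_mod_cast this

/-- tame overgroups of the slots -/
theorem level (p : ℕ) [Fact p.Prime] [CharP F p] (hm : 3 ≤ m) (o : Fin m) (t : ℕ) : Level (F := F) o t := by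
  induction t with
  | zero => exact level_zero o
  | succ t ih =>
    by_cases hgen : 4 ≤ m ∨ Fintype.card F ≠ 2
    · exact level_general p hm hgen ih
    · push Not at hgen
      obtain ⟨h4, hq⟩ := hgen
      obtain rfl : m = 3 := by omega
      haveI := char_two_of_card hq
      cases t with
      | zero => exact level_nine hq o
      | succ t => exact level_binary hq ih

end Cfsg.Agent.TensorWreath
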