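import Cfsg.Agent.Lib.Forms.Max.TensorWreath.Contract

/-!
# The projections to the levels of the matrix algebra in characteristic two
-/

set_option autoImplicit false
set_option linter.unusedSectionVars false

namespace Cfsg.Agent.TensorWreath

open Matrix Cfsg.Agent.Aschbacher
open scoped Kronecker

variable {F : Type*} [Field F] {t : ℕ}

/-- the kernel of one active slot -/
def ell (F : Type*) [Field F] : Matrix (Fin 3 × Fin 3) (Fin 3 × Fin 3) F := 1 + sw F 3

/-- the kernels of a set of active slots -/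
def act (A : Finset (Fin t)) (j : Fin t) : Matrix (Fin 3 × Fin 3) (Fin 3 × Fin 3) F := if j ∈ A then ell F else 1

/-- the sum over the sets of active slots of one size -/
def fs (F : Type*) [Field F] (t s : ℕ) : Matrix ((Fin t → Fin 3) × (Fin t → Fin 3)) ((Fin t → Fin 3) × (Fin t → Fin 3)) F :=
  ∑ A ∈ (Finset.univ : Finset (Fin t)).powersetCard s, kp (act A)

/-- all slots active -/
def dlt (F : Type*) [Field F] (t : ℕ) : Matrix ((Fin t → Fin 3) × (Fin t → Fin 3)) ((Fin t → Fin 3) × (Fin t → Fin 3)) F :=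
  kp (act Finset.univ)

theorem act_comm (A : Finset (Fin t)) (j : Fin t) (X : Matrix (Fin 3) (Fin 3) F) :
    (X ⊗ₖ X) * act A j = act A j * (X ⊗ₖ X) := by
  rw [act]
  split_ifs
  · rw [ell, mul_add, add_mul, mul_one, one_mul, sw_comm]
  · rw [mul_one, one_mul]

theorem fs_fixed (s : ℕ) {h : GL (Fin t → Fin 3) F} (hh : h ∈ Wr F 3 t) : conjMat (dbl h) (fs F t s) = fs F t s := by
  classical
  refine fixed_sum _ _ (fun A j X => act_comm A j X) (fun π => π.finsetCongr) (fun π A => ⟨?_, ?_⟩) hh
  · simp [Finset.mem_powersetCard, Equiv.finsetCongr_apply]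
  · funext j
    simp only [Function.comp_apply, act, Equiv.finsetCongr_apply]
    exact if_congr (by simp [Finset.mem_map_equiv]) rfl rfl

theorem dlt_fixed {h : GL (Fin t → Fin 3) F} (hh : h ∈ Wr F 3 t) : conjMat (dbl h) (dlt F t) = dlt F t := by
  have e : dlt F t = fs F t t := by
    rw [fs, dlt]
    have : (Finset.univ : Finset (Fin t)).powersetCard t = {Finset.univ} := by
      convert Finset.powersetCard_self (Finset.univ : Finset (Fin t)) using 2
      simp
    rw [this, Finset.sum_singleton]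
  rw [e]
  exact fs_fixed t hh

/-- the action of one slot of a set -/
theorem ctr_act (A : Finset (Fin t)) (j : Fin t) (X : Matrix (Fin 3) (Fin 3) F) :
    ctr (act A j) X = if j ∈ A then X + X.trace • 1 else X.trace • 1 := by
  rw [act]
  split_ifs
  · rw [ell, ctr_add, ctr_sw, ctr_one, add_comm]
  · rw [ctr_one]

theorem ctr_kp_tag (A : Finset (Fin t)) (X : Fin t → Matrix (Fin 3) (Fin 3) F) :
    ctr (kp (act A)) (pureTensor X) =
      pureTensor fun j => if j ∈ A then X j + (X j).trace • 1 else (X j).trace • 1 := by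
  rw [ctr_kp_pure]
  congr 1
  funext j
  exact ctr_act A j (X j)

variable [CharP F 2]

theorem ell_sq : ell F * ell F = 0 := by
  rw [ell, mul_add, add_mul, add_mul, one_mul, one_mul, mul_one, sw_sq, add_comm (sw F 3) 1]
  ext p q
  simp [CharTwo.add_self_eq_zero]

theorem trace_one_three : (1 : Matrix (Fin 3) (Fin 3) F).trace = 1 := by
  have h : (1 : F) + 1 = 0 := CharTwo.add_self_eq_zero 1
  simp [Matrix.trace_one]
  linear_combination h

theorem trace_pi (X : Matrix (Fin 3) (Fin 3) F) : (X + X.trace • (1 : Matrix (Fin 3) (Fin 3) F)).trace = 0 := by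
  rw [trace_add, trace_smul, trace_one_three, smul_eq_mul, mul_one, CharTwo.add_self_eq_zero]

theorem pi_one : (1 : Matrix (Fin 3) (Fin 3) F) + (1 : Matrix (Fin 3) (Fin 3) F).trace • 1 = 0 := by
  rw [trace_one_three, one_smul]
  ext a b
  simp [CharTwo.add_self_eq_zero]

theorem pi_smul_one (r : F) :
    r • (1 : Matrix (Fin 3) (Fin 3) F) + (r • (1 : Matrix (Fin 3) (Fin 3) F)).trace • 1 = 0 := by
  rw [trace_smul, trace_one_three, smul_eq_mul, mul_one, ← add_smul, CharTwo.add_self_eq_zero, zero_smul]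

theorem ctr_comp (A B : Finset (Fin t)) (M : Matrix (Fin t → Fin 3) (Fin t → Fin 3) F) :
    ctr (kp (act A)) (ctr (kp (act B)) M) = if A = B then ctr (kp (act A)) M else 0 := by
  classical
  induction M using pure_induction with
  | h0 => simp
  | hadd a b ha hb => rw [map_add, map_add, ha, hb]; split_ifs <;> simp
  | hsmul c a ha => rw [map_smul, map_smul, ha]; split_ifs <;> simp
  | hpure X =>
    rw [ctr_kp_tag, ctr_kp_tag]
    split_ifs with h
    · subst h
      rw [ctr_kp_tag]
      congr 1
      funext j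
      by_cases hj : j ∈ A
      · simp only [if_pos hj]
        rw [trace_pi, zero_smul, add_zero]
      · simp only [if_neg hj]
        rw [trace_smul, trace_one_three, smul_eq_mul, mul_one]
    · obtain ⟨j, hj⟩ : ∃ j, ¬ (j ∈ A ↔ j ∈ B) := by
        by_contra hc
        push Not at hc
        exact h (Finset.ext hc)
      refine pure_zero _ j ?_
      by_cases hA : j ∈ A
      · have hB : j ∉ B := fun hB => hj ⟨fun _ => hB, fun _ => hA⟩
        simp only [if_pos hA, if_neg hB]
        exact pi_smul_one _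
      · have hB : j ∈ B := by by_contra hB; exact hj ⟨fun h' => absurd h' hA, fun h' => absurd h' hB⟩
        simp only [if_neg hA, if_pos hB]
        rw [trace_pi, zero_smul]

theorem ctr_fs_comp (a b : ℕ) (hab : a ≠ b) (M : Matrix (Fin t → Fin 3) (Fin t → Fin 3) F) :
    ctr (fs F t a) (ctr (fs F t b) M) = 0 := by
  simp only [fs, ctr_sum, map_sum]
  refine Finset.sum_eq_zero fun A hA => Finset.sum_eq_zero fun B hB => ?_
  rw [Finset.mem_powersetCard] at hA hB
  rw [ctr_comp, if_neg]
  intro e; subst e; omega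

theorem ctr_fs_dlt (a : ℕ) (ha : a ≠ t) (M : Matrix (Fin t → Fin 3) (Fin t → Fin 3) F) :
    ctr (fs F t a) (ctr (dlt F t) M) = 0 ∧ ctr (dlt F t) (ctr (fs F t a) M) = 0 := by
  constructor
  · simp only [fs, ctr_sum, dlt]
    refine Finset.sum_eq_zero fun A hA => ?_
    rw [Finset.mem_powersetCard] at hA
    rw [ctr_comp, if_neg]
    intro e; subst e; simp at hA; omega
  · simp only [fs, ctr_sum, dlt, map_sum]
    refine Finset.sum_eq_zero fun A hA => ?_
    rw [Finset.mem_powersetCard] at hA
    rw [ctr_comp, if_neg]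
    intro e; subst e; simp at hA; omega

theorem ctr_dlt_idem (M : Matrix (Fin t → Fin 3) (Fin t → Fin 3) F) :
    ctr (dlt F t) (ctr (dlt F t) M) = ctr (dlt F t) M := by
  rw [dlt, ctr_comp, if_pos rfl]

theorem ctr_f1_mem (M : Matrix (Fin t → Fin 3) (Fin t → Fin 3) F) : ctr (fs F t 1) M ∈ L0 F 3 t := by
  classical
  rw [fs, ctr_sum]
  refine Submodule.sum_mem _ fun A hA => ?_
  obtain ⟨i, rfl⟩ := Finset.card_eq_one.1 (Finset.mem_powersetCard.1 hA).2
  induction M using pure_induction with
  | h0 => simp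
  | hadd a b ha hb => rw [map_add]; exact add_mem ha hb
  | hsmul c a ha => rw [map_smul]; exact Submodule.smul_mem _ c ha
  | hpure X =>
    rw [ctr_kp_tag]
    have e : (fun j => if j ∈ ({i} : Finset (Fin t)) then X j + (X j).trace • (1 : Matrix (Fin 3) (Fin 3) F)
        else (X j).trace • 1) = fun j => (if j = i then 1 else (X j).trace) •
          (Pi.mulSingle i (X i + (X i).trace • 1) : Fin t → _) j := by
      funext j
      rcases eq_or_ne j i with rfl | hj
      · simp
      · simp [hj, Pi.mulSingle_eq_of_ne hj]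
    rw [e, pureTensor_smul, ← slotHom_apply]
    exact Submodule.smul_mem _ _ (slI_le i (S_mem_slI i (mem_sl.2 (trace_pi _))))

theorem ctr_kp_root (A : Finset (Fin t)) (i : Fin t) {z : Matrix (Fin 3) (Fin 3) F} (hz : z.trace = 0) :
    ctr (kp (act A)) (S i z) = if A = {i} then S i z else 0 := by
  rw [slotHom_apply, ctr_kp_tag]
  split_ifs with h
  · subst h
    congr 1
    funext j
    rcases eq_or_ne j i with rfl | hj
    · simp [hz]
    · simp [hj, trace_one_three, -Matrix.trace_one]
  · by_cases hi : i ∈ A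
    · obtain ⟨j, hjA, hji⟩ : ∃ j ∈ A, j ≠ i := by
        by_contra hc
        push Not at hc
        exact h (Finset.eq_singleton_iff_unique_mem.2 ⟨hi, hc⟩)
      exact pure_zero _ j (by rw [if_pos hjA, Pi.mulSingle_eq_of_ne hji]; exact pi_one)
    · exact pure_zero _ i (by rw [if_neg hi, Pi.mulSingle_eq_same, hz, zero_smul])

theorem ctr_f1_root (i : Fin t) {z : Matrix (Fin 3) (Fin 3) F} (hz : z.trace = 0) :
    ctr (fs F t 1) (S i z) = S i z := by
  rw [fs, ctr_sum, Finset.sum_eq_single {i}]
  · rw [ctr_kp_root _ _ hz, if_pos rfl]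
  · intro A _ hA; rw [ctr_kp_root _ _ hz, if_neg hA]
  · simp [Finset.mem_powersetCard]

/-- a fixed first level gives a wreath element -/
theorem mem_of_f1 (ht : 0 < t) {g : GL (Fin t → Fin 3) F} (h : ∀ M, ctr (fs F t 1) (conjMat g M) = conjMat g (ctr (fs F t 1) M)) :
    g ∈ Wr F 3 t := by
  refine mem_of_root (le_refl 3) ht fun i a b hab c => ?_
  rw [← ctr_f1_root i (mem_sl.1 (single_mem_sl hab c)), ← h]
  exact ctr_f1_mem _

theorem pair_pure {i k : Fin t} (hik : i ≠ k) (X Y : Matrix (Fin 3) (Fin 3) F) :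
    S i X * S k Y = pureTensor (fun j => if j = i then X else if j = k then Y else 1) := by
  rw [slotHom_apply, slotHom_apply, ← map_mul]
  congr 1
  funext j
  rcases eq_or_ne j i with rfl | hi
  · simp [Pi.mulSingle_eq_of_ne hik]
  rcases eq_or_ne j k with rfl | hk
  · simp [hi]
  · simp [hi, hk, Pi.mulSingle_eq_of_ne hi, Pi.mulSingle_eq_of_ne hk]

theorem ctr_f2_pair {i k : Fin t} (hik : i ≠ k) {X Y : Matrix (Fin 3) (Fin 3) F} (hX : X.trace = 0) (hY : Y.trace = 0) :
    ctr (fs F t 2) (S i X * S k Y) = S i X * S k Y := by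
  rw [fs, ctr_sum, Finset.sum_eq_single {i, k}]
  · rw [pair_pure hik, ctr_kp_tag]
    congr 1
    funext j
    rcases eq_or_ne j i with rfl | hi
    · simp [hX]
    rcases eq_or_ne j k with rfl | hk
    · simp [hi, hY]
    · simp [hi, hk, trace_one_three, -Matrix.trace_one]
  · intro A hA hne
    rw [pair_pure hik, ctr_kp_tag]
    obtain ⟨j, hjA, hji, hjk⟩ : ∃ j ∈ A, j ≠ i ∧ j ≠ k := by
      by_contra hc
      push Not at hc
      refine hne (Finset.eq_of_subset_of_card_le (fun j hj => ?_) ?_)
      · by_cases hji : j = i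
        · simp [hji]
        · simp [hc j hj hji]
      · rw [(Finset.mem_powersetCard.1 hA).2, Finset.card_pair hik]
    exact pure_zero _ j (by rw [if_pos hjA, if_neg hji, if_neg hjk]; exact pi_one)
  · simp [Finset.mem_powersetCard, hik]

/-- brackets of two second levels miss the last level -/
theorem ctr_dlt_bracket (ht : 4 ≤ t) (M N : Matrix (Fin t → Fin 3) (Fin t → Fin 3) F) :
    ctr (dlt F t) (ctr (fs F t 2) M * ctr (fs F t 2) N - ctr (fs F t 2) N * ctr (fs F t 2) M) = 0 := by
  classical
  induction M using pure_induction with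
  | h0 => simp
  | hadd a b ha hb =>
    rw [map_add, add_mul, mul_add, add_sub_add_comm, map_add, ha, hb, add_zero]
  | hsmul c a ha => rw [map_smul, smul_mul_assoc, mul_smul_comm, ← smul_sub, map_smul, ha, smul_zero]
  | hpure X =>
    induction N using pure_induction with
    | h0 => simp
    | hadd a b ha hb =>
      rw [map_add, mul_add, add_mul, add_sub_add_comm, map_add, ha, hb, add_zero]
    | hsmul c a ha => rw [map_smul, mul_smul_comm, smul_mul_assoc, ← smul_sub, map_smul, ha, smul_zero]
    | hpure Y =>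
      simp only [fs, ctr_sum, Finset.sum_mul, Finset.mul_sum]
      rw [Finset.sum_comm (γ := Finset (Fin t)), ← Finset.sum_sub_distrib, map_sum]
      refine Finset.sum_eq_zero fun A hA => ?_
      rw [← Finset.sum_sub_distrib, map_sum]
      refine Finset.sum_eq_zero fun B hB => ?_
      rw [Finset.mem_powersetCard] at hA hB
      rw [ctr_kp_tag, ctr_kp_tag, ← map_mul, ← map_mul]
      by_cases hj : ∃ j, j ∉ A ∧ j ∉ B
      · obtain ⟨j, hjA, hjB⟩ := hj
        rw [map_sub, dlt, ctr_kp_tag, ctr_kp_tag, pure_zero _ j, pure_zero _ j, sub_zero]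
        · simp only [Pi.mul_apply, if_neg hjA, if_neg hjB, Finset.mem_univ, if_true]
          rw [smul_mul_smul_comm, mul_one]
          exact pi_smul_one _
        · simp only [Pi.mul_apply, if_neg hjA, if_neg hjB, Finset.mem_univ, if_true]
          rw [smul_mul_smul_comm, mul_one]
          exact pi_smul_one _
      · push Not at hj
        have hdisj : ∀ j, j ∈ A → j ∉ B := by
          intro j h1 h2
          have hu : A ∪ B = Finset.univ := Finset.eq_univ_of_forall fun x => by
            by_cases hx : x ∈ A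
            · simp [hx]
            · simp [hj x hx]
          have h3 := Finset.card_union_add_card_inter A B
          have h4 : 1 ≤ (A ∩ B).card := Finset.card_pos.2 ⟨j, Finset.mem_inter.2 ⟨h1, h2⟩⟩
          rw [hu, Finset.card_univ, Fintype.card_fin] at h3
          omega
        refine Eq.trans (congrArg _ (sub_eq_zero.2 (congrArg pureTensor (funext fun j => ?_)))) (map_zero _)
        simp only [Pi.mul_apply]
        by_cases hA' : j ∈ A
        · simp [hA', hdisj j hA']
        · simp [hA', hj j hA']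

theorem witness (ht : 3 ≤ t) {i k : Fin t} (hik : i ≠ k) (a b : Fin 3) (hab : a ≠ b) (c : F) :
    ∃ v w : Matrix (Fin t → Fin 3) (Fin t → Fin 3) F, ctr (fs F t 2) v = v ∧ ctr (fs F t 2) w = w ∧
      ctr (fs F t 1) (v * w - w * v) + ctr (dlt F t) (v * w - w * v) = S i (Matrix.single a b c) := by
  classical
  obtain ⟨d, hda, hdb⟩ := exists_third' (le_refl 3) a b
  set A₁ := Matrix.single a d c
  set A₂ := Matrix.single d b (1 : F)
  set B₁ : Matrix (Fin 3) (Fin 3) F := Matrix.single 0 1 1
  set B₂ : Matrix (Fin 3) (Fin 3) F := Matrix.single 1 0 1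
  have h01 : (0 : Fin 3) ≠ 1 := by decide
  have hB₂ : B₂.trace = 0 := by simp [B₂, Matrix.trace, Fin.sum_univ_three, Matrix.single_apply]
  refine ⟨S i A₁ * S k B₁, S i A₂ * S k B₂, ctr_f2_pair hik (mem_sl.1 (single_mem_sl hda.symm c)) (mem_sl.1 (single_mem_sl h01 (1 : F))),
    ctr_f2_pair hik (mem_sl.1 (single_mem_sl hdb (1 : F))) hB₂, ?_⟩
  have e : S i A₁ * S k B₁ * (S i A₂ * S k B₂) - S i A₂ * S k B₂ * (S i A₁ * S k B₁) =
      S i (Matrix.single a b c) * S k (Matrix.single (0 : Fin 3) 0 (1 : F)) := by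
    have hre : ∀ X Y Z W : Matrix (Fin 3) (Fin 3) F, S i X * S k Y * (S i Z * S k W) = S i (X * Z) * S k (Y * W) :=
      fun X Y Z W => by
        rw [map_mul, map_mul, mul_assoc, ← mul_assoc (S k Y), ← S_comm hik, mul_assoc, ← mul_assoc (S i X)]
    rw [hre, hre]
    simp [A₁, A₂, B₁, B₂, Matrix.single_mul_single_of_ne, hab.symm, hab]
  rw [e, pair_pure hik, dlt, ctr_kp_tag (Finset.univ)]
  obtain ⟨l, hli, hlk⟩ := exists_third' ht i k
  rw [pure_zero (fun j => if j ∈ (Finset.univ : Finset (Fin t)) then _ else _) l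
    (by simp only [Finset.mem_univ, if_true, if_neg hli, if_neg hlk]; exact pi_one), add_zero, fs, ctr_sum,
    Finset.sum_eq_single {i}]
  · rw [ctr_kp_tag, slotHom_apply]
    congr 1
    funext j
    rcases eq_or_ne j i with rfl | hi
    · simp [mem_sl.1 (single_mem_sl hab c)]
    rcases eq_or_ne j k with rfl | hk
    · simp [hi, Pi.mulSingle_eq_of_ne hi, Matrix.trace_single_eq_same]
    · simp [hi, hk, Pi.mulSingle_eq_of_ne hi, trace_one_three, -Matrix.trace_one]
  · intro A hA hne
    obtain ⟨j, rfl⟩ := Finset.card_eq_one.1 (Finset.mem_powersetCard.1 hA).2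
    rw [ctr_kp_tag]
    refine pure_zero _ i ?_
    have hji : i ∉ ({j} : Finset (Fin t)) := fun h => hne (by rw [Finset.mem_singleton.1 h])
    rw [if_neg hji, if_pos rfl, mem_sl.1 (single_mem_sl hab c), zero_smul]
  · simp [Finset.mem_powersetCard]

theorem fs_mul_fs (a b : ℕ) : fs F t a * fs F t b =
    ∑ A ∈ (Finset.univ : Finset (Fin t)).powersetCard a, ∑ B ∈ (Finset.univ : Finset (Fin t)).powersetCard b,
      if Disjoint A B then kp (act (A ∪ B)) else 0 := by
  classical
  rw [fs, fs, Finset.sum_mul]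
  refine Finset.sum_congr rfl fun A _ => ?_
  rw [Finset.mul_sum]
  refine Finset.sum_congr rfl fun B _ => ?_
  rw [kp_mul]
  split_ifs with h
  · congr 1
    funext j
    rw [Pi.mul_apply]
    by_cases hA : j ∈ A
    · simp [act, hA, Finset.disjoint_left.1 h hA]
    · by_cases hB : j ∈ B <;> simp [act, hA, hB]
  · obtain ⟨j, hA, hB⟩ := Finset.not_disjoint_iff.1 h
    exact kp_zero j (by simp [act, hA, hB, ell_sq])

theorem fs_mul_dlt (a : ℕ) (ha : 0 < a) : fs F t a * dlt F t = 0 ∧ dlt F t * fs F t a = 0 := by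
  constructor
  · rw [fs, dlt, Finset.sum_mul]
    refine Finset.sum_eq_zero fun A hA => ?_
    obtain ⟨j, hj⟩ := Finset.card_pos.1 (by rw [(Finset.mem_powersetCard.1 hA).2]; exact ha : 0 < A.card)
    rw [kp_mul]
    exact kp_zero j (by simp [act, hj, ell_sq])
  · rw [fs, dlt, Finset.mul_sum]
    refine Finset.sum_eq_zero fun A hA => ?_
    obtain ⟨j, hj⟩ := Finset.card_pos.1 (by rw [(Finset.mem_powersetCard.1 hA).2]; exact ha : 0 < A.card)
    rw [kp_mul]
    exact kp_zero j (by simp [act, hj, ell_sq])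

theorem dlt_sq (ht : 0 < t) : dlt F t * dlt F t = 0 := by
  rw [dlt, kp_mul]
  exact kp_zero ⟨0, ht⟩ (by simp [act, ell_sq])

theorem f1_mul_f2 : fs F 3 1 * fs F 3 2 = dlt F 3 := by
  classical
  rw [fs_mul_fs]
  have h : ∀ A ∈ (Finset.univ : Finset (Fin 3)).powersetCard 1,
      (∑ B ∈ (Finset.univ : Finset (Fin 3)).powersetCard 2, if Disjoint A B then kp (F := F) (act (A ∪ B)) else 0) = dlt F 3 := by
    intro A hA
    rw [Finset.mem_powersetCard] at hA
    rw [Finset.sum_eq_single Aᶜ]
    · rw [if_pos disjoint_compl_right, Finset.union_compl]; rfl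
    · intro B hB hne
      rw [Finset.mem_powersetCard] at hB
      refine if_neg fun hd => hne (Finset.eq_of_subset_of_card_le (fun x hx =>
        Finset.mem_compl.2 (Finset.disjoint_right.1 hd hx)) ?_)
      rw [Finset.card_compl, hA.2, hB.2]; simp
    · intro h'
      exact absurd (Finset.mem_powersetCard.2 ⟨Finset.subset_univ _, by rw [Finset.card_compl, hA.2]; simp⟩) h'
  rw [Finset.sum_congr rfl h, Finset.sum_const, Finset.card_powersetCard]
  have h2 : dlt F 3 + dlt F 3 = 0 := by ext p q; simp [CharTwo.add_self_eq_zero]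
  rw [Finset.card_univ, Fintype.card_fin, Nat.choose_one_right, succ_nsmul, two_nsmul, h2, zero_add]

end Cfsg.Agent.TensorWreath
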