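import Cfsg.Agent.Lib.Forms.Max.TensorWreath.Basic

/-!
# The stabiliser of the sum of the special linear algebras of the slots
-/

set_option autoImplicit false
set_option linter.unusedSectionVars false

namespace Cfsg.Agent.TensorWreath

open Matrix Cfsg.Agent.Aschbacher

variable {F : Type*} [Field F] {m t : ℕ}

/-- trace zero -/
def sl (F : Type*) [Field F] (m : ℕ) : Submodule F (Matrix (Fin m) (Fin m) F) :=
  LinearMap.ker (Matrix.traceLinearMap (Fin m) F F)

theorem mem_sl {z : Matrix (Fin m) (Fin m) F} : z ∈ sl F m ↔ z.trace = 0 := LinearMap.mem_ker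

theorem single_mem_sl {a b : Fin m} (h : a ≠ b) (c : F) : Matrix.single a b c ∈ sl F m := by
  rw [mem_sl, Matrix.trace]
  exact Finset.sum_eq_zero fun i _ => Matrix.single_apply_of_ne _ _ _ _ _ fun h' => h (h'.1.trans h'.2.symm)

theorem comm_mem_sl (x y : Matrix (Fin m) (Fin m) F) : x * y - y * x ∈ sl F m := by
  rw [mem_sl, Matrix.trace_sub, Matrix.trace_mul_comm, sub_self]

/-- the special linear algebra of one slot -/
def slI (F : Type*) [Field F] (m : ℕ) {t : ℕ} (j : Fin t) : Submodule F (Matrix (Fin t → Fin m) (Fin t → Fin m) F) :=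
  (sl F m).map (S (F := F) (m := m) j).toLinearMap

/-- their sum -/
def L0 (F : Type*) [Field F] (m t : ℕ) : Submodule F (Matrix (Fin t → Fin m) (Fin t → Fin m) F) :=
  ⨆ j : Fin t, slI F m j

theorem S_mem_slI (j : Fin t) {z : Matrix (Fin m) (Fin m) F} (h : z ∈ sl F m) : S j z ∈ slI F m j :=
  ⟨z, h, rfl⟩

theorem slI_le (j : Fin t) : slI F m j ≤ L0 F m t := le_iSup (slI F m) j

theorem exists_third' (hm : 3 ≤ m) (a b : Fin m) : ∃ c, c ≠ a ∧ c ≠ b := by
  by_contra h
  push Not at h
  have : (Finset.univ : Finset (Fin m)) ⊆ {a, b} := fun c _ => by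
    by_cases hc : c = a
    · simp [hc]
    · simp [h c hc]
  have h1 := (Finset.card_le_card this).trans Finset.card_le_two
  simp at h1
  omega

/-- subspaces invariant under brackets with root vectors -/
theorem single_mem_of_bracket (hm : 3 ≤ m) {W : Submodule F (Matrix (Fin m) (Fin m) F)}
    (hW : ∀ w ∈ W, ∀ a b : Fin m, a ≠ b → Matrix.single a b (1 : F) * w - w * Matrix.single a b 1 ∈ W)
    {X : Matrix (Fin m) (Fin m) F}
    (hX : ∀ a b : Fin m, a ≠ b → Matrix.single a b (1 : F) * X - X * Matrix.single a b 1 ∈ W)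
    (hns : ¬ ∃ c : F, X = algebraMap F _ c) {r s : Fin m} (hrs : r ≠ s) : Matrix.single r s (1 : F) ∈ W := by
  classical
  have row : ∀ {a b a' : Fin m}, a ≠ b → a' ≠ b → Matrix.single a b (1 : F) ∈ W → Matrix.single a' b (1 : F) ∈ W := by
    intro a b a' hab hab' h
    rcases eq_or_ne a' a with rfl | hne
    · exact h
    have := hW _ h a' a hne
    rwa [Matrix.single_mul_single_same, Matrix.single_mul_single_of_ne _ _ _ _ hab'.symm, sub_zero, mul_one] at this
  have col : ∀ {a b b' : Fin m}, a ≠ b → a ≠ b' → Matrix.single a b (1 : F) ∈ W → Matrix.single a b' (1 : F) ∈ W := by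
    intro a b b' hab hab' h
    rcases eq_or_ne b b' with rfl | hne
    · exact h
    have := neg_mem (hW _ h b b' hne)
    rwa [neg_sub, Matrix.single_mul_single_same, Matrix.single_mul_single_of_ne _ _ _ _ hab'.symm, sub_zero,
      mul_one] at this
  have hone : ∃ x y, x ≠ y ∧ Matrix.single x y (1 : F) ∈ W := by
    by_cases hoff : ∃ x y, x ≠ y ∧ X y x ≠ 0
    · obtain ⟨x, y, hxy, h0⟩ := hoff
      obtain ⟨z, hzx, hzy⟩ := exists_third' hm x y
      refine ⟨x, y, hxy, ?_⟩
      have h1 := hW _ (hX x z hzx.symm) x y hxy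
      have h2 := neg_mem (hW _ h1 z y hzy)
      have e : -(Matrix.single z y (1:F) * (Matrix.single x y 1 * (Matrix.single x z 1 * X - X * Matrix.single x z 1) -
          (Matrix.single x z 1 * X - X * Matrix.single x z 1) * Matrix.single x y 1) -
          (Matrix.single x y 1 * (Matrix.single x z 1 * X - X * Matrix.single x z 1) -
          (Matrix.single x z 1 * X - X * Matrix.single x z 1) * Matrix.single x y 1) * Matrix.single z y 1) =
          (-X y x) • Matrix.single x y (1 : F) := by
        simp [mul_sub, sub_mul, ← mul_assoc, Matrix.single_mul_mul_single,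
          Matrix.single_mul_single_of_ne _ _ _ _ hxy.symm, Matrix.single_mul_single_of_ne _ _ _ _ hzx,
          Matrix.single_mul_single_of_ne _ _ _ _ hzy.symm, mul_assoc X, Matrix.single_mul_single_same,
          Matrix.smul_single]
      rw [e] at h2
      have h3 := W.smul_mem (-X y x)⁻¹ h2
      rwa [smul_smul, inv_mul_cancel₀ (neg_ne_zero.2 h0), one_smul] at h3
    · push Not at hoff
      obtain ⟨x, y, hxy⟩ : ∃ x y, X x x ≠ X y y := by
        by_contra hc
        push Not at hc
        refine hns ⟨X r r, Matrix.ext fun a b => ?_⟩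
        rw [Matrix.algebraMap_matrix_apply]
        rcases eq_or_ne a b with rfl | hab
        · rw [if_pos rfl]; exact hc a r
        · rw [if_neg hab]; exact hoff b a hab.symm
      have hne : x ≠ y := fun e => hxy (by rw [e])
      have hd : X = Matrix.diagonal fun a => X a a := by
        ext a b
        rcases eq_or_ne a b with rfl | hab
        · rw [Matrix.diagonal_apply_eq]
        · rw [Matrix.diagonal_apply_ne _ hab]; exact hoff b a hab.symm
      have h1 := hX x y hne
      have e : Matrix.single x y (1 : F) * X - X * Matrix.single x y 1 = (X y y - X x x) • Matrix.single x y 1 := by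
        conv_lhs => rw [hd]
        ext a b
        rw [Matrix.sub_apply, Matrix.mul_diagonal, Matrix.diagonal_mul, Matrix.smul_apply, Matrix.single_apply]
        split_ifs with h
        · obtain ⟨rfl, rfl⟩ := h; simp
        · simp
      rw [e] at h1
      refine ⟨x, y, hne, ?_⟩
      have h3 := W.smul_mem (X y y - X x x)⁻¹ h1
      rwa [smul_smul, inv_mul_cancel₀ (sub_ne_zero.2 hxy.symm), one_smul] at h3
  obtain ⟨x, y, hxy, hm'⟩ := hone
  by_cases hry : r = y
  · obtain ⟨z, hzx, hzy⟩ := exists_third' hm x y
    subst hry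
    exact col hxy.symm hrs (row hzx hxy.symm (col hzy hzx (row hxy hzy hm')))
  · exact col hry hrs (row hxy hry hm')

theorem slI_finrank (hm : 0 < m) (j : Fin t) : Module.finrank F (slI F m j) = Module.finrank F (sl F m) := by
  haveI : Nonempty (Fin t → Fin m) := ⟨fun _ => ⟨0, hm⟩⟩
  exact ((sl F m).equivMapOfInjective _ (algHom_matrix_injective (S (F := F) (m := m) j))).finrank_eq.symm

theorem bracket_slI {i : Fin t} {u : Matrix (Fin t → Fin m) (Fin t → Fin m) F} (hu : u ∈ slI F m i)
    {v : Matrix (Fin t → Fin m) (Fin t → Fin m) F} (hv : v ∈ L0 F m t) : v * u - u * v ∈ slI F m i := by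
  obtain ⟨z, _, rfl⟩ := hu
  induction hv using Submodule.iSup_induction' with
  | zero => simp
  | add x y _ _ hx hy =>
    have := add_mem hx hy
    convert this using 1
    noncomm_ring
  | mem j v hv =>
    obtain ⟨w, _, rfl⟩ := hv
    rcases eq_or_ne j i with rfl | h
    · refine ⟨w * z - z * w, comm_mem_sl _ _, ?_⟩
      simp only [AlgHom.toLinearMap_apply, map_sub, map_mul]
    · simp only [AlgHom.toLinearMap_apply]
      rw [S_comm h, sub_self]
      exact zero_mem _

theorem slI_ne (hm : 2 ≤ m) {i j : Fin t} (h : i ≠ j) : slI F m i ≠ slI F m j := by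
  intro e
  set a : Fin m := ⟨0, by omega⟩
  set b : Fin m := ⟨1, by omega⟩
  have hab : a ≠ b := by simp [a, b]
  obtain ⟨w, _, hw⟩ := e ▸ S_mem_slI i (single_mem_sl (F := F) hab 1)
  rw [AlgHom.toLinearMap_apply] at hw
  have h1 := S_comm h (Matrix.single b a (1 : F)) w
  rw [hw, ← map_mul, ← map_mul] at h1
  haveI : Nonempty (Fin t → Fin m) := ⟨fun _ => a⟩
  have h2 := congrFun (congrFun (algHom_matrix_injective (S (F := F) (m := m) i) h1) a) a
  simp [hab, hab.symm] at h2

/-- the normaliser of the sum of the slot algebras is the wreath group -/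
theorem mem_of_L0 (hm : 3 ≤ m) (ht : 0 < t) {g : GL (Fin t → Fin m) F}
    (hg : ∀ v ∈ L0 F m t, conjMat g v ∈ L0 F m t) : g ∈ Wr F m t := by
  classical
  haveI : Nonempty (Fin t → Fin m) := ⟨fun _ => ⟨0, by omega⟩⟩
  set c := (conjMat g).toLinearEquiv with hc
  have hsurj : (L0 F m t).map c.toLinearMap = L0 F m t :=
    Submodule.eq_of_le_of_finrank_eq (by rintro _ ⟨v, hv, rfl⟩; exact hg v hv) (LinearEquiv.finrank_map_eq c _)
  have hJ : ∀ i, ∀ u ∈ (slI F m i).map c.toLinearMap, ∀ v ∈ L0 F m t, v * u - u * v ∈ (slI F m i).map c.toLinearMap := by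
    rintro i _ ⟨u, hu, rfl⟩ v hv
    obtain ⟨v', hv', rfl⟩ := hsurj.symm ▸ hv
    exact ⟨_, bracket_slI hu hv', by simp [hc, map_sub, map_mul]⟩
  have hdim : ∀ i j, slI F m j ≤ (slI F m i).map c.toLinearMap → slI F m j = (slI F m i).map c.toLinearMap :=
    fun i j h => Submodule.eq_of_le_of_finrank_eq h (by
      rw [LinearEquiv.finrank_map_eq, slI_finrank (by omega), slI_finrank (by omega)])
  have hex : ∀ i, ∃ k, slI F m k = (slI F m i).map c.toLinearMap := by
    intro i
    by_contra hne
    push Not at hne
    set a : Fin m := ⟨0, by omega⟩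
    set b : Fin m := ⟨1, by omega⟩
    have hab : a ≠ b := by simp [a, b]
    set y := conjMat g (S i (Matrix.single a b (1 : F))) with hy
    have hyJ : y ∈ (slI F m i).map c.toLinearMap := ⟨_, S_mem_slI i (single_mem_sl hab 1), rfl⟩
    have hyL : y ∈ L0 F m t := hg _ (slI_le i (S_mem_slI i (single_mem_sl hab 1)))
    rw [L0, Submodule.mem_iSup_iff_exists_finsupp] at hyL
    obtain ⟨f, hf, hfy⟩ := hyL
    rw [Finsupp.sum_fintype _ _ (fun _ => rfl)] at hfy
    choose w _ hwf using hf
    -- every component is scalar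
    have hscal : ∀ k, ∃ x : F, w k = algebraMap F _ x := by
      intro k
      by_contra hns
      have hbr : ∀ z, S k z * y - y * S k z = S k (z * w k - w k * z) := by
        intro z
        rw [← hfy, Finset.mul_sum, Finset.sum_mul, ← Finset.sum_sub_distrib,
          Finset.sum_eq_single k (fun j _ hj => ?_) (fun h => absurd (Finset.mem_univ k) h)]
        · rw [← hwf k, AlgHom.toLinearMap_apply, ← map_mul, ← map_mul, ← map_sub]
        · rw [← hwf j, AlgHom.toLinearMap_apply, S_comm (Ne.symm hj), sub_self]
      set J := (slI F m i).map c.toLinearMap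
      refine hne k (hdim i k ?_)
      let W : Submodule F (Matrix (Fin m) (Fin m) F) := J.comap (S (F := F) (m := m) k).toLinearMap
      have hW : ∀ w ∈ W, ∀ a b : Fin m, a ≠ b → Matrix.single a b (1 : F) * w - w * Matrix.single a b 1 ∈ W :=
        fun w hw a b hab => by
          have := hJ i _ hw _ (slI_le k (S_mem_slI k (single_mem_sl hab 1)))
          show S k _ ∈ J
          rw [map_sub, map_mul, map_mul]
          exact this
      have hX : ∀ a b : Fin m, a ≠ b → Matrix.single a b (1 : F) * w k - w k * Matrix.single a b 1 ∈ W :=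
        fun a b hab => by
          have := hJ i _ hyJ _ (slI_le k (S_mem_slI k (single_mem_sl hab 1)))
          rw [hbr] at this
          exact this
      have hoffd : ∀ r s : Fin m, r ≠ s → Matrix.single r s (1 : F) ∈ W := fun r s hrs =>
        single_mem_of_bracket hm hW hX hns hrs
      have hdiag : ∀ r s : Fin m, r ≠ s → Matrix.single r r (1 : F) - Matrix.single s s 1 ∈ W := fun r s hrs => by
        have := hW _ (hoffd s r hrs.symm) r s hrs
        rwa [Matrix.single_mul_single_same, Matrix.single_mul_single_same, mul_one] at this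
      rintro _ ⟨z, hz, rfl⟩
      show z ∈ W
      have hz' : z = ∑ r, ∑ s, z r s • (if r = s then Matrix.single r r (1 : F) - Matrix.single a a 1 else Matrix.single r s 1) := by
        conv_lhs => rw [Matrix.matrix_eq_sum_single z]
        have htr : ∑ r, z r r = 0 := mem_sl.1 hz
        simp only [Matrix.smul_single, smul_eq_mul, mul_one, smul_ite, smul_sub]
        rw [eq_comm, ← sub_eq_zero, ← Finset.sum_sub_distrib]
        rw [Finset.sum_congr rfl (g := fun r => -Matrix.single a a (z r r)) fun r _ => ?_]
        · rw [Finset.sum_neg_distrib, neg_eq_zero]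
          ext u v
          simp only [Matrix.sum_apply, Matrix.single_apply, Matrix.zero_apply]
          split_ifs with h
          · exact htr
          · simp
        · rw [← Finset.sum_sub_distrib, Finset.sum_eq_single r]
          · simp
          · intro s _ hs; simp [Ne.symm hs]
          · simp
      rw [hz']
      refine Submodule.sum_mem _ fun r _ => Submodule.sum_mem _ fun s _ => W.smul_mem _ ?_
      split_ifs with hrs
      · rcases eq_or_ne r a with rfl | hra
        · rw [sub_self]; exact zero_mem _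
        · exact hdiag r a hra
      · exact hoffd r s hrs
    choose x hx using hscal
    have hys : y = algebraMap F _ (∑ k, x k) := by
      rw [← hfy, map_sum]
      exact Finset.sum_congr rfl fun k _ => by rw [← hwf k, AlgHom.toLinearMap_apply, hx, AlgHom.commutes]
    have h1 : S i (Matrix.single a b (1 : F)) = S i (algebraMap F _ (∑ k, x k)) :=
      (conjMat g).injective (by rw [← hy, hys, AlgHom.commutes, AlgEquiv.commutes])
    have h2 := congrFun (congrFun (algHom_matrix_injective (S (F := F) (m := m) i) h1) a) b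
    simp [Matrix.algebraMap_matrix_apply, hab] at h2
  choose σ hσ using hex
  have hinj : Function.Injective σ := fun i j h => by
    by_contra hij
    refine slI_ne (by omega) hij (Submodule.map_injective_of_injective (f := c.toLinearMap) c.injective ?_)
    rw [← hσ i, ← hσ j, h]
  refine mem_of_slots (by omega) ht (Equiv.ofBijective σ (Finite.injective_iff_bijective.1 hinj)) fun i z => ?_
  let R : Submodule F (Matrix (Fin m) (Fin m) F) :=
    ((LinearMap.range (S (F := F) (m := m) (σ i)).toLinearMap).comap c.toLinearMap).comap (S (F := F) (m := m) i).toLinearMap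
  suffices h : z ∈ R by
    obtain ⟨y, hy⟩ := h
    exact ⟨y, hy.symm⟩
  have hoff : ∀ r s : Fin m, r ≠ s → Matrix.single r s (1 : F) ∈ R := fun r s hrs => by
    obtain ⟨y, _, hy⟩ := (hσ i).symm ▸ Submodule.mem_map_of_mem (f := c.toLinearMap) (S_mem_slI i (single_mem_sl hrs 1))
    exact ⟨y, hy⟩
  have hR : ∀ u v, u ∈ R → v ∈ R → u * v ∈ R := by
    rintro u v ⟨u', hu'⟩ ⟨v', hv'⟩
    refine ⟨u' * v', ?_⟩
    simp only [AlgHom.toLinearMap_apply, hc, LinearEquiv.coe_coe, AlgEquiv.toLinearEquiv_apply, map_mul] at hu' hv' ⊢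
    rw [hu', hv']
  rw [Matrix.matrix_eq_sum_single z]
  refine Submodule.sum_mem _ fun r _ => Submodule.sum_mem _ fun s _ => ?_
  rw [← mul_one (z r s), ← smul_eq_mul, ← Matrix.smul_single]
  refine R.smul_mem _ ?_
  rcases eq_or_ne r s with rfl | hrs
  · obtain ⟨u, hu, -⟩ := exists_third' hm r r
    have := hR _ _ (hoff r u hu.symm) (hoff u r hu)
    rwa [Matrix.single_mul_single_same, mul_one] at this
  · exact hoff r s hrs

end Cfsg.Agent.TensorWreath
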