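import Cfsg.Agent.Lib.Forms.Max.TensorWreath.Induction
import Cfsg.Agent.Lib.Forms.Max.TensorWreath.Escape
import Cfsg.Agent.Lib.Forms.Max.SubfieldLinear

/-!
# Stabilisers of tensor power decompositions are maximal in the special linear group
-/

set_option autoImplicit false
set_option linter.unusedSectionVars false

namespace Cfsg.Agent.TensorWreath

open Matrix Cfsg.Agent.Aschbacher

variable {F : Type*} [Field F] [Fintype F] {m t : ℕ}

/-- the special linear group is not inside the wreath group -/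
theorem not_sl_le (hm : 3 ≤ m) (ht : 2 ≤ t) :
    ¬ Cfsg.Geo.specialLinear (Fin t → Fin m) F ≤ Wr F m t := by
  classical
  intro h
  let a : Fin m := ⟨0, by omega⟩
  let b : Fin m := ⟨1, by omega⟩
  have hab : a ≠ b := by simp [a, b]
  let i₀ : Fin t := ⟨0, by omega⟩
  let i₁ : Fin t := ⟨1, by omega⟩
  have hi : i₁ ≠ i₀ := by simp [i₀, i₁]
  let P : Fin t → Fin m := fun _ => a
  let Q : Fin t → Fin m := fun _ => b
  have hPQ : P ≠ Q := fun e => hab (congrFun e i₀)
  let g : GL (Fin t → Fin m) F := SpecialLinearGroup.toGL (SpecialLinearGroup.transvection hPQ 1)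
  have hgm : g.val = 1 + Matrix.single P Q 1 := SpecialLinearGroup.transvection_coe hPQ 1
  have hg : g ∈ Cfsg.Geo.specialLinear (Fin t → Fin m) F :=
    Aschbacher.mem_specialLinear.2 (SpecialLinearGroup.transvection hPQ 1).2
  obtain ⟨σ, c, hc⟩ := exists_nf (h hg)
  have he : ∀ x y, g.val x y = ∏ l, (c l).val (x (σ l)) (y l) := fun x y => by rw [hc, mulVec_perm_pure]
  have hPP : g.val P P ≠ 0 := by simp [hgm, hPQ.symm]
  have hPQ' : g.val P Q ≠ 0 := by simp [hgm, hPQ]
  rw [he, Finset.prod_ne_zero_iff] at hPP hPQ'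
  let Y : Fin t → Fin m := Function.update P i₀ b
  have hne : g.val P Y ≠ 0 := by
    rw [he, Finset.prod_ne_zero_iff]
    intro l hl
    rcases eq_or_ne l i₀ with rfl | hl'
    · simpa [Y, P, Q] using hPQ' i₀ hl
    · simpa [Y, Function.update_of_ne hl', P] using hPP l hl
  refine hne ?_
  have h1 : P ≠ Y := fun e => hab (by simpa [Y, P] using congrFun e i₀)
  have h2 : Q ≠ Y := fun e => hab (by simpa [Y, P, Q, Function.update_of_ne hi] using (congrFun e i₁).symm)
  rw [hgm, Matrix.add_apply, Matrix.one_apply_ne h1, Matrix.single_apply, if_neg fun h' => h2 h'.2, add_zero]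

/-- the wreath group is maximal in the special linear group -/
theorem wreath_maximal (hm : 3 ≤ m) (ht : 2 ≤ t) :
    Cfsg.Geo.IsMaximalIn (Cfsg.Geo.specialLinear (Fin t → Fin m) F)
      (Wr F m t ⊓ Cfsg.Geo.specialLinear (Fin t → Fin m) F) := by
  obtain ⟨p, hp⟩ := CharP.exists F
  haveI : Fact p.Prime := ⟨(CharP.char_is_prime_or_zero F p).resolve_right (CharP.char_ne_zero_of_finite F p)⟩
  obtain ⟨s, rfl⟩ : ∃ s, t = s + 1 := ⟨t - 1, by omega⟩
  refine Forms.Max.isMaximalIn_of inf_le_right (fun h => not_sl_le hm ht (h.trans inf_le_left)) fun M hM hMK g hgM hg => ?_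
  by_cases hT : Tame (⟨0, by omega⟩ : Fin m) M
  · exact absurd ⟨level p hm _ s M (base_of_le hM) hT hgM, hMK hgM⟩ hg
  · exact sl_le_of_not_tame hm hM hT

/-- the stabiliser of a tensor power decomposition -/
theorem tensor_wreath_maximal {ι : Type} [Fintype ι] [DecidableEq ι] (hm : 3 ≤ m) (ht : 2 ≤ t)
    (e : ι ≃ (Fin t → Fin m)) (P : GL ι F) :
    Cfsg.Geo.IsMaximalIn (Cfsg.Geo.specialLinear ι F)
      (Cfsg.Geo.tensorWreathSubgroup m t e P ⊓ Cfsg.Geo.specialLinear ι F) := by
  let φ : GL (Fin t → Fin m) F ≃* GL ι F := (Cfsg.Geo.glReindex e.symm).trans (MulAut.conj P)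
  have h := Forms.Max.SubfieldLinear.isMaximalIn_map φ (wreath_maximal (F := F) hm ht)
  have hSL : (Cfsg.Geo.specialLinear (Fin t → Fin m) F).map φ.toMonoidHom = Cfsg.Geo.specialLinear ι F := by
    ext g
    constructor
    · rintro ⟨x, hx, rfl⟩
      rw [Aschbacher.mem_specialLinear]
      show ((P * Cfsg.Geo.glReindex e.symm x * P⁻¹ : GL ι F) : Matrix ι ι F).det = 1
      rw [Units.val_mul, Units.val_mul, Matrix.det_units_conj]
      show (Matrix.reindexAlgEquiv F F e.symm (x : Matrix _ _ F)).det = 1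
      rw [Matrix.det_reindexAlgEquiv]
      exact Aschbacher.mem_specialLinear.1 hx
    · intro hg
      refine ⟨φ.symm g, ?_, φ.apply_symm_apply g⟩
      rw [SetLike.mem_coe, Aschbacher.mem_specialLinear]
      have h1 := φ.apply_symm_apply g
      rw [← Aschbacher.mem_specialLinear.1 hg]
      conv_rhs => rw [← h1]
      show _ = ((P * Cfsg.Geo.glReindex e.symm (φ.symm g) * P⁻¹ : GL ι F) : Matrix ι ι F).det
      rw [Units.val_mul, Units.val_mul, Matrix.det_units_conj]
      exact (Matrix.det_reindexAlgEquiv F F e.symm _).symm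
  rw [hSL, Subgroup.map_inf _ _ _ φ.injective, hSL] at h
  convert h using 2
  rw [Cfsg.Geo.tensorWreathSubgroup, Subgroup.map_map]
  rfl

end Cfsg.Agent.TensorWreath
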