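import Cfsg.Agent.Lib.Forms.Max.TensorWreath.Binary

/-!
# Two slots of dimension three over the field of two elements
-/

set_option autoImplicit false
set_option linter.unusedSectionVars false

namespace Cfsg.Agent.TensorWreath

open Matrix Cfsg.Agent.Aschbacher

namespace Nine

variable {F : Type*} [Field F] [Fintype F] [CharP F 2]

/-- the field of two elements -/
noncomputable def toF (F : Type*) [Field F] [CharP F 2] : ZMod 2 →+* F := ZMod.castHom (dvd_refl 2) F

theorem toF_bij (hq : Fintype.card F = 2) : Function.Bijective (toF F) :=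
  (Fintype.bijective_iff_injective_and_card _).2 ⟨(toF F).injective, by rw [ZMod.card, hq]⟩

/-- a slot transvection over the integers modulo two -/
def T₀ (i : Fin 2) (a b : Fin 3) : Matrix (Fin 2 → Fin 3) (Fin 2 → Fin 3) (ZMod 2) :=
  Matrix.of fun p q => if ∀ l, l ≠ i → p l = q l then (if p i = q i ∨ (p i = a ∧ q i = b) then 1 else 0) else 0

/-- the displacement of the product of the two long root elements -/
def N₀ : Matrix (Fin 2 → Fin 3) (Fin 2 → Fin 3) (ZMod 2) := T₀ 0 0 2 * T₀ 1 0 2 - 1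

/-- basis of its image -/
def P₀ : Matrix (Fin 2 → Fin 3) (Fin 4) (ZMod 2) :=
  Matrix.of fun p k => if (k = 0 ∧ p = ![0, 0]) ∨ (k = 1 ∧ p = ![0, 1]) ∨ (k = 2 ∧ p = ![1, 0]) ∨
    (k = 3 ∧ (p = ![0, 2] ∨ p = ![2, 0])) then 1 else 0

/-- coordinates on the image -/
def Q₀ : Matrix (Fin 4) (Fin 2 → Fin 3) (ZMod 2) :=
  Matrix.of fun k p => if (k = 0 ∧ p = ![0, 0]) ∨ (k = 1 ∧ p = ![0, 1]) ∨ (k = 2 ∧ p = ![1, 0]) ∨
    (k = 3 ∧ p = ![0, 2]) then 1 else 0

/-- preimages of the basis -/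
def R₀ : Matrix (Fin 2 → Fin 3) (Fin 4) (ZMod 2) :=
  Matrix.of fun p k => if (k = 0 ∧ p = ![2, 0]) ∨ (k = 1 ∧ p = ![2, 1]) ∨ (k = 2 ∧ p = ![1, 2]) ∨
    (k = 3 ∧ (p = ![2, 2] ∨ p = ![2, 0])) then 1 else 0

/-- a homotopy -/
def L₀ : Matrix (Fin 2 → Fin 3) (Fin 2 → Fin 3) (ZMod 2) :=
  Matrix.of fun p q => if (q = ![0, 0] ∧ p = ![2, 0]) ∨ (q = ![1, 0] ∧ p = ![1, 2]) ∨ (q = ![0, 1] ∧ p = ![2, 1]) ∨
    (q = ![0, 2] ∧ (p = ![2, 2] ∨ p = ![2, 0] ∨ p = ![2, 0])) then 1 else 0

/-- the fixed point of the homotopy -/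
def E₀ : Matrix (Fin 2 → Fin 3) (Fin 2 → Fin 3) (ZMod 2) := Matrix.single ![1, 1] ![1, 1] 1

theorem facts :
    L₀ * N₀ + N₀ * L₀ = 1 - E₀ ∧ E₀ * N₀ = 0 ∧ N₀ * E₀ = 0 ∧ Q₀ * P₀ = 1 ∧ N₀ * R₀ = P₀ ∧ P₀ * (Q₀ * N₀) = N₀ := by
  refine ⟨?_, ?_, ?_, ?_, ?_, ?_⟩ <;> decide +kernel

/-- the six conjugating elements on the image -/
def six : Fin 6 → Matrix (Fin 4) (Fin 4) (ZMod 2) :=
  ![1 + Matrix.single 0 2 1, 1 + Matrix.single 0 1 1, 1 + Matrix.single 2 3 1, 1 + Matrix.single 1 3 1,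
    1 + Matrix.single 0 3 1, 1 + Matrix.single 0 2 1 + Matrix.single 0 1 1]

theorem images :
    Q₀ * T₀ 0 0 1 * P₀ = six 0 ∧ Q₀ * T₀ 1 0 1 * P₀ = six 1 ∧ Q₀ * T₀ 0 1 2 * P₀ = six 2 ∧
      Q₀ * T₀ 1 1 2 * P₀ = six 3 ∧ Q₀ * T₀ 0 0 2 * P₀ = six 4 ∧ Q₀ * (T₀ 0 0 1 * T₀ 1 0 1) * P₀ = six 5 ∧
      Q₀ * T₀ 1 0 2 * P₀ = six 4 := by
  refine ⟨?_, ?_, ?_, ?_, ?_, ?_, ?_⟩ <;> decide +kernel

theorem search : ∀ v φ : Fin 4 → ZMod 2, φ ⬝ᵥ v = 0 → v ≠ 0 → φ ≠ 0 → (φ 0 = 0 ∧ v 3 = 0) ∨
    ∃ r, φ ⬝ᵥ (six r *ᵥ v) = 0 ∧ ∃ a b, (six r *ᵥ v) a * (φ ᵥ* six r) b ≠ v a * φ b := by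
  decide +kernel

theorem swap_rank : ∃ U : Matrix (Fin 2 → Fin 3) (Fin 3) (ZMod 2),
    (Matrix.of fun p q : Fin 2 → Fin 3 => if q = p ∘ Equiv.swap 0 1 then (1 : ZMod 2) else 0) - 1 = U * Uᵀ :=
  ⟨Matrix.of fun p k => if (k = 0 ∧ (p = ![0, 1] ∨ p = ![1, 0])) ∨ (k = 1 ∧ (p = ![0, 2] ∨ p = ![2, 0])) ∨
    (k = 2 ∧ (p = ![1, 2] ∨ p = ![2, 1])) then 1 else 0, by decide +kernel⟩

/-- the long root element -/
def x (F : Type*) [Field F] : GL (Fin 3) F := elU 0 2 (by decide) 1

/-- the product of the long root elements of the slots -/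
def y (F : Type*) [Field F] : GL (Fin 2 → Fin 3) F := sgl 0 (x F) * sgl 1 (x F)

theorem T₀_map (i : Fin 2) (a b : Fin 3) (hab : a ≠ b) :
    (T₀ i a b).map (toF F) = (sgl i (elU a b hab (1 : F))).val := by
  ext p q
  rw [Matrix.map_apply, T₀, Matrix.of_apply, sgl_coe, S_apply, apply_ite (toF F), map_zero]
  refine if_congr Iff.rfl ?_ rfl
  rw [elU_coe, Matrix.add_apply, Matrix.one_apply, Matrix.single_apply, apply_ite (toF F), map_one, map_zero]
  by_cases h : p i = q i
  · rw [if_pos (Or.inl h), if_pos h, if_neg (fun h' : a = p i ∧ b = q i => hab (by rw [h'.1, h, ← h'.2])), add_zero]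
  · by_cases h' : p i = a ∧ q i = b
    · rw [if_pos (Or.inr h'), if_neg h, if_pos ⟨h'.1.symm, h'.2.symm⟩, zero_add]
    · rw [if_neg (by tauto), if_neg h, if_neg (fun h'' : a = p i ∧ b = q i => h' ⟨h''.1.symm, h''.2.symm⟩), add_zero]

theorem N₀_map : N₀.map (toF F) = (y F).val - 1 := by
  rw [N₀, ← RingHom.mapMatrix_apply, map_sub, map_mul, map_one]
  simp only [RingHom.mapMatrix_apply]
  rw [T₀_map 0 0 2 (by decide), T₀_map 1 0 2 (by decide)]
  rfl

theorem pure_inj (hq : Fintype.card F = 2) {t : ℕ} {a b : Fin t → GL (Fin 3) F} (h : pureGL a = pureGL b) : a = b := by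
  have h1 : pureGL (a⁻¹ * b) = 1 := by rw [← pureGL_mul, ← pureGL_inv, h, inv_mul_cancel]
  funext i
  obtain ⟨c, hc0, hc⟩ := pure_scalar (by norm_num) h1 i
  rw [(zero_or_one hq c).resolve_left hc0, map_one] at hc
  exact inv_mul_eq_one.1 (Units.ext hc)

theorem two_pure (a b : GL (Fin 3) F) : sgl (0 : Fin 2) a * sgl 1 b = pureGL ![a, b] := by
  rw [sgl_eq, sgl_eq, pureGL_mul]
  congr 1
  funext i
  fin_cases i <;> simp

theorem det_one (hq : Fintype.card F = 2) (a : GL (Fin 3) F) : a.val.det = 1 :=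
  (zero_or_one hq _).resolve_left ((Matrix.isUnit_iff_isUnit_det _).1 a.isUnit).ne_zero

theorem pure_mem (hq : Fintype.card F = 2) {G : Subgroup (GL (Fin 2 → Fin 3) F)} (hB : Base G)
    (a : Fin 2 → GL (Fin 3) F) : pureGL a ∈ G := by
  rw [show a = ![a 0, a 1] by funext i; fin_cases i <;> rfl, ← two_pure]
  exact mul_mem (hB 0 _ (det_one hq _)) (hB 1 _ (det_one hq _))

/-- involutions of dimension three are root elements -/
theorem involution {a : GL (Fin 3) F} (h : a * a = 1) (h1 : a ≠ 1) : ∃ c : GL (Fin 3) F, a = c * x F * c⁻¹ := by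
  classical
  set α := a.val - 1 with hα
  have hαα : α ^ 2 = 0 := by
    rw [hα, sub_pow_char_of_commute _ (Commute.one_right _), one_pow, sq, ← Units.val_mul, h, Units.val_one, sub_self]
  obtain ⟨f, e, he, hli⟩ := exists_chain (le_refl 3) hαα (sub_ne_zero.2 fun e => h1 (Units.ext e))
  let C : Matrix (Fin 3) (Fin 3) F := Matrix.of fun u k => ![α *ᵥ f, e, f] k u
  have hu : IsUnit C := by
    rw [← Matrix.mulVec_injective_iff_isUnit]
    refine (injective_iff_map_eq_zero C.mulVecLin).2 fun z (hz : C *ᵥ z = 0) => ?_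
    have h0 := Fintype.linearIndependent_iff.1 hli ![z 2, z 0, z 1] (by
      rw [Fin.sum_univ_three]
      funext u
      have := congrFun hz u
      simp [C, mulVec, dotProduct, Fin.sum_univ_three] at this
      simp [mulVec, dotProduct, Fin.sum_univ_three]
      linear_combination this)
    funext i
    fin_cases i
    · simpa using h0 1
    · simpa using h0 2
    · simpa using h0 0
  obtain ⟨c, hc⟩ := hu
  refine ⟨c, eq_mul_inv_iff_mul_eq.2 (Units.ext ?_)⟩
  rw [Units.val_mul, Units.val_mul, x, elU_coe, hc, mul_add, mul_one, show a.val = 1 + α by rw [hα]; abel,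
    add_mul, one_mul]
  congr 1
  ext u k
  have hαf : α *ᵥ (α *ᵥ f) = 0 := by rw [Matrix.mulVec_mulVec, ← sq, hαα, Matrix.zero_mulVec]
  fin_cases k
  · have := congrFun hαf u
    simpa [C, Matrix.mul_apply, Matrix.single_apply, mulVec, dotProduct] using this
  · have := congrFun he u
    simpa [C, Matrix.mul_apply, Matrix.single_apply, mulVec, dotProduct] using this
  · simp [C, Matrix.mul_apply, Matrix.single_apply, mulVec, dotProduct, Fin.sum_univ_three]

variable {G : Subgroup (GL (Fin 2 → Fin 3) F)} {o : Fin 3}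

/-- goodness of the slot transvections -/
def Good (G : Subgroup (GL (Fin 2 → Fin 3) F)) : Prop :=
  ∀ g ∈ G, ∀ (i : Fin 2) (a : GL (Fin 3) F), a * a = 1 → a ≠ 1 → g * sgl i a * g⁻¹ ∈ Wr F 3 2 → g ∈ Wr F 3 2

theorem one_add_sq {a b : Fin 3} (hab : a ≠ b) :
    (1 + Matrix.single a b (1 : F) : Matrix (Fin 3) (Fin 3) F) * (1 + Matrix.single a b 1) = 1 := by
  simp only [mul_add, add_mul, one_mul, mul_one, Matrix.single_mul_single_of_ne _ _ _ _ hab.symm, add_zero]
  ext u v
  simp [add_assoc, CharTwo.add_self_eq_zero]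

theorem sgl_inv2 (i : Fin 2) : sgl i (x F) * sgl i (x F) = 1 := by
  rw [← map_mul, ← map_one (sgl (F := F) (m := 3) i)]
  congr 1
  refine Units.ext ?_
  rw [Units.val_mul, x, elU_coe, Units.val_one, one_add_sq (by decide)]

theorem x_sq : x F * x F = 1 := by
  refine Units.ext ?_
  rw [Units.val_mul, x, elU_coe, Units.val_one, one_add_sq (by decide)]

theorem x_ne : x F ≠ 1 := fun h => by
  have := congrArg (fun a : GL (Fin 3) F => a.val 0 2) h
  simp [x, elU_coe] at this

theorem slot_comm (a b : GL (Fin 3) F) : sgl (0 : Fin 2) a * sgl 1 b = sgl 1 b * sgl 0 a :=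
  Units.ext (by simp only [Units.val_mul, sgl_coe]; exact S_comm (by decide) _ _)

theorem comm_y (i : Fin 2) : sgl i (x F) * y F = y F * sgl i (x F) := by
  rw [y]
  fin_cases i
  · show sgl 0 (x F) * (sgl 0 (x F) * sgl 1 (x F)) = sgl 0 (x F) * sgl 1 (x F) * sgl 0 (x F)
    rw [mul_assoc (sgl 0 (x F)) (sgl 1 (x F)), ← slot_comm]
  · show sgl 1 (x F) * (sgl 0 (x F) * sgl 1 (x F)) = sgl 0 (x F) * sgl 1 (x F) * sgl 1 (x F)
    rw [← mul_assoc, ← slot_comm]

/-- the first case: trivial action on the image -/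
theorem kernel_mem (hq : Fintype.card F = 2) (hB : Base G) (hgood : Good G) {k : GL (Fin 2 → Fin 3) F} (hk : k ∈ G)
    (hcy : k * y F = y F * k) (hkN : k.val * ((y F).val - 1) = (y F).val - 1) : k ∈ Wr F 3 2 := by
  classical
  obtain ⟨f1, f2, f3, -, -, -⟩ := facts
  set N := (y F).val - 1 with hN
  set L := L₀.map (toF F)
  set E := E₀.map (toF F) with hE
  have e1 : L * N + N * L = 1 - E := by
    have := congrArg (toF F).mapMatrix f1
    simpa [map_add, map_sub, map_mul, RingHom.mapMatrix_apply, N₀_map] using this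
  have e2 : E * N = 0 := by
    have := congrArg (toF F).mapMatrix f2
    simpa [map_mul, RingHom.mapMatrix_apply, N₀_map] using this
  have e3 : N * E = 0 := by
    have := congrArg (toF F).mapMatrix f3
    simpa [map_mul, RingHom.mapMatrix_apply, N₀_map] using this
  have hone : 1 = E + (L * N + N * L) := by rw [e1]; abel
  set z : Fin 2 → Fin 3 := ![1, 1]
  have hEs : E = Matrix.single z z 1 := by rw [hE, E₀, Matrix.map_single, map_one]
  have hEME : ∀ M, E * M * E = M z z • E := fun M => by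
    rw [hEs, Matrix.single_mul_mul_single, one_mul, mul_one, Matrix.smul_single, smul_eq_mul, mul_one]
  have hcomm : ∀ g : GL (Fin 2 → Fin 3) F, g * y F = y F * g → g.val * N = N * g.val := fun g hg => by
    rw [hN, mul_sub, sub_mul, mul_one, one_mul, ← Units.val_mul, ← Units.val_mul, hg]
  -- exponent four
  have h4 : ∀ g : GL (Fin 2 → Fin 3) F, g * y F = y F * g → g.val * N = N → g ^ 4 = 1 := by
    intro g hg hgN
    have hg' : g⁻¹ * y F = y F * g⁻¹ := (Commute.inv_left (show Commute g (y F) from hg))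
    have hgN' : (g⁻¹).val * N = N := by
      conv_lhs => rw [← hgN]
      rw [← mul_assoc, ← Units.val_mul, inv_mul_cancel, Units.val_one, one_mul]
    set A := g.val - 1 with hA
    have hAN : A * N = 0 := by rw [hA, sub_mul, one_mul, hgN, sub_self]
    have hNA : N * A = 0 := by rw [hA, mul_sub, mul_one, ← hcomm g hg, hgN, sub_self]
    have hzz : g.val z z = 1 := by
      have h1 : E * g.val * E * ((g⁻¹).val * E) = E := by
        have e : E * g.val * (L * N + N * L) * ((g⁻¹).val * E) = 0 := by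
          have a1 : N * ((g⁻¹).val * E) = 0 := by rw [← mul_assoc, ← hcomm _ hg', mul_assoc, e3, mul_zero]
          have a2 : E * g.val * N = 0 := by rw [mul_assoc, hgN, e2]
          rw [mul_add, add_mul, ← mul_assoc (E * g.val) L N, mul_assoc _ N ((g⁻¹).val * E), a1, mul_zero,
            ← mul_assoc (E * g.val) N L, a2, zero_mul, zero_mul, add_zero]
        have h2 : E * g.val * (E + (L * N + N * L)) * ((g⁻¹).val * E) = E * E := by
          rw [← hone, mul_one, mul_assoc, ← mul_assoc g.val, ← Units.val_mul, mul_inv_cancel, Units.val_one, one_mul]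
        rw [mul_add, add_mul, e, add_zero] at h2
        rw [h2, hEs, Matrix.single_mul_single_same, one_mul]
      rw [hEME, smul_mul_assoc, ← mul_assoc, hEME, smul_smul] at h1
      have h3 := congrFun (congrFun h1 z) z
      rw [hEs, Matrix.smul_apply, Matrix.single_apply_same, smul_eq_mul, mul_one] at h3
      rcases zero_or_one hq (g.val z z) with h0 | h0
      · rw [h0, zero_mul] at h3; exact absurd h3 zero_ne_one
      · exact h0
    have hA2 : A * A = A * E * A := by
      have e : A * (L * N + N * L) * A = 0 := by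
        rw [mul_add, add_mul, ← mul_assoc A L N, mul_assoc _ N A, hNA, mul_zero, ← mul_assoc A N L, hAN, zero_mul,
          zero_mul, add_zero]
      have h1 := congrArg (fun M => A * M * A) hone
      simp only [mul_one] at h1
      rw [h1, mul_add, add_mul, e, add_zero]
    have hA3 : A * A * A = 0 := by
      rw [hA2, mul_assoc, hA2]
      have e : E * A * E = 0 := by
        rw [hEME, hA, Matrix.sub_apply, hzz, Matrix.one_apply_eq, sub_self, zero_smul]
      rw [show A * E * (A * E * A) = A * (E * A * E) * A by simp only [mul_assoc], e, mul_zero, zero_mul]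
    refine Units.ext ?_
    have h0 : A ^ 4 = 0 := by rw [pow_succ, pow_succ, pow_two, hA3, zero_mul]
    rw [hA, show (4 : ℕ) = 2 ^ 2 by norm_num, sub_pow_char_pow_of_commute _ _ (Commute.one_right _), one_pow,
      sub_eq_zero] at h0
    rw [Units.val_pow_eq_pow_val, Units.val_one]
    exact h0
  -- a two-group containing a root element
  set x0 := sgl (0 : Fin 2) (x F) with hx0
  have hx0y := comm_y (F := F) 0
  have hx0N := hcomm x0 hx0y
  have hx0x0 : x0.val * x0.val = 1 := by rw [← Units.val_mul, sgl_inv2, Units.val_one]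
  let P : Subgroup (GL (Fin 2 → Fin 3) F) :=
    { carrier := {g | g ∈ G ∧ g * y F = y F * g ∧ (g.val * N = N ∨ g.val * N = x0.val * N)}
      one_mem' := ⟨one_mem G, by simp, Or.inl (by simp)⟩
      mul_mem' := by
        rintro a b ⟨a1, a2, a3⟩ ⟨b1, b2, b3⟩
        refine ⟨mul_mem a1 b1, (Commute.mul_left (show Commute a (y F) from a2) b2), ?_⟩
        rw [Units.val_mul, mul_assoc]
        rcases b3 with b3 | b3 <;> rw [b3]
        · exact a3
        · rw [hx0N, ← mul_assoc]
          rcases a3 with a3 | a3 <;> rw [a3]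
          · exact Or.inr rfl
          · left; rw [mul_assoc, ← hx0N, ← mul_assoc, hx0x0, one_mul]
      inv_mem' := by
        rintro a ⟨a1, a2, a3⟩
        refine ⟨inv_mem a1, Commute.inv_left (show Commute a (y F) from a2), ?_⟩
        have hi : (a⁻¹).val * a.val = 1 := by rw [← Units.val_mul, inv_mul_cancel, Units.val_one]
        rcases a3 with a3 | a3
        · left; conv_lhs => rw [← a3]
          rw [← mul_assoc, hi, one_mul]
        · right
          have e : (a⁻¹).val * (x0.val * N) = N := by rw [← a3, ← mul_assoc, hi, one_mul]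
          rw [hx0N, ← mul_assoc] at e
          calc (a⁻¹).val * N = (a⁻¹).val * N * (x0.val * x0.val) := by rw [hx0x0, mul_one]
            _ = N * x0.val := by rw [← mul_assoc, e]
            _ = _ := hx0N.symm }
  have hP : IsPGroup 2 P := fun g => ⟨3, Subtype.ext (by
    obtain ⟨h1, h2, h3⟩ := g.2
    rw [SubgroupClass.coe_pow, OneMemClass.coe_one, show (2 : ℕ) ^ 3 = 2 * 4 by norm_num, pow_mul]
    refine h4 _ ((Commute.pow_left (show Commute g.1 (y F) from h2) 2)) ?_
    rw [sq, Units.val_mul, mul_assoc]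
    rcases h3 with h3 | h3 <;> rw [h3]
    · exact h3
    · rw [hx0N, ← mul_assoc, h3, mul_assoc, ← hx0N, ← mul_assoc, hx0x0, one_mul])⟩
  haveI : Group.IsNilpotent P := hP.isNilpotent
  have hx0P : x0 ∈ P := ⟨hB 0 _ (det_one hq _), hx0y, Or.inr rfl⟩
  let Q : Subgroup P := (Wr F 3 2).subgroupOf P
  have htop : Q = ⊤ := by
    by_contra hne
    obtain ⟨-, n, hn, hnQ⟩ := SetLike.lt_iff_le_and_exists.1
      (Group.normalizerCondition_of_isNilpotent Q (lt_top_iff_ne_top.2 hne))
    refine hnQ ?_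
    rw [Subgroup.mem_normalizer_iff] at hn
    have h1 := (hn ⟨x0, hx0P⟩).1 (sgl_mem _ _)
    exact hgood n.1 n.2.1 0 (x F) x_sq x_ne h1
  exact (htop ▸ Subgroup.mem_top (⟨k, hk, hcy, Or.inl hkN⟩ : P) : (⟨k, hk, hcy, Or.inl hkN⟩ : P) ∈ Q)

/-- the matrix on the image -/
noncomputable def img (g : GL (Fin 2 → Fin 3) F) : Matrix (Fin 4) (Fin 4) F :=
  Q₀.map (toF F) * g.val * P₀.map (toF F)

theorem img_spec {g : GL (Fin 2 → Fin 3) F} (hg : g * y F = y F * g) :
    g.val * P₀.map (toF F) = P₀.map (toF F) * img g := by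
  obtain ⟨-, -, -, -, f5, f6⟩ := facts
  have e5 : ((y F).val - 1) * R₀.map (toF F) = P₀.map (toF F) := by
    rw [← N₀_map, ← Matrix.map_mul, f5]
  have e6 : P₀.map (toF F) * (Q₀.map (toF F) * ((y F).val - 1)) = (y F).val - 1 := by
    rw [← N₀_map, ← Matrix.map_mul, ← Matrix.map_mul, f6]
  have hc : g.val * ((y F).val - 1) = ((y F).val - 1) * g.val := by
    rw [mul_sub, sub_mul, mul_one, one_mul, ← Units.val_mul, ← Units.val_mul, hg]
  have key : g.val * P₀.map (toF F) = ((y F).val - 1) * (g.val * R₀.map (toF F)) := by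
    rw [← e5, ← Matrix.mul_assoc, hc, Matrix.mul_assoc]
  rw [img, Matrix.mul_assoc (Q₀.map (toF F)), key]
  conv_lhs => rw [← e6]
  simp only [Matrix.mul_assoc]

theorem img_mul {a b : GL (Fin 2 → Fin 3) F} (hb : b * y F = y F * b) : img (a * b) = img a * img b := by
  rw [img, Units.val_mul, Matrix.mul_assoc, Matrix.mul_assoc a.val, img_spec hb, img, img]
  simp only [Matrix.mul_assoc]

theorem img_one : img (1 : GL (Fin 2 → Fin 3) F) = 1 := by
  obtain ⟨-, -, -, f4, -, -⟩ := facts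
  rw [img, Units.val_one, Matrix.mul_one, ← Matrix.map_mul, f4, Matrix.map_one _ (map_zero _) (map_one _)]

theorem img_root (i : Fin 2) : img (sgl i (x F)) = 1 + Matrix.single 0 3 1 := by
  obtain ⟨-, -, -, -, i5, -, i7⟩ := images
  rw [img, x, ← T₀_map i 0 2 (by decide), ← Matrix.map_mul, ← Matrix.map_mul]
  fin_cases i
  · simp only [Fin.zero_eta]; rw [i5]; simp [six, Matrix.map_add, Matrix.map_one]
  · simp only [Fin.mk_one]; rw [i7]; simp [six, Matrix.map_add, Matrix.map_one]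

/-- conjugates of `x₀` by elements of the wreath group fixing `y` -/
theorem wreath_conj (hq : Fintype.card F = 2) {h : GL (Fin 2 → Fin 3) F} (hh : h ∈ Wr F 3 2) (hc : h * y F = y F * h) :
    ∃ i, h * sgl 0 (x F) * h⁻¹ = sgl i (x F) := by
  obtain ⟨σ, a, rfl⟩ := exists_nf hh
  refine ⟨σ 0, ?_⟩
  rw [conj_nf_sgl]
  congr 1
  have e : permGL σ * pureGL a * y F * (permGL σ * pureGL a)⁻¹ = y F := by rw [hc, mul_inv_cancel_right]
  rw [y, ← conj_mul, conj_nf_sgl, conj_nf_sgl, two_pure (x F) (x F), sgl_eq, sgl_eq, pureGL_mul] at e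
  have e' := congrFun (pure_inj hq e) (σ 0)
  have hne : σ 0 ≠ σ 1 := fun h => absurd (σ.injective h) (by decide)
  rw [Pi.mul_apply, Pi.mulSingle_eq_same, Pi.mulSingle_eq_of_ne hne, mul_one] at e'
  rw [e']
  generalize σ 0 = i
  fin_cases i <;> rfl

theorem commute_case (hq : Fintype.card F = 2) (hB : Base G) (hgood : Good G) {c : GL (Fin 2 → Fin 3) F} (hc : c ∈ G)
    (hcy : c * y F = y F * c)
    (h : img (c * sgl 0 (x F) * c⁻¹) * img (sgl 0 (x F)) = img (sgl 0 (x F)) * img (c * sgl 0 (x F) * c⁻¹)) :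
    c ∈ Wr F 3 2 := by
  set x0 := sgl (0 : Fin 2) (x F)
  set u := c * x0 * c⁻¹ with hu
  have hx0 : x0 * y F = y F * x0 := comm_y 0
  have huy : u * y F = y F * u := ((Commute.mul_left (show Commute c (y F) from hcy) hx0).mul_left
    (Commute.inv_left (show Commute c (y F) from hcy)))
  have huu : u * u = 1 := by
    rw [hu, show c * x0 * c⁻¹ * (c * x0 * c⁻¹) = c * (x0 * x0) * c⁻¹ by group, sgl_inv2, mul_one, mul_inv_cancel]
  have hx0G : x0 ∈ G := hB 0 _ (det_one hq _)
  have huG : u ∈ G := mul_mem (mul_mem hc hx0G) (inv_mem hc)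
  set d := u * x0 * u * x0 with hd
  have hdy : d * y F = y F * d :=
    (((Commute.mul_left (show Commute u (y F) from huy) hx0).mul_left huy).mul_left hx0)
  have hd1 : img d = 1 := by
    rw [hd, img_mul hx0, img_mul huy, img_mul hx0, h, Matrix.mul_assoc (img x0) (img u) (img u), ← img_mul huy, huu,
      img_one, Matrix.mul_one, ← img_mul hx0, sgl_inv2, img_one]
  have hdW : d ∈ Wr F 3 2 := by
    refine kernel_mem hq hB hgood (mul_mem (mul_mem (mul_mem huG hx0G) huG) hx0G) hdy ?_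
    obtain ⟨-, -, -, -, -, f6⟩ := facts
    have e6 : P₀.map (toF F) * (Q₀.map (toF F) * ((y F).val - 1)) = (y F).val - 1 := by
      rw [← N₀_map, ← Matrix.map_mul, ← Matrix.map_mul, f6]
    conv_lhs => rw [← e6, ← Matrix.mul_assoc, img_spec hdy, hd1, Matrix.mul_one, e6]
  have h1 : u * x0 * u⁻¹ ∈ Wr F 3 2 := by
    have e : u * x0 * u⁻¹ = d * x0 := by
      rw [hd, inv_eq_of_mul_eq_one_right huu, mul_assoc _ x0 x0, sgl_inv2, mul_one]
    rw [e]
    exact mul_mem hdW (sgl_mem _ _)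
  have huW := hgood u huG 0 (x F) x_sq x_ne h1
  exact hgood c hc 0 (x F) x_sq x_ne huW

theorem six_mem (hq : Fintype.card F = 2) (hB : Base G) (r : Fin 6) :
    ∃ g ∈ G, g * y F = y F * g ∧ g * g = 1 ∧ img g = (six r).map (toF F) := by
  obtain ⟨i1, i2, i3, i4, i5, i6, -⟩ := images
  have hc : ∀ (i : Fin 2) (a b : Fin 3) (hab : a ≠ b), a ≠ 2 → b ≠ 0 →
      sgl i (elU a b hab (1 : F)) * y F = y F * sgl i (elU a b hab 1) := by
    intro i a b hab ha hb
    have e : elU a b hab (1 : F) * x F = x F * elU a b hab 1 := Units.ext (by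
      rw [x, Units.val_mul, Units.val_mul, elU_coe, elU_coe]
      simp [mul_add, add_mul, Matrix.single_mul_single_of_ne _ _ _ _ hb,
        Matrix.single_mul_single_of_ne _ _ _ _ ha.symm]
      abel)
    fin_cases i
    · show sgl 0 _ * (sgl 0 (x F) * sgl 1 (x F)) = sgl 0 (x F) * sgl 1 (x F) * sgl 0 _
      rw [← mul_assoc, ← map_mul, e, map_mul, mul_assoc (sgl 0 (x F)) (sgl 1 (x F)), ← slot_comm, mul_assoc]
    · show sgl 1 _ * (sgl 0 (x F) * sgl 1 (x F)) = sgl 0 (x F) * sgl 1 (x F) * sgl 1 _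
      rw [← mul_assoc, ← slot_comm, mul_assoc, ← map_mul, e, map_mul, mul_assoc]
  have hi : ∀ (i : Fin 2) (a b : Fin 3) (hab : a ≠ b), sgl i (elU a b hab (1 : F)) * sgl i (elU a b hab 1) = 1 := by
    intro i a b hab
    rw [← map_mul, ← map_one (sgl (F := F) (m := 3) i)]
    congr 1
    refine Units.ext ?_
    rw [Units.val_mul, elU_coe, Units.val_one, one_add_sq hab]
  have one : ∀ (i : Fin 2) (a b : Fin 3) (hab : a ≠ b), a ≠ 2 → b ≠ 0 → ∀ M, Q₀ * T₀ i a b * P₀ = M →
      ∃ g ∈ G, g * y F = y F * g ∧ g * g = 1 ∧ img g = M.map (toF F) :=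
    fun i a b hab ha hb M hM => ⟨_, hB i _ (det_one hq _), hc i a b hab ha hb, hi i a b hab, by
      rw [img, ← T₀_map i a b hab, ← Matrix.map_mul, ← Matrix.map_mul, hM]⟩
  fin_cases r
  · exact one 0 0 1 (by decide) (by decide) (by decide) _ i1
  · exact one 1 0 1 (by decide) (by decide) (by decide) _ i2
  · exact one 0 1 2 (by decide) (by decide) (by decide) _ i3
  · exact one 1 1 2 (by decide) (by decide) (by decide) _ i4
  · exact one 0 0 2 (by decide) (by decide) (by decide) _ i5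
  · have h1 := hc 0 0 1 (by decide) (by decide) (by decide)
    have h2 := hc 1 0 1 (by decide) (by decide) (by decide)
    refine ⟨_, mul_mem (hB 0 (elU 0 1 (by decide) (1 : F)) (det_one hq _)) (hB 1 (elU 0 1 (by decide) (1 : F)) (det_one hq _)),
      Commute.mul_left h1 h2, ?_, ?_⟩
    · rw [mul_assoc, ← mul_assoc (sgl 1 _), ← slot_comm, mul_assoc, hi, mul_one, hi]
    · rw [img, Units.val_mul, ← T₀_map 0 0 1 (by decide), ← T₀_map 1 0 1 (by decide), ← Matrix.map_mul, ← Matrix.map_mul,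
        ← Matrix.map_mul]
      exact congrArg (fun M : Matrix (Fin 4) (Fin 4) (ZMod 2) => M.map (toF F)) i6

theorem rank_one_mul {u v φ ψ : Fin 4 → F} :
    vecMulVec u φ * vecMulVec v ψ = (φ ⬝ᵥ v) • vecMulVec u ψ := by
  rw [vecMulVec_mul_vecMulVec, vecMulVec_smul]

/-- the centraliser of `y` -/
theorem centraliser_mem (hq : Fintype.card F = 2) (hB : Base G) (hgood : Good G) {c : GL (Fin 2 → Fin 3) F} (hc : c ∈ G)
    (hcy : c * y F = y F * c) : c ∈ Wr F 3 2 := by
  classical
  set x0 := sgl (0 : Fin 2) (x F) with hx0d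
  have hx0 : x0 * y F = y F * x0 := comm_y 0
  have hcy' : c⁻¹ * y F = y F * c⁻¹ := Commute.inv_left (show Commute c (y F) from hcy)
  have hinv : img c * img c⁻¹ = 1 := by rw [← img_mul hcy', mul_inv_cancel, img_one]
  have hinv' : img c⁻¹ * img c = 1 := by rw [← img_mul hcy, inv_mul_cancel, img_one]
  set e := (Equiv.ofBijective _ (toF_bij (F := F) hq))
  let v₀ : Fin 4 → ZMod 2 := fun a => e.symm (img c a 0)
  let φ₀ : Fin 4 → ZMod 2 := fun a => e.symm (img c⁻¹ 3 a)
  have hv : ∀ a, toF F (v₀ a) = img c a 0 := fun a => e.apply_symm_apply _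
  have hφ : ∀ a, toF F (φ₀ a) = img c⁻¹ 3 a := fun a => e.apply_symm_apply _
  set v : Fin 4 → F := fun a => img c a 0
  set φ : Fin 4 → F := fun a => img c⁻¹ 3 a
  have himgu : img (c * x0 * c⁻¹) = 1 + vecMulVec v φ := by
    rw [img_mul hcy', img_mul hx0, img_root, mul_add, mul_one, add_mul, hinv]
    congr 1
    ext a b
    rw [vecMulVec_apply, Matrix.mul_apply, Finset.sum_eq_single 3 (fun d _ hd => ?_) (by simp),
      Matrix.mul_single_apply_same, mul_one]
    rw [Matrix.mul_single_apply_of_ne _ _ _ _ _ hd, zero_mul]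
  have hdot : φ₀ ⬝ᵥ v₀ = 0 := (toF F).injective (by
    rw [map_zero, RingHom.map_dotProduct]
    have h1 := congrFun (congrFun hinv' 3) 0
    rw [Matrix.mul_apply, Matrix.one_apply_ne (by decide)] at h1
    rw [← h1]
    exact Finset.sum_congr rfl fun a _ => by simp [hv, hφ])
  have hv0 : v₀ ≠ 0 := fun h0 => by
    have h1 := congrFun (congrFun hinv' 0) 0
    rw [Matrix.mul_apply, Matrix.one_apply_eq, Finset.sum_eq_zero fun a _ => by
      rw [← hv a, h0, Pi.zero_apply, map_zero, mul_zero]] at h1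
    exact zero_ne_one h1
  have hφ0 : φ₀ ≠ 0 := fun h0 => by
    have h1 := congrFun (congrFun hinv' 3) 3
    rw [Matrix.mul_apply, Matrix.one_apply_eq, Finset.sum_eq_zero fun a _ => by
      rw [← hφ a, h0, Pi.zero_apply, map_zero, zero_mul]] at h1
    exact zero_ne_one h1
  rcases search v₀ φ₀ hdot hv0 hφ0 with ⟨a0, a3⟩ | ⟨r, hr1, a, b, hr2⟩
  · refine commute_case hq hB hgood hc hcy ?_
    rw [himgu, img_root]
    have e1 : vecMulVec v φ * (Matrix.single 0 3 1 : Matrix (Fin 4) (Fin 4) F) = 0 := by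
      ext p q
      rw [Matrix.zero_apply]
      rcases eq_or_ne q 3 with rfl | hq'
      · rw [Matrix.mul_single_apply_same, vecMulVec_apply]
        simp [φ, ← hφ, a0]
      · exact Matrix.mul_single_apply_of_ne _ _ _ _ _ hq' _
    have e2 : (Matrix.single 0 3 1 : Matrix (Fin 4) (Fin 4) F) * vecMulVec v φ = 0 := by
      ext p q
      rw [Matrix.zero_apply]
      rcases eq_or_ne p 0 with rfl | hp
      · rw [Matrix.single_mul_apply_same, vecMulVec_apply]
        simp [v, ← hv, a3]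
      · exact Matrix.single_mul_apply_of_ne _ _ _ _ _ hp _
    simp only [mul_add, add_mul, one_mul, mul_one, e2]
    rw [e1]
    abel
  · exfalso
    obtain ⟨g, hgG, hgy, hgg, hgi⟩ := six_mem hq hB r
    set R := (six r).map (toF F)
    have hgi' : g⁻¹ = g := inv_eq_of_mul_eq_one_right hgg
    set c' := c⁻¹ * g * c with hc'
    have hc'y : c' * y F = y F * c' :=
      ((Commute.mul_left (show Commute c⁻¹ (y F) from hcy') hgy).mul_left hcy)
    set w : Fin 4 → F := fun a => toF F ((six r *ᵥ v₀) a)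
    set ψ : Fin 4 → F := fun a => toF F ((φ₀ ᵥ* six r) a)
    have hw : R *ᵥ v = w := funext fun p => by
      simp [w, R, mulVec, dotProduct, v, ← hv]
    have hψ : φ ᵥ* R = ψ := funext fun p => by
      simp [ψ, R, vecMul, dotProduct, φ, ← hφ]
    have hu' : img (g * (c * x0 * c⁻¹) * g⁻¹) = 1 + vecMulVec w ψ := by
      have hu : (c * x0 * c⁻¹) * y F = y F * (c * x0 * c⁻¹) :=
        ((Commute.mul_left (show Commute c (y F) from hcy) hx0).mul_left hcy')
      rw [hgi', img_mul hgy, img_mul hu, himgu, hgi, mul_add, mul_one, add_mul, mul_vecMulVec, vecMulVec_mul, hw, hψ,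
        ← hgi, ← img_mul hgy, hgg, img_one]
    have hzero : φ ⬝ᵥ w = 0 ∧ ψ ⬝ᵥ v = 0 := by
      have h1 : φ ⬝ᵥ w = 0 := by
        have := congrArg (toF F) hr1
        rw [RingHom.map_dotProduct, map_zero] at this
        rw [← this]
        exact Finset.sum_congr rfl fun p _ => by simp [φ, w, hφ]
      exact ⟨h1, by rw [← hψ, ← dotProduct_mulVec, hw, h1]⟩
    have hcommW : c' ∈ Wr F 3 2 := by
      refine commute_case hq hB hgood (mul_mem (mul_mem (inv_mem hc) hgG) hc) hc'y ?_
      have e1 : c' * x0 * c'⁻¹ = c⁻¹ * (g * (c * x0 * c⁻¹) * g⁻¹) * c := by rw [hc']; group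
      have e2 : img x0 = img c⁻¹ * (1 + vecMulVec v φ) * img c := by
        rw [← himgu, img_mul hcy', img_mul hx0]
        simp only [← mul_assoc, hinv', one_mul]
        rw [mul_assoc, hinv', mul_one]
      have hmid : (g * (c * x0 * c⁻¹) * g⁻¹) * y F = y F * (g * (c * x0 * c⁻¹) * g⁻¹) :=
        ((Commute.mul_left (show Commute g (y F) from hgy)
          ((Commute.mul_left (show Commute c (y F) from hcy) hx0).mul_left hcy')).mul_left
          (Commute.inv_left (show Commute g (y F) from hgy)))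
      rw [e1, img_mul hcy, img_mul hmid, hu', e2]
      have key : (1 + vecMulVec w ψ) * (1 + vecMulVec v φ) = (1 + vecMulVec v φ) * (1 + vecMulVec w ψ) := by
        simp only [mul_add, add_mul, one_mul, mul_one, rank_one_mul, hzero.1, hzero.2, zero_smul]
        abel
      calc img c⁻¹ * (1 + vecMulVec w ψ) * img c * (img c⁻¹ * (1 + vecMulVec v φ) * img c)
          = img c⁻¹ * ((1 + vecMulVec w ψ) * (1 + vecMulVec v φ)) * img c := by
            simp only [mul_assoc]; rw [← mul_assoc (img c) (img c⁻¹), hinv, one_mul]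
        _ = img c⁻¹ * ((1 + vecMulVec v φ) * (1 + vecMulVec w ψ)) * img c := by rw [key]
        _ = _ := by simp only [mul_assoc]; rw [← mul_assoc (img c) (img c⁻¹), hinv, one_mul]
    obtain ⟨i, hi⟩ := wreath_conj hq hcommW hc'y
    have e : img (g * (c * x0 * c⁻¹) * g⁻¹) = img (c * x0 * c⁻¹) := by
      have e1 : g * (c * x0 * c⁻¹) * g⁻¹ = c * (c' * x0 * c'⁻¹) * c⁻¹ := by rw [hc']; group
      rw [e1, hi, img_mul hcy', img_mul (comm_y i), img_mul hcy', img_mul hx0, img_root, img_root]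
    rw [hu', himgu, add_right_inj] at e
    have := congrFun (congrFun e a) b
    rw [vecMulVec_apply, vecMulVec_apply] at this
    simp only [w, ψ, v, φ, ← hv, ← hφ, ← map_mul] at this
    exact hr2 ((toF F).injective this)

end Nine

end Cfsg.Agent.TensorWreath
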