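import Cfsg.Agent.Lib.Forms.Max.TensorWreath.Nine

/-!
# Tame groups of two slots over the field of two elements
-/

set_option autoImplicit false
set_option linter.unusedSectionVars false

namespace Cfsg.Agent.TensorWreath

open Matrix Cfsg.Agent.Aschbacher

variable {F : Type*} [Field F] {m : ℕ}

/-- a single slot -/
theorem level_zero (o : Fin m) : Level (F := F) o 0 := by
  intro G _ _ g _
  classical
  let A : Matrix (Fin m) (Fin m) F := Matrix.of fun i j => g.val (fun _ => i) fun _ => j
  let B : Matrix (Fin m) (Fin m) F := Matrix.of fun i j => (g⁻¹).val (fun _ => i) fun _ => j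
  have hmul : ∀ (u v : GL (Fin 1 → Fin m) F) (i j : Fin m),
      ((u * v : GL (Fin 1 → Fin m) F)).val (fun _ => i) (fun _ => j) =
        ∑ k, u.val (fun _ => i) (fun _ => k) * v.val (fun _ => k) (fun _ => j) := by
    intro u v i j
    rw [Units.val_mul, Matrix.mul_apply]
    exact Fintype.sum_equiv (Equiv.funUnique (Fin 1) (Fin m)) _ _ fun z => by
      have e : (fun _ : Fin 1 => z default) = z := funext fun l => congrArg z (Subsingleton.elim _ _)
      simp only [Equiv.funUnique_apply, e]
  have h1 : ∀ u v : GL (Fin 1 → Fin m) F, u * v = 1 → Matrix.of (fun i j => u.val (fun _ => i) fun _ => j) *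
      Matrix.of (fun i j => v.val (fun _ => i) fun _ => j) = (1 : Matrix (Fin m) (Fin m) F) := by
    intro u v huv
    ext i j
    rw [Matrix.mul_apply]
    simp only [Matrix.of_apply]
    rw [← hmul, huv, Units.val_one, Matrix.one_apply, Matrix.one_apply]
    exact if_congr ⟨fun h => congrFun h 0, fun h => by rw [h]⟩ rfl rfl
  let a : GL (Fin m) F := ⟨A, B, h1 _ _ (mul_inv_cancel g), h1 _ _ (inv_mul_cancel g)⟩
  have e : g = pureGL fun _ => a := Units.ext (by
    rw [pureGL_coe]
    ext x y
    rw [pureTensor_apply, Fin.prod_univ_one]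
    show g.val x y = g.val (fun _ => x 0) fun _ => y 0
    have hx : (fun _ : Fin 1 => x 0) = x := funext fun l => congrArg x (Subsingleton.elim (α := Fin 1) _ _)
    have hy : (fun _ : Fin 1 => y 0) = y := funext fun l => congrArg y (Subsingleton.elim (α := Fin 1) _ _)
    rw [hx, hy])
  rw [e]
  exact pureGL_mem _

namespace Nine

theorem fin2_cases : ∀ {i j : Fin 2}, i ≠ j → ∀ l, l = i ∨ l = j := by decide

variable [Fintype F] [CharP F 2]

theorem root_rank (i : Fin 2) (c : GL (Fin 3) F) : ((sgl i (c * x F * c⁻¹)).val - 1).rank ≤ 3 := by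
  have e : (sgl i (c * x F * c⁻¹)) = sgl i c * sgl i (x F) * (sgl i c)⁻¹ := by rw [map_mul, map_mul, map_inv]
  rw [e, rank_conj_sub, x, elU, sgl_trv_sub]
  exact (rank_S_le i _ _).trans (by norm_num)

theorem y_rank : 4 ≤ ((y F).val - 1).rank := by
  obtain ⟨-, -, -, f4, f5, -⟩ := facts
  have e : ((y F).val - 1) * R₀.map (toF F) = P₀.map (toF F) := by rw [← N₀_map, ← Matrix.map_mul, f5]
  have e4 : Q₀.map (toF F) * P₀.map (toF F) = (1 : Matrix (Fin 4) (Fin 4) F) := by
    rw [← Matrix.map_mul, f4, Matrix.map_one _ (map_zero _) (map_one _)]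
  have h := le_rank ((y F).val - 1) (R₀.map (toF F)).mulVecLin fun c hc => by
    rw [Matrix.mulVecLin_apply, Matrix.mulVec_mulVec, e] at hc
    rw [← Matrix.one_mulVec c, ← e4, ← Matrix.mulVec_mulVec, hc, Matrix.mulVec_zero]
  simpa using h

/-- tame groups of two slots -/
theorem mem_of_good (hq : Fintype.card F = 2) {G : Subgroup (GL (Fin 2 → Fin 3) F)} (hB : Base G) (hgood : Good G)
    {g : GL (Fin 2 → Fin 3) F} (hg : g ∈ G) : g ∈ Wr F 3 2 := by
  classical
  haveI : Finite (GL (Fin 2 → Fin 3) F) := inferInstance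
  set x0 := sgl (0 : Fin 2) (x F) with hx0
  have hyy : y F * y F = 1 := by
    rw [y, mul_assoc, ← mul_assoc (sgl 1 _) (sgl 0 _), ← slot_comm, mul_assoc, sgl_inv2, mul_one, sgl_inv2]
  set t' := g * y F * g⁻¹ with ht'
  have htt : t' * t' = 1 := by
    rw [ht', show g * y F * g⁻¹ * (g * y F * g⁻¹) = g * (y F * y F) * g⁻¹ by group, hyy, mul_one, mul_inv_cancel]
  have hyG : y F ∈ G := mul_mem (hB 0 _ (det_one hq _)) (hB 1 _ (det_one hq _))
  have htG : t' ∈ G := mul_mem (mul_mem hg hyG) (inv_mem hg)
  have hx0G : x0 ∈ G := hB 0 _ (det_one hq _)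
  -- centralisers of involutions of the pure part
  have hcent : ∀ (a : Fin 2 → GL (Fin 3) F), a * a = 1 → a ≠ 1 → ∀ c ∈ G, c * pureGL a = pureGL a * c →
      c ∈ Wr F 3 2 := by
    intro a ha hne c hc hca
    have hai : ∀ i, a i * a i = 1 := fun i => congrFun ha i
    by_cases h0 : a 0 = 1
    · have h1 : a 1 ≠ 1 := fun h => hne (funext fun i => by fin_cases i <;> assumption)
      have e : pureGL a = sgl 1 (a 1) := by
        rw [sgl_eq]; congr 1; funext i; fin_cases i <;> simp [h0]
      refine hgood c hc 1 (a 1) (hai 1) h1 ?_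
      rw [← e, hca, mul_inv_cancel_right]
      exact pureGL_mem _
    by_cases h1 : a 1 = 1
    · have e : pureGL a = sgl 0 (a 0) := by
        rw [sgl_eq]; congr 1; funext i; fin_cases i <;> simp [h1]
      refine hgood c hc 0 (a 0) (hai 0) h0 ?_
      rw [← e, hca, mul_inv_cancel_right]
      exact pureGL_mem _
    obtain ⟨c₀, hc₀⟩ := involution (hai 0) h0
    obtain ⟨c₁, hc₁⟩ := involution (hai 1) h1
    set h := pureGL ![c₀, c₁] with hh
    have e : pureGL a = h * y F * h⁻¹ := by
      rw [y, hh, pureGL_inv, two_pure, pureGL_mul, pureGL_mul]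
      congr 1
      funext i
      fin_cases i
      · simpa using hc₀
      · simpa using hc₁
    have hmem : h⁻¹ * c * h ∈ Wr F 3 2 := by
      refine centraliser_mem hq hB hgood (mul_mem (mul_mem (inv_mem (pure_mem hq hB _)) hc) (pure_mem hq hB _)) ?_
      rw [e] at hca
      calc h⁻¹ * c * h * y F = h⁻¹ * (c * (h * y F * h⁻¹)) * h := by group
        _ = h⁻¹ * (h * y F * h⁻¹ * c) * h := by rw [hca]
        _ = _ := by group
    have e' : c = h * (h⁻¹ * c * h) * h⁻¹ := by group
    rw [e']
    exact mul_mem (mul_mem (pureGL_mem _) hmem) (inv_mem (pureGL_mem _))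
  -- the conjugate is a wreath element
  have htW : t' ∈ Wr F 3 2 := by
    set d := x0 * t' with hd
    have hsd : x0 * d * x0⁻¹ = d⁻¹ := by
      rw [hd, _root_.mul_inv_rev, inv_eq_of_mul_eq_one_right htt, inv_eq_of_mul_eq_one_right (sgl_inv2 0),
        ← mul_assoc x0 x0 t', sgl_inv2, one_mul]
    have hconj : ∀ k : ℕ, x0 * d ^ k * x0⁻¹ = (d ^ k)⁻¹ := fun k => by rw [← conj_pow, hsd, inv_pow]
    rcases Nat.even_or_odd' (orderOf d) with ⟨k, hk | hk⟩
    · have hpos : 0 < orderOf d := orderOf_pos d
      set w := d ^ k with hwd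
      have hw2 : w * w = 1 := by rw [hwd, ← pow_add, ← two_mul, ← hk, pow_orderOf_eq_one]
      have hw1 : w ≠ 1 := fun h => by
        have := Nat.le_of_dvd (by omega) (orderOf_dvd_of_pow_eq_one h)
        omega
      have hwx : w * x0 = x0 * w := by
        have := hconj k
        rw [← hwd, inv_eq_of_mul_eq_one_right hw2, mul_inv_eq_iff_eq_mul] at this
        exact this.symm
      have hwt : w * t' = t' * w := by
        have h1 : Commute w d := Commute.pow_self d k
        have e : t' = x0⁻¹ * d := by rw [hd, inv_mul_cancel_left]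
        rw [e]
        exact ((Commute.inv_right (show Commute w x0 from hwx)).mul_right h1)
      have hwG : w ∈ G := pow_mem (mul_mem hx0G htG) k
      have hwW : w ∈ Wr F 3 2 := hgood w hwG 0 (x F) x_sq x_ne (by rw [hwx, mul_inv_cancel_right]; exact sgl_mem _ _)
      obtain ⟨σ, a, hwa⟩ := exists_nf hwW
      have hσ : σ = 1 := by
        have h1 : σ 0 = 0 := by
          by_contra hne
          have e : sgl (σ 0) (a 0 * x F * (a 0)⁻¹) = x0 := by rw [← conj_nf_sgl, ← hwa, hwx, mul_inv_cancel_right]
          rw [hx0, sgl_eq, sgl_eq] at e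
          have e' := congrFun (pure_inj hq e) 0
          rw [Pi.mulSingle_eq_same, Pi.mulSingle_eq_of_ne (Ne.symm hne)] at e'
          exact x_ne e'.symm
        refine Equiv.ext fun i => ?_
        fin_cases i
        · exact h1
        · show σ 1 = 1
          rcases (by decide : ∀ u : Fin 2, u = 0 ∨ u = 1) (σ 1) with h | h
          · exact absurd (σ.injective (h.trans h1.symm)) (by decide)
          · exact h
      rw [hσ, permGL_one, one_mul] at hwa
      refine hcent a (pure_inj hq (by rw [← pureGL_mul, ← hwa, hw2, pureGL_one])) (fun h => hw1 (by rw [hwa, h, pureGL_one]))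
        t' htG (by rw [← hwa]; exact hwt.symm)
    · exfalso
      have h1 : d ^ k * x0 * (d ^ k)⁻¹ = t' := by
        have e : d ^ k * x0 = x0 * (d ^ k)⁻¹ := by
          have h2 := hconj k
          rw [mul_inv_eq_iff_eq_mul] at h2
          have h3 : x0⁻¹ = x0 := inv_eq_of_mul_eq_one_right (sgl_inv2 0)
          calc d ^ k * x0 = x0⁻¹ * (x0 * d ^ k) * x0 := by group
            _ = x0⁻¹ * ((d ^ k)⁻¹ * x0) * x0 := by rw [h2]
            _ = x0⁻¹ * (d ^ k)⁻¹ * (x0 * x0) := by group
            _ = x0 * (d ^ k)⁻¹ := by rw [sgl_inv2, mul_one, h3]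
        rw [e, mul_assoc, ← _root_.mul_inv_rev, ← pow_add]
        have h4 : d ^ (k + k) = d⁻¹ := by
          refine eq_inv_of_mul_eq_one_left ?_
          rw [← pow_succ, show k + k + 1 = orderOf d by omega, pow_orderOf_eq_one]
        rw [h4, inv_inv, hd, ← mul_assoc, sgl_inv2, one_mul]
      have h2 : (t'.val - 1).rank ≤ 3 := by
        rw [← h1, rank_conj_sub, hx0]
        have := root_rank (F := F) (0 : Fin 2) 1
        simpa using this
      rw [ht', rank_conj_sub] at h2
      have := y_rank (F := F)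
      omega
  obtain ⟨σ, a, hta⟩ := exists_nf htW
  have hrank : 4 ≤ (t'.val - 1).rank := by rw [ht', rank_conj_sub]; exact y_rank
  by_cases hσ : σ = 1
  · subst hσ
    rw [permGL_one, one_mul] at hta
    have ha : a * a = 1 := pure_inj hq (by rw [← pureGL_mul, ← hta, htt, pureGL_one])
    have hai : ∀ i, a i * a i = 1 := fun i => congrFun ha i
    have hsingle : ∀ i j : Fin 2, i ≠ j → a j ≠ 1 := by
      intro i j hij hj
      by_cases hi : a i = 1
      · have : a = 1 := funext fun l => by
          rcases fin2_cases hij l with rfl | rfl <;> assumption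
        rw [this, pureGL_one] at hta
        rw [hta, Units.val_one, sub_self, Matrix.rank_zero] at hrank
        omega
      · obtain ⟨c, hc⟩ := involution (hai i) hi
        have e : pureGL a = sgl i (c * x F * c⁻¹) := by
          rw [sgl_eq, ← hc]
          congr 1
          funext l
          rcases fin2_cases hij l with rfl | rfl
          · simp
          · rw [hj, Pi.mulSingle_eq_of_ne hij.symm]
        rw [hta, e] at hrank
        have := root_rank i c
        omega
    obtain ⟨c₀, hc₀⟩ := involution (hai 0) (hsingle 1 0 (by decide))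
    obtain ⟨c₁, hc₁⟩ := involution (hai 1) (hsingle 0 1 (by decide))
    set h := pureGL ![c₀, c₁] with hh
    have e : t' = h * y F * h⁻¹ := by
      rw [hta, y, hh, pureGL_inv, two_pure, pureGL_mul, pureGL_mul]
      congr 1
      funext i
      fin_cases i
      · simpa using hc₀
      · simpa using hc₁
    have hc : h⁻¹ * g ∈ Wr F 3 2 := by
      refine centraliser_mem hq hB hgood (mul_mem (inv_mem (pure_mem hq hB _)) hg) ?_
      calc h⁻¹ * g * y F = h⁻¹ * t' * g := by rw [ht']; group
        _ = _ := by rw [e]; group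
    have e' : g = h * (h⁻¹ * g) := by group
    rw [e']
    exact mul_mem (pureGL_mem _) hc
  · exfalso
    have hswap : σ = Equiv.swap 0 1 := by
      have : ∀ σ : Equiv.Perm (Fin 2), σ ≠ 1 → σ = Equiv.swap 0 1 := by decide
      exact this σ hσ
    subst hswap
    let d : Fin 2 → GL (Fin 3) F := ![1, (a 0)⁻¹]
    set a' := (d ∘ Equiv.swap 0 1) * a * d⁻¹ with ha'
    have e : pureGL d * t' * (pureGL d)⁻¹ = permGL (Equiv.swap 0 1) * pureGL a' := by rw [hta, conj_pure_nf]
    have h0 : a' 0 = 1 := by simp [a', d]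
    have hsq : permGL (Equiv.swap 0 1) * pureGL a' * (permGL (Equiv.swap 0 1) * pureGL a') = 1 := by
      rw [← e, show pureGL d * t' * (pureGL d)⁻¹ * (pureGL d * t' * (pureGL d)⁻¹) = pureGL d * (t' * t') * (pureGL d)⁻¹ by
        group, htt, mul_one, mul_inv_cancel]
    rw [mul_nf, Equiv.swap_mul_self, permGL_one, one_mul, ← pureGL_one (F := F) (m := 3) (t := 2)] at hsq
    have h1 := congrFun (pure_inj hq hsq) 0
    have ha1 : a' 1 = 1 := by simpa [h0] using h1
    have hone : a' = 1 := funext fun i => by fin_cases i <;> assumption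
    rw [hone, pureGL_one, mul_one] at e
    have hr : ((permGL (Equiv.swap (0 : Fin 2) 1) : GL (Fin 2 → Fin 3) F).val - 1).rank ≤ 3 := by
      obtain ⟨U, hU⟩ := swap_rank
      have e2 : ((permGL (Equiv.swap (0 : Fin 2) 1) : GL (Fin 2 → Fin 3) F).val - 1) = U.map (toF F) * Uᵀ.map (toF F) := by
        rw [← Matrix.map_mul, ← hU]
        ext p q
        simp only [Matrix.sub_apply, Matrix.map_apply, Matrix.of_apply, permGL_apply, Matrix.one_apply, map_sub,
          apply_ite (toF F), map_one, map_zero]
      rw [e2]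
      exact ((Matrix.rank_mul_le_left _ _).trans (Matrix.rank_le_card_width _)).trans (by simp)
    rw [← e, rank_conj_sub] at hr
    omega

end Nine

variable [Fintype F]

/-- two slots of dimension three over the field of two elements -/
theorem level_nine [CharP F 2] (hq : Fintype.card F = 2) (o : Fin 3) : Level (F := F) o 1 := by
  intro G hB hT g hg
  refine Nine.mem_of_good hq hB (fun c hc i a ha ha1 hconj => ?_) hg
  obtain ⟨k, hk⟩ := Nine.involution ha ha1
  have hdot : (Pi.single (2 : Fin 3) (1 : F) ᵥ* (k⁻¹).val) ⬝ᵥ (k.val *ᵥ Pi.single 0 1) = 0 := by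
    rw [← dotProduct_mulVec, Matrix.mulVec_mulVec, ← Units.val_mul, inv_mul_cancel, Units.val_one, Matrix.one_mulVec]
    simp
  have hback : (Pi.single (2 : Fin 3) (1 : F) ᵥ* (k⁻¹).val) ᵥ* k.val = Pi.single 2 1 := by
    rw [Matrix.vecMul_vecMul, ← Units.val_mul, inv_mul_cancel, Units.val_one, Matrix.vecMul_one]
  obtain ⟨h1, hconj'⟩ := Forms.Max.trv_conj k hdot
  have ea : a = trv (k.val *ᵥ Pi.single 0 1) (Pi.single (2 : Fin 3) (1 : F) ᵥ* (k⁻¹).val) hdot := by
    rw [hk, ← hconj']
    congr 2
    refine Units.ext ?_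
    rw [Nine.x, elU, trv_coe, trv_coe, hback]
  have h := good 2 (le_refl 3) (level_zero o) hB hT (inv_mem hc) i _ _ hdot
    (fun h0 => ha1 (by rw [ea]; exact Units.ext (by rw [trv_coe, h0, zero_vecMulVec, add_zero, Units.val_one])))
    (fun h0 => ha1 (by rw [ea]; exact Units.ext (by rw [trv_coe, h0, vecMulVec_zero, add_zero, Units.val_one])))
    (by rw [inv_inv, ← ea]; exact hconj)
  exact inv_mem_iff.1 h

end Cfsg.Agent.TensorWreath
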