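import Cfsg.Agent.Lib.Forms.Max.TensorWreath.Lie
import Cfsg.Agent.Aschbacher.Lists.Proper

/-!
# Unipotent wreath elements of small displacement
-/

set_option autoImplicit false
set_option linter.unusedSectionVars false

namespace Cfsg.Agent.TensorWreath

open Matrix Cfsg.Agent.Aschbacher

variable {F : Type*} [Field F] {m t : ℕ}

section Rank

variable {ι : Type*} [Fintype ι] [DecidableEq ι]

theorem le_rank {ν : Type*} [Fintype ν] (n : Matrix ι ι F) (f : (ν → F) →ₗ[F] (ι → F))
    (h : ∀ c, n *ᵥ f c = 0 → c = 0) : Fintype.card ν ≤ n.rank := by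
  have hinj : Function.Injective (n.mulVecLin.comp f) := (injective_iff_map_eq_zero _).2 fun c hc => h c hc
  rw [← Module.finrank_fintype_fun_eq_card (R := F) (η := ν), ← LinearMap.finrank_range_of_inj hinj]
  exact Submodule.finrank_mono (LinearMap.range_comp_le_range _ _)

theorem rank_conjMat {κ : Type} [Fintype κ] [DecidableEq κ] (g : GL κ F) (n : Matrix κ κ F) :
    (conjMat g n).rank = n.rank := by
  rw [conjMat_apply, rank_mul_eq_left_of_isUnit_det _ _ ((Matrix.isUnit_iff_isUnit_det _).1 (g⁻¹).isUnit),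
    rank_mul_eq_right_of_isUnit_det _ _ ((Matrix.isUnit_iff_isUnit_det _).1 g.isUnit)]

theorem conj_val_sub {κ : Type} [Fintype κ] [DecidableEq κ] (d g : GL κ F) :
    ((d * g * d⁻¹ : GL κ F) : Matrix κ κ F) - 1 = conjMat d ((g : Matrix κ κ F) - 1) := by
  rw [map_sub, map_one, conjMat_units]

theorem rank_conj_sub {κ : Type} [Fintype κ] [DecidableEq κ] (d g : GL κ F) :
    (((d * g * d⁻¹ : GL κ F) : Matrix κ κ F) - 1).rank = ((g : Matrix κ κ F) - 1).rank := by
  rw [conj_val_sub, rank_conjMat]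

/-- a vector is determined by the descent `P < Q` -/
theorem eq_zero_of_descent {O : Type*} [LinearOrder O] {g : Matrix ι ι F} (P Q : ι → O)
    (hg : ∀ x y, g x y ≠ 0 → Q x = P y) {v : ι → F} (hv : ∀ x, ¬ P x < Q x → v x = 0)
    (hfix : ∀ x, P x < Q x → (g *ᵥ v) x = v x) : v = 0 := by
  classical
  by_contra h
  obtain ⟨x, hx⟩ := Function.ne_iff.1 h
  obtain ⟨x₀, hx₀, hmax⟩ := (Finset.univ.filter fun x => v x ≠ 0).exists_max_image Q
    ⟨x, by simpa using hx⟩
  rw [Finset.mem_filter] at hx₀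
  have hlt : P x₀ < Q x₀ := by
    by_contra hn
    exact hx₀.2 (hv _ hn)
  have h1 : (g *ᵥ v) x₀ ≠ 0 := by rw [hfix _ hlt]; exact hx₀.2
  obtain ⟨y, -, hy⟩ := Finset.exists_ne_zero_of_sum_ne_zero h1
  have hy1 : v y ≠ 0 := fun e => hy (by simp only [e, mul_zero])
  have hy2 : P y < Q y := by
    by_contra hn
    exact hy1 (hv _ hn)
  have hy3 := hmax y (by simpa using hy1)
  rw [← hg x₀ y fun e => hy (by simp only [e, zero_mul])] at hy2
  exact absurd hy3 (not_le.2 hy2)

/-- extension by zero -/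
noncomputable def ext0 (p : ι → Prop) [DecidablePred p] : ({x // p x} → F) →ₗ[F] (ι → F) where
  toFun c x := if h : p x then c ⟨x, h⟩ else 0
  map_add' a b := by ext x; by_cases h : p x <;> simp [h]
  map_smul' r a := by ext x; by_cases h : p x <;> simp [h]

theorem card_lt_le_rank {O : Type*} [LinearOrder O] {g : Matrix ι ι F} (P Q : ι → O)
    (hg : ∀ x y, g x y ≠ 0 → Q x = P y) :
    Nat.card {x // P x < Q x} ≤ (g - 1).rank := by
  classical
  rw [Nat.card_eq_fintype_card]
  refine le_rank _ (ext0 fun x => P x < Q x) fun c hc => ?_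
  have hz := eq_zero_of_descent P Q hg (v := ext0 (fun x => P x < Q x) c) (fun x hx => dif_neg hx) fun x _ => by
    have := congrFun hc x
    rw [Matrix.sub_mulVec, Matrix.one_mulVec, Pi.sub_apply, Pi.zero_apply, sub_eq_zero] at this
    exact this
  funext x
  have := congrFun hz x.1
  simpa [ext0, x.2] using this

end Rank

/-! ### counting -/

theorem card_restrict {r : ℕ} (e : Fin r → Fin t) (he : Function.Injective e) (p : (Fin r → Fin m) → Prop)
    :
    Nat.card {x : Fin t → Fin m // p (x ∘ e)} = Nat.card {y // p y} * m ^ (t - r) := by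
  classical
  let A := {i : Fin t // i ∈ Set.range e}
  let B := {i : Fin t // i ∉ Set.range e}
  let er : Fin r ≃ A := Equiv.ofInjective e he
  let eq : (Fin t → Fin m) ≃ (Fin r → Fin m) × (B → Fin m) :=
    (Equiv.piEquivPiSubtypeProd (fun i => i ∈ Set.range e) fun _ => Fin m).trans
      (Equiv.prodCongr (Equiv.arrowCongr er.symm (Equiv.refl _)) (Equiv.refl _))
  have hB : Fintype.card B = t - r := by
    have := Fintype.card_congr er
    rw [Fintype.card_fin] at this
    rw [show Fintype.card B = Fintype.card (Fin t) - Fintype.card A from Fintype.card_subtype_compl _,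
      Fintype.card_fin, ← this]
  have e1 : {x : Fin t → Fin m // p (x ∘ e)} ≃ {z : (Fin r → Fin m) × (B → Fin m) // p z.1} :=
    eq.subtypeEquiv fun x => Iff.rfl
  refine (Nat.card_congr (e1.trans (Equiv.prodSubtypeFstEquivSubtypeProd (β := B → Fin m) (p := p)))).trans ?_
  rw [Nat.card_prod, Nat.card_fun, Nat.card_fin, Nat.card_eq_fintype_card (α := B), hB]

theorem card_pairs_lt (hm : 4 ≤ m) : m < Nat.card {y : Fin 2 → Fin m // y 0 < y 1} := by
  rw [Nat.card_eq_fintype_card]
  let f : Fin m ⊕ Unit → {y : Fin 2 → Fin m // y 0 < y 1} := Sum.elim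
    (fun a => if h : (a : ℕ) + 1 < m then ⟨![a, ⟨a + 1, h⟩], by simp [Fin.lt_def]⟩
      else ⟨![⟨0, by omega⟩, ⟨2, by omega⟩], by simp [Fin.lt_def]⟩)
    fun _ => ⟨![⟨0, by omega⟩, ⟨3, by omega⟩], by simp [Fin.lt_def]⟩
  have hinj : Function.Injective f := by
    rintro (a | a) (b | b) h
    · have h' := congrArg (fun y : {y : Fin 2 → Fin m // y 0 < y 1} => ((y.1 0 : ℕ), (y.1 1 : ℕ))) h
      simp only [f, Sum.elim_inl] at h'
      split_ifs at h' <;> simp [Fin.ext_iff] at h' ⊢ <;> omega
    · have h' := congrArg (fun y : {y : Fin 2 → Fin m // y 0 < y 1} => ((y.1 0 : ℕ), (y.1 1 : ℕ))) h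
      simp only [f, Sum.elim_inl, Sum.elim_inr] at h'
      split_ifs at h' <;> simp [Fin.ext_iff] at h' <;> omega
    · have h' := congrArg (fun y : {y : Fin 2 → Fin m // y 0 < y 1} => ((y.1 0 : ℕ), (y.1 1 : ℕ))) h
      simp only [f, Sum.elim_inl, Sum.elim_inr] at h'
      split_ifs at h' <;> simp [Fin.ext_iff] at h' <;> omega
    · rfl
  have := Fintype.card_le_of_injective f hinj
  simpa using this

/-! ### slot scalars -/

theorem mulVec_perm_pure {σ : Equiv.Perm (Fin t)} {a : Fin t → GL (Fin m) F} (x y : Fin t → Fin m) :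
    (permGL σ * pureGL a).val x y = ∏ i, (a i).val (x (σ i)) (y i) := by
  rw [Units.val_mul, perm_mul_apply, pureGL_coe, pureTensor_apply]
  rfl

theorem perm_eq_one (hm : 2 ≤ m) {σ : Equiv.Perm (Fin t)} {a : Fin t → GL (Fin m) F}
    (h : permGL σ * pureGL a = 1) : σ = 1 := by
  refine Equiv.ext fun i => ?_
  by_contra hne
  set u : Fin m := ⟨0, by omega⟩
  set v : Fin m := ⟨1, by omega⟩
  haveI : Nonempty (Fin t → Fin m) := ⟨fun _ => u⟩
  have key : ∀ z, S i z = S (σ i) (conjMat (a i) z) := fun z => by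
    rw [← conj_nf_S, h]; simp [conjMat_apply]
  have h1 := S_comm (F := F) (Ne.symm hne) (Matrix.single v u (1 : F)) (conjMat (a i) (Matrix.single u v 1))
  rw [← key] at h1
  simp only [Equiv.Perm.coe_one, id_eq] at h1
  rw [← map_mul, ← map_mul] at h1
  have h2 := congrFun (congrFun (algHom_matrix_injective (S (F := F) (m := m) i) h1) u) u
  simp [u, v] at h2

theorem pure_scalar (hm : 0 < m) {a : Fin t → GL (Fin m) F} (h : pureGL a = 1) (i : Fin t) :
    ∃ c : F, c ≠ 0 ∧ (a i).val = algebraMap F _ c := by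
  haveI : Nonempty (Fin t → Fin m) := ⟨fun _ => ⟨0, hm⟩⟩
  haveI : Nonempty (Fin m) := ⟨⟨0, hm⟩⟩
  have key : ∀ z, conjMat (a i) z = z := fun z =>
    algHom_matrix_injective (S (F := F) (m := m) i) (by rw [← conj_pure_S, h]; simp [conjMat_apply])
  obtain ⟨c, hc⟩ := mem_scalar_of_commute (k := (a i).val) fun u v _ => ((conjMat_eq_self_iff _ _).1 (key _)).symm
  refine ⟨c, ?_, by rw [hc, Algebra.algebraMap_eq_smul_one]⟩
  rintro rfl
  exact (a i).ne_zero (by rw [hc, zero_smul])

/-- the conjugate by a diagonal change of bases -/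
theorem conj_pure_nf (σ : Equiv.Perm (Fin t)) (a d : Fin t → GL (Fin m) F) :
    pureGL d * (permGL σ * pureGL a) * (pureGL d)⁻¹ = permGL σ * pureGL ((d ∘ σ) * a * d⁻¹) := by
  have e := perm_pureGL σ (d ∘ σ)
  rw [Function.comp_assoc, Equiv.self_comp_symm, Function.comp_id] at e
  rw [← mul_assoc, ← e, pureGL_inv, mul_assoc, mul_assoc, pureGL_mul, pureGL_mul, mul_assoc]

theorem entry_link {σ : Equiv.Perm (Fin t)} {a : Fin t → GL (Fin m) F} {i : Fin t} (hi : a i = 1)
    {x y : Fin t → Fin m} (h : (permGL σ * pureGL a).val x y ≠ 0) : x (σ i) = y i := by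
  rw [mulVec_perm_pure] at h
  by_contra hne
  exact h (Finset.prod_eq_zero (Finset.mem_univ i) (by rw [hi, Units.val_one, Matrix.one_apply_ne hne]))

/-- linearly ordered codes of pairs and triples -/
def code2 (a b : Fin m) : ℕ := m * a + b

theorem moved_bound (hm : 3 ≤ m) {σ : Equiv.Perm (Fin t)} {a : Fin t → GL (Fin m) F}
    (hr : ((permGL σ * pureGL a).val - 1).rank ≤ m ^ (t - 1)) {i : Fin t} (hi : σ i ≠ i) :
    m = 3 ∧ σ = Equiv.swap i (σ i) := by
  classical
  have ht2 : 2 ≤ t := by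
    by_contra h
    exact hi (Fin.ext (by omega))
  have hr' : ∀ d : Fin t → GL (Fin m) F,
      ((permGL σ * pureGL ((d ∘ σ) * a * d⁻¹)).val - 1).rank ≤ m ^ (t - 1) := fun d => by
    rw [← conj_pure_nf, rank_conj_sub]; exact hr
  -- one transition
  let d1 : Fin t → GL (Fin m) F := Function.update 1 (σ i) (a i)⁻¹
  have hd1 : ((d1 ∘ σ) * a * d1⁻¹) i = 1 := by simp [d1, hi.symm]
  have hinj2 : Function.Injective ![i, σ i] := fun u v h => by
    fin_cases u <;> fin_cases v <;> first | rfl | (simp at h; first | exact absurd h hi.symm | exact absurd h hi)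
  by_cases hm4 : 4 ≤ m
  · exfalso
    have h1 := card_lt_le_rank (g := (permGL σ * pureGL ((d1 ∘ σ) * a * d1⁻¹)).val)
      (fun x => x i) (fun x => x (σ i)) fun x y h => entry_link hd1 h
    have h2 := card_restrict (m := m) ![i, σ i] hinj2 (fun y => y 0 < y 1)
    simp only [Function.comp_apply, Matrix.cons_val_zero, Matrix.cons_val_one] at h2
    rw [h2] at h1
    have h3 := lt_of_lt_of_le (Nat.mul_lt_mul_of_pos_right (card_pairs_lt hm4) (pow_pos (by omega : 0 < m) (t - 2)))
      (h1.trans (hr' d1))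
    rw [← pow_succ', show t - 2 + 1 = t - 1 by omega] at h3
    exact lt_irrefl _ h3
  obtain rfl : m = 3 := by omega
  refine ⟨rfl, ?_⟩
  -- the image returns
  have hret : σ (σ i) = i := by
    by_contra hne
    have hki : σ (σ i) ≠ σ i := fun e => hi (σ.injective e)
    let d : Fin t → GL (Fin 3) F := fun l =>
      if l = σ i then (a i)⁻¹ else if l = σ (σ i) then (a i)⁻¹ * (a (σ i))⁻¹ else 1
    have hd_i : ((d ∘ σ) * a * d⁻¹) i = 1 := by simp [d, hi.symm, Ne.symm hne]
    have hd_k : ((d ∘ σ) * a * d⁻¹) (σ i) = 1 := by simp [d, hki]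
    have hinj3 : Function.Injective ![i, σ i, σ (σ i)] := fun u v h => by
      fin_cases u <;> fin_cases v <;> first | rfl | (simp at h; first
        | exact absurd h hi.symm | exact absurd h hi | exact absurd h hne | exact absurd h.symm hne
        | exact absurd h hki | exact absurd h.symm hki)
    have h1 := card_lt_le_rank (g := (permGL σ * pureGL ((d ∘ σ) * a * d⁻¹)).val)
      (fun x => code2 (x i) (x (σ i))) (fun x => code2 (x (σ i)) (x (σ (σ i))))
      fun x y h => by simp only [code2]; rw [entry_link hd_i h, entry_link hd_k h]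
    have h2 := card_restrict (m := 3) ![i, σ i, σ (σ i)] hinj3 (fun y => code2 (y 0) (y 1) < code2 (y 1) (y 2))
    simp only [Function.comp_apply, Matrix.cons_val_zero, Matrix.cons_val_one, Matrix.cons_val] at h2
    rw [h2, show Nat.card {y : Fin 3 → Fin 3 // code2 (y 0) (y 1) < code2 (y 1) (y 2)} = 12 by rw [Nat.card_eq_fintype_card]; decide] at h1
    have h3 : 12 * 3 ^ (t - 3) ≤ 3 ^ (t - 1) := h1.trans (hr' d)
    have ht3 : 3 ≤ t := by simpa using Fintype.card_le_of_injective _ hinj3
    rw [show t - 1 = t - 3 + 2 by omega, pow_add] at h3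
    have := pow_pos (show 0 < 3 by omega) (t - 3)
    omega
  refine Equiv.ext fun r => ?_
  rcases eq_or_ne r i with rfl | hri
  · simp
  rcases eq_or_ne r (σ i) with rfl | hrk
  · simp [hret]
  rw [Equiv.swap_apply_of_ne_of_ne hri hrk]
  by_contra hr0
  have hsi : σ r ≠ i := fun e => hrk (σ.injective (e.trans hret.symm))
  have hsk : σ r ≠ σ i := fun e => hri (σ.injective e)
  let d : Fin t → GL (Fin 3) F := fun l =>
    if l = σ i then (a i)⁻¹ else if l = σ r then (a r)⁻¹ else 1
  have hd_i : ((d ∘ σ) * a * d⁻¹) i = 1 := by simp [d, hi.symm, Ne.symm hsi]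
  have hd_r : ((d ∘ σ) * a * d⁻¹) r = 1 := by simp [d, hsk, hrk, Ne.symm hr0]
  have hinj4 : Function.Injective ![i, σ i, r, σ r] := fun u v h => by
    fin_cases u <;> fin_cases v <;> first | rfl | (simp at h; first
      | exact absurd h hi.symm | exact absurd h hi | exact absurd h hsi | exact absurd h.symm hsi
      | exact absurd h hsk | exact absurd h.symm hsk | exact absurd h hri | exact absurd h.symm hri
      | exact absurd h hrk | exact absurd h.symm hrk | exact absurd h hr0 | exact absurd h.symm hr0)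
  have h1 := card_lt_le_rank (g := (permGL σ * pureGL ((d ∘ σ) * a * d⁻¹)).val)
    (fun x => code2 (x i) (x r)) (fun x => code2 (x (σ i)) (x (σ r)))
    fun x y h => by simp only [code2]; rw [entry_link hd_i h, entry_link hd_r h]
  have h2 := card_restrict (m := 3) ![i, σ i, r, σ r] hinj4 (fun y => code2 (y 0) (y 2) < code2 (y 1) (y 3))
  simp only [Function.comp_apply, Matrix.cons_val_zero, Matrix.cons_val_one, Matrix.cons_val] at h2
  rw [h2, show Nat.card {y : Fin 4 → Fin 3 // code2 (y 0) (y 2) < code2 (y 1) (y 3)} = 36 by rw [Nat.card_eq_fintype_card]; decide] at h1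
  have h3 : 36 * 3 ^ (t - 4) ≤ 3 ^ (t - 1) := h1.trans (hr' d)
  have ht4 : 4 ≤ t := by simpa using Fintype.card_le_of_injective _ hinj4
  rw [show t - 1 = t - 4 + 3 by omega, pow_add] at h3
  have := pow_pos (show 0 < 3 by omega) (t - 4)
  omega

end Cfsg.Agent.TensorWreath
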