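import Cfsg.Agent.Lib.Forms.Max.TensorWreath.Elements

/-!
# Elements preserving a slice of the tensor power
-/

set_option autoImplicit false
set_option linter.unusedSectionVars false

namespace Cfsg.Agent.TensorWreath

open Matrix Cfsg.Agent.Aschbacher

variable {F : Type*} [Field F] {m t : ℕ}

/-- blocks of a product around a single entry -/
theorem mul_single_mul {R ι : Type*} [Semiring R] [Fintype ι] [DecidableEq ι] (A B : Matrix ι ι R) (i j : ι) (x : R)
    (a c : ι) : (A * Matrix.single i j x * B) a c = A a i * x * B j c := by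
  rw [Matrix.mul_apply, Finset.sum_eq_single j]
  · rw [Matrix.mul_single_apply_same]
  · intro d _ hd
    rw [Matrix.mul_single_apply_of_ne _ _ _ _ _ hd, zero_mul]
  · simp

theorem blk_sgl_el (a b : Fin m) (h : a ≠ b) :
    blk (sgl (0 : Fin (t + 1)) (elU a b h (1 : F))).val = 1 + Matrix.single a b 1 := by
  rw [sgl_coe, elU_coe, map_add, map_one, map_add, map_one, blk_S_zero, Matrix.map_single, map_one]

theorem blk_conj_el (g : GL (Fin (t + 1) → Fin m) F) (a b : Fin m) (h : a ≠ b) (x y : Fin m) :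
    blk (g * sgl 0 (elU a b h (1 : F)) * g⁻¹).val x y =
      (1 : Matrix (Fin m) (Fin m) (Matrix (Fin t → Fin m) (Fin t → Fin m) F)) x y + blk g.val x a * blk (g⁻¹).val b y := by
  rw [Units.val_mul, Units.val_mul, map_mul, map_mul, blk_sgl_el, mul_add, add_mul, mul_one, ← map_mul, ← Units.val_mul,
    mul_inv_cancel, Units.val_one, map_one, Matrix.add_apply, mul_single_mul, mul_one]

/-- the setting: two tame overgroups and an element preserving the slice at `o` -/
structure Pair (o : Fin m) (G G' : Subgroup (GL (Fin (t + 1) → Fin m) F)) (g : GL (Fin (t + 1) → Fin m) F) : Prop where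
  base : Base G
  base' : Base G'
  tame : Tame o G
  tame' : Tame o G'
  maps : ∀ z ∈ G, g * z * g⁻¹ ∈ G'
  maps' : ∀ z ∈ G', g⁻¹ * z * g ∈ G
  slice : ∀ a, a ≠ o → blk g.val a o = 0

namespace Pair

variable {o : Fin m} {G G' : Subgroup (GL (Fin (t + 1) → Fin m) F)} {g : GL (Fin (t + 1) → Fin m) F}

theorem inv_row (h : Pair o G G' g) {b : Fin m} (hb : b ≠ o) :
    blk (g⁻¹).val b o = 0 ∧ blk (g⁻¹).val o o * blk g.val o o = 1 ∧ blk g.val o o * blk (g⁻¹).val o o = 1 := by
  have e : blk (g⁻¹).val * blk g.val = 1 := by rw [← map_mul, ← Units.val_mul, inv_mul_cancel, Units.val_one, map_one]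
  have col : ∀ a, blk (g⁻¹).val a o * blk g.val o o = (1 : Matrix (Fin m) (Fin m) _) a o := fun a => by
    rw [← e, Matrix.mul_apply, Finset.sum_eq_single_of_mem o (Finset.mem_univ o) fun d _ hd => ?_]
    rw [h.slice d hd, mul_zero]
  have h1 : blk (g⁻¹).val o o * blk g.val o o = 1 := by rw [col, Matrix.one_apply_eq]
  have h2 := mul_eq_one_comm.1 h1
  refine ⟨?_, h1, h2⟩
  have h3 := congrArg (· * blk (g⁻¹).val o o) (col b)
  rwa [mul_assoc, h2, mul_one, Matrix.one_apply_ne hb, zero_mul] at h3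

theorem symm (hm : 3 ≤ m) (h : Pair o G G' g) : Pair o G' G g⁻¹ := by
  refine ⟨h.base', h.base, h.tame', h.tame, fun z hz => ?_, fun z hz => ?_, fun a ha => (h.inv_row ha).1⟩
  · rw [inv_inv]; exact h.maps' z hz
  · rw [inv_inv]; exact h.maps z hz

theorem inv_block (h : Pair o G G' g) {b c : Fin m} (hb : b ≠ o) (hc : c ≠ o) :
    ∃ r : F, blk (g⁻¹).val b c = r • blk (g⁻¹).val o o := by
  obtain ⟨h0, h1, -⟩ := h.inv_row hb
  have hmem := h.maps _ (h.base 0 (elU o b hb.symm (1 : F)) (elU_det _ _ _ _))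
  have hrad : Rad o (g * sgl 0 (elU o b hb.symm (1 : F)) * g⁻¹).val := fun x y hxy => by
    rw [blk_conj_el]
    by_cases hx : x = o
    · have hy : y = o := by by_contra hy; exact hxy ⟨hx, hy⟩
      rw [hy, h0, mul_zero, add_zero]
    · rw [h.slice x hx, zero_mul, add_zero]
  obtain ⟨r, hr⟩ := h.tame'.self hmem hrad c
  refine ⟨r, ?_⟩
  rw [blk_conj_el, Matrix.one_apply_ne hc.symm, zero_add] at hr
  have h2 := congrArg (blk (g⁻¹).val o o * ·) hr
  rwa [← mul_assoc, h1, one_mul, mul_smul_comm, mul_one] at h2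

theorem block (hm : 3 ≤ m) (h : Pair o G G' g) (a : Fin m) (ha : a ≠ o) (e : Fin m) :
    ∃ r : F, blk g.val a e = r • blk g.val o o := by
  rcases eq_or_ne e o with rfl | he
  · exact ⟨0, by rw [zero_smul]; exact h.slice a ha⟩
  · simpa using (h.symm hm).inv_block ha he

/-- the block at `o` as an invertible matrix -/
def core (h : Pair o G G' g) (b : Fin m) (hb : b ≠ o) : GL (Fin t → Fin m) F :=
  ⟨blk g.val o o, blk (g⁻¹).val o o, (h.inv_row hb).2.2, (h.inv_row hb).2.1⟩

theorem coeff (hm : 3 ≤ m) (h : Pair o G G' g) : ∃ χ ψ : Fin m → Fin m → F,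
    (∀ a, a ≠ o → ∀ d, blk g.val a d = χ a d • blk g.val o o) ∧
    (∀ d, d ≠ o → ∀ e, blk (g⁻¹).val d e = ψ d e • blk (g⁻¹).val o o) ∧ (∀ d, χ d o = 0) ∧ (∀ d, ψ d o = 0) := by
  have key : ∀ (G G' : Subgroup (GL (Fin (t + 1) → Fin m) F)) (g : GL (Fin (t + 1) → Fin m) F), Pair o G G' g →
      ∀ a d, ∃ r : F, (a ≠ o → blk g.val a d = r • blk g.val o o) ∧ (d = o → r = 0) := by
    intro G G' g h a d
    by_cases hd : d = o
    · exact ⟨0, fun ha => by rw [zero_smul, hd]; exact h.slice a ha, fun _ => rfl⟩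
    by_cases ha : a = o
    · exact ⟨0, fun h' => absurd ha h', fun _ => rfl⟩
    obtain ⟨r, hr⟩ := h.block hm a ha d
    exact ⟨r, fun _ => hr, fun h' => absurd h' hd⟩
  choose χ hχ hχ0 using key G G' g h
  choose ψ hψ hψ0 using key G' G g⁻¹ (h.symm hm)
  exact ⟨χ, ψ, fun a ha d => hχ a d ha, fun a ha d => hψ a d ha, fun d => hχ0 d o rfl, fun d => hψ0 d o rfl⟩

theorem conj_lift (hm : 3 ≤ m) (h : Pair o G G' g) {b₀ : Fin m} (hb₀ : b₀ ≠ o) {v : GL (Fin t → Fin m) F}
    (hv : liftW v ∈ G) : liftW (h.core b₀ hb₀ * v * (h.core b₀ hb₀)⁻¹) ∈ G' := by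
  classical
  haveI : Nonempty (Fin t → Fin m) := ⟨fun _ => ⟨0, by omega⟩⟩
  obtain ⟨χ, ψ, hχ, hψ, hχ0, -⟩ := h.coeff hm
  set w := h.core b₀ hb₀ with hwdef
  have hw : w.val = blk g.val o o := rfl
  have hw' : (w⁻¹).val = blk (g⁻¹).val o o := rfl
  rw [← hw] at hχ
  rw [← hw'] at hψ
  set v' := w * v * w⁻¹ with hv'
  have hvv : v'.val * (v'⁻¹).val = 1 := by rw [← Units.val_mul, mul_inv_cancel, Units.val_one]
  have hww : w.val * (w⁻¹).val = 1 := by rw [← Units.val_mul, mul_inv_cancel, Units.val_one]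
  set z := g * liftW v * g⁻¹ with hz
  have hzmem : z ∈ G' := h.maps _ hv
  set Z := blk z.val with hZ
  have hZe : ∀ a e, Z a e = ∑ d, blk g.val a d * v.val * blk (g⁻¹).val d e := fun a e => by
    rw [hZ, hz, Units.val_mul, Units.val_mul, map_mul, map_mul, liftW_coe, blk_lift, Matrix.mul_apply]
    exact Finset.sum_congr rfl fun d _ => by rw [Matrix.mul_diagonal]
  have hrow : ∀ a, a ≠ o → ∀ e, Z a e =
      (if a = e then v'.val else 0) := by
    intro a ha e
    have hterm : ∀ (u : Matrix (Fin t → Fin m) (Fin t → Fin m) F) d,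
        blk g.val a d * u * blk (g⁻¹).val d e = (χ a d * ψ d e) • (w.val * u * (w⁻¹).val) := fun u d => by
      rcases eq_or_ne d o with rfl | hd
      · rw [h.slice a ha, hχ0, zero_mul, zero_mul, zero_mul, zero_smul]
      · rw [hχ a ha, hψ d hd, smul_mul_assoc, smul_mul_assoc, mul_smul_comm, smul_smul]
    have hs : (∑ d, χ a d * ψ d e) = if a = e then 1 else 0 := by
      have h1 : ∑ d, blk g.val a d * 1 * blk (g⁻¹).val d e =
          (1 : Matrix (Fin m) (Fin m) (Matrix (Fin t → Fin m) (Fin t → Fin m) F)) a e := by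
        simp only [mul_one]
        rw [← Matrix.mul_apply, ← map_mul, ← Units.val_mul, mul_inv_cancel, Units.val_one, map_one]
      rw [Finset.sum_congr rfl fun d _ => hterm 1 d, ← Finset.sum_smul, mul_one, hww, Matrix.one_apply] at h1
      have h2 := congrFun (congrFun h1 (fun _ => ⟨0, by omega⟩)) (fun _ => ⟨0, by omega⟩)
      rw [Matrix.smul_apply, Matrix.one_apply_eq, smul_eq_mul, mul_one] at h2
      rw [h2]
      split_ifs <;> simp
    rw [hZe, Finset.sum_congr rfl fun d _ => hterm _ d, ← Finset.sum_smul, hs, ite_smul, one_smul, zero_smul]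
    rfl
  have hZoo : Z o o = v'.val := by
    rw [hZe, Finset.sum_eq_single_of_mem o (Finset.mem_univ o) fun d _ hd => by rw [(h.inv_row hd).1, mul_zero]]
    rfl
  -- the radical part of `z`
  set Vi : Matrix (Fin m) (Fin m) (Matrix (Fin t → Fin m) (Fin t → Fin m) F) := Matrix.diagonal fun _ => (v'⁻¹).val
  set V : Matrix (Fin m) (Fin m) (Matrix (Fin t → Fin m) (Fin t → Fin m) F) := Matrix.diagonal fun _ => v'.val
  set X := Z * Vi - 1 with hX
  have hX0 : ∀ a, a ≠ o → ∀ e, X a e = 0 := fun a ha e => by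
    rw [hX, Matrix.sub_apply, Matrix.mul_diagonal, hrow a ha, sub_eq_zero, Matrix.one_apply]
    split_ifs
    · exact hvv
    · rw [zero_mul]
  have hXoo : X o o = 0 := by rw [hX, Matrix.sub_apply, Matrix.mul_diagonal, hZoo, hvv, Matrix.one_apply_eq, sub_self]
  have hZX : Z = (1 + X) * V := by
    rw [hX, add_sub_cancel, mul_assoc, Matrix.diagonal_mul_diagonal]
    rw [← Units.val_mul, inv_mul_cancel, Units.val_one, Matrix.diagonal_one, mul_one]
  have hXs : ∀ b, b ≠ o → ∃ r : F, X o b = r • 1 := by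
    intro b hb
    obtain ⟨c, hcb, hco⟩ := exists_third' hm b o
    set s := sgl (0 : Fin (t + 1)) (elU b c hcb.symm (1 : F)) with hs
    set E : Matrix (Fin m) (Fin m) (Matrix (Fin t → Fin m) (Fin t → Fin m) F) := Matrix.single b c 1 with hE
    have hEX : E * X = 0 := by
      ext1 x y
      rcases eq_or_ne x b with rfl | hx
      · rw [hE, Matrix.single_mul_apply_same, hX0 c hco, mul_zero, Matrix.zero_apply]
      · rw [hE, Matrix.single_mul_apply_of_ne _ _ _ _ _ hx, Matrix.zero_apply]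
    have hEE : E * E = 0 := Matrix.single_mul_single_of_ne _ _ _ _ hcb _
    have hEV : E * V = V * E := by
      ext1 x y
      rw [Matrix.mul_diagonal, Matrix.diagonal_mul, hE, Matrix.single_apply]
      split_ifs <;> simp
    have hsmem : s ∈ G' := h.base' 0 _ (elU_det _ _ _ _)
    have hy : s * z * s⁻¹ * z⁻¹ ∈ G' := mul_mem (mul_mem (mul_mem hsmem hzmem) (inv_mem hsmem)) (inv_mem hzmem)
    have hsi : blk (s⁻¹).val = 1 - E := by
      rw [hs, ← map_inv, sgl_coe, elU_inv_coe, map_sub, map_one, map_sub, map_one, blk_S_zero,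
        Matrix.map_single, map_one]
    have hblk : blk (s * z * s⁻¹ * z⁻¹).val = 1 - X * E := by
      have h1 : (1 - X * E) * Z = blk (s * z * s⁻¹).val := by
        rw [Units.val_mul, Units.val_mul, map_mul, map_mul, hsi, hs, blk_sgl_el, ← hE, ← hZ, hZX]
        have e1 : (1 + E) * ((1 + X) * V) * (1 - E) = (1 + E) * (1 + X) * (1 - E) * V := by
          rw [mul_assoc, mul_assoc, mul_assoc, mul_assoc, mul_sub V, mul_one, ← hEV, sub_mul, one_mul]
        rw [e1, ← mul_assoc]
        congr 1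
        simp only [mul_add, add_mul, mul_sub, sub_mul, one_mul, mul_one, hEX, hEE, mul_assoc, mul_zero, zero_mul]
        abel
      rw [Units.val_mul, map_mul, ← h1, mul_assoc, hZ, ← map_mul, ← Units.val_mul, mul_inv_cancel, Units.val_one,
        map_one, mul_one]
    have hrad : Rad o (s * z * s⁻¹ * z⁻¹).val := fun x y hxy => by
      rw [hblk, Matrix.sub_apply, sub_eq_self, hE]
      rcases eq_or_ne y c with rfl | hyc
      · rw [Matrix.mul_single_apply_same, mul_one]
        refine hX0 x (fun hx => hxy ⟨hx, hco⟩) _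
      · exact Matrix.mul_single_apply_of_ne _ _ _ _ _ hyc _
    obtain ⟨r, hr⟩ := h.tame'.self hy hrad c
    refine ⟨-r, ?_⟩
    rw [hblk, Matrix.sub_apply, Matrix.one_apply_ne hco.symm, hE, Matrix.mul_single_apply_same, mul_one, zero_sub] at hr
    rw [neg_smul, ← hr, neg_neg]
  choose! r hr using hXs
  let φ : Fin m → F := fun b => if b = o then 0 else r b
  let T := sgl (0 : Fin (t + 1)) (trv (Pi.single o 1) φ (by simp [φ]))
  have hT : blk T.val = 1 + X := by
    rw [sgl_coe, trv_coe, map_add, map_one, map_add, map_one, blk_S_zero]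
    refine congrArg (1 + ·) (Matrix.ext fun a b => ?_)
    rw [Matrix.map_apply, vecMulVec_apply]
    rcases eq_or_ne a o with rfl | ha
    · rw [Pi.single_eq_same, one_mul]
      by_cases hb : b = a
      · simp [φ, hb, hXoo]
      · simp [φ, hb, hr b hb, Algebra.algebraMap_eq_smul_one]
    · simp [Pi.single_eq_of_ne ha, hX0 a ha]
  have hz' : z = T * liftW v' := Units.ext ((blk (F := F) (m := m) (t := t)).injective (by
    rw [Units.val_mul T, map_mul, hT, liftW_coe, blk_lift]; exact hZX))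
  have := mul_mem (inv_mem (h.base' 0 _ (trv_det (Pi.single o 1) φ (by simp [φ])))) hzmem
  rwa [hz', inv_mul_cancel_left] at this

/-- if the block at `o` is a wreath element then so is the whole element -/
theorem row (hm : 3 ≤ m) (h : Pair o G G' g) :
    ∀ a e, ∃ r : F, blk g.val a e = r • blk g.val o o := by
  classical
  obtain ⟨χ, ψ, hχ, hψ, hχ0, hψ0⟩ := h.coeff hm
  intro a e
  rcases ne_or_eq a o with ha | rfl
  · exact ⟨_, hχ a ha e⟩
  rcases eq_or_ne e a with rfl | hb
  · exact ⟨1, by rw [one_smul]⟩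
  obtain ⟨c, hcb, hco⟩ := exists_third' hm e a
  obtain ⟨-, hw'w, hww'⟩ := h.inv_row hco
  haveI : Nonempty (Fin t → Fin m) := ⟨fun _ => ⟨0, by omega⟩⟩
  set w := blk g.val a a
  set w' := blk (g⁻¹).val a a
  set f : Fin m → F := fun d => ψ c d with hf
  set u : Fin m → F := fun d => χ d e * (if d = a then 0 else 1) with hu
  have hfu : f ⬝ᵥ u = 0 := by
    have h1 : ∑ d, blk (g⁻¹).val c d * blk g.val d e = 0 := by
      rw [← Matrix.mul_apply, ← map_mul, ← Units.val_mul, inv_mul_cancel, Units.val_one, map_one, Matrix.one_apply_ne hcb]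
    have h2 : ∀ d, blk (g⁻¹).val c d * blk g.val d e = (f d * u d) • (w' * w) := fun d => by
      rcases eq_or_ne d a with rfl | hd
      · rw [hψ c hco, hψ0, zero_smul, zero_mul]; simp [f, hψ0]
      · rw [hψ c hco, hχ d hd, smul_mul_smul_comm]; simp [f, u, hd]
    rw [Finset.sum_congr rfl fun d _ => h2 d, ← Finset.sum_smul, hw'w] at h1
    exact (smul_eq_zero.1 h1).resolve_right one_ne_zero
  set y := g * sgl 0 (elU e c hcb.symm (1 : F)) * g⁻¹ with hy
  have hymem : y ∈ G' := h.maps _ (h.base 0 _ (elU_det _ _ _ _))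
  set Q : Fin m → Matrix (Fin t → Fin m) (Fin t → Fin m) F := fun x => blk g.val x e * w' with hQ
  have hQu : ∀ x, x ≠ a → Q x = u x • 1 := fun x hx => by
    simp only [hQ, hχ x hx, smul_mul_assoc, u, if_neg hx, mul_one]
    exact congrArg (χ x e • ·) hww'
  have hyb : blk y.val = 1 + Matrix.of fun x d => f d • Q x := by
    ext1 x d
    rw [hy, blk_conj_el, Matrix.add_apply, Matrix.of_apply, hψ c hco, mul_smul_comm]
  have hfu' : (-f) ⬝ᵥ u = 0 := by rw [neg_dotProduct, hfu, neg_zero]
  let N := sgl (0 : Fin (t + 1)) (trv u (-f) hfu')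
  have hN : blk N.val = 1 - Matrix.of fun x d => (u x * f d) • (1 : Matrix (Fin t → Fin m) (Fin t → Fin m) F) := by
    rw [sgl_coe, trv_coe, map_add, map_one, map_add, map_one, blk_S_zero, sub_eq_add_neg]
    refine congrArg (1 + ·) (Matrix.ext fun x d => ?_)
    simp [vecMulVec_apply, Algebra.algebraMap_eq_smul_one]
  have hmem : y * N ∈ G' := mul_mem hymem (h.base' 0 _ (trv_det u (-f) hfu'))
  have hprod : (Matrix.of fun x d => f d • Q x) *
      (Matrix.of fun x d => (u x * f d) • (1 : Matrix (Fin t → Fin m) (Fin t → Fin m) F)) = 0 := by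
    ext1 x d
    rw [Matrix.mul_apply, Matrix.zero_apply]
    simp only [Matrix.of_apply, smul_mul_smul_comm, mul_one, ← Finset.sum_smul]
    rw [show ∑ i, f i * (u i * f d) = (f ⬝ᵥ u) * f d by
      rw [dotProduct, Finset.sum_mul]; exact Finset.sum_congr rfl fun i _ => (mul_assoc _ _ _).symm, hfu, zero_mul,
      zero_smul]
  have hblk : ∀ x d, blk (y * N).val x d =
      (1 : Matrix (Fin m) (Fin m) (Matrix (Fin t → Fin m) (Fin t → Fin m) F)) x d + f d • (Q x - u x • 1) := fun x d => by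
    rw [Units.val_mul, map_mul, hyb, hN, add_mul, one_mul, mul_sub, mul_one, hprod, sub_zero]
    simp only [Matrix.add_apply, Matrix.sub_apply, Matrix.of_apply, smul_sub, smul_smul, mul_comm (f d) (u x)]
    abel
  obtain ⟨d, hd⟩ : ∃ d, f d ≠ 0 := by
    by_contra hc
    push Not at hc
    have h1 : ∑ d, blk (g⁻¹).val c d * blk g.val d c = 1 := by
      rw [← Matrix.mul_apply, ← map_mul, ← Units.val_mul, inv_mul_cancel, Units.val_one, map_one, Matrix.one_apply_eq]
    rw [Finset.sum_eq_zero fun d _ => by rw [hψ c hco, show ψ c d = 0 from hc d, zero_smul, zero_mul]] at h1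
    exact zero_ne_one h1
  have hda : d ≠ a := fun e => hd (by simp [f, e, hψ0])
  have hrad : Rad _ (y * N).val := fun x d' hxd => by
    rw [hblk, add_eq_left]
    rcases eq_or_ne x a with rfl | hx
    · have : d' = x := by by_contra h'; exact hxd ⟨rfl, h'⟩
      simp [this, f, hψ0]
    · rw [hQu x hx, sub_self, smul_zero]
  obtain ⟨s, hs⟩ := h.tame'.self hmem hrad d
  rw [hblk, Matrix.one_apply_ne hda.symm, zero_add, show u a = 0 by simp [u], zero_smul, sub_zero] at hs
  refine ⟨(f d)⁻¹ * s, ?_⟩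
  have h2 := congrArg (fun M => ((f d)⁻¹ • M) * w) hs
  simp only [smul_smul, inv_mul_cancel₀ hd, one_smul, hQ, smul_mul_assoc, one_mul] at h2
  rwa [mul_assoc, hw'w, mul_one] at h2

end Pair

end Cfsg.Agent.TensorWreath
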