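import Cfsg.Agent.Lib.Forms.Max.TensorWreath.Elements
import Cfsg.Agent.Lib.Classical.Linear

/-!
# A non-scalar radical element generates the special linear group with the wreath group
-/

set_option autoImplicit false
set_option linter.unusedSectionVars false

namespace Cfsg.Agent.TensorWreath

open Matrix Cfsg.Agent.Aschbacher
open scoped Kronecker

variable {F : Type*} [Field F] {m t : ℕ}

/-- the determinant of one slot -/
theorem sgl_det (j : Fin t) {a : GL (Fin m) F} (ha : a.val.det = 1) : (sgl j a).val.det = 1 := by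
  obtain ⟨t, rfl⟩ : ∃ s, t = s + 1 := ⟨t - 1, by have := j.2; omega⟩
  have e : (sgl j a).val = (permGL (Equiv.swap 0 j) : GL _ F).val * S 0 a.val * ((permGL (Equiv.swap 0 j) : GL _ F)⁻¹).val := by
    rw [← conjMat_apply, conj_perm_S, Equiv.swap_apply_left, sgl_coe]
  rw [e, Matrix.det_units_conj]
  have e2 : Matrix.reindex (Fin.consEquiv fun _ : Fin (t + 1) => Fin m).symm (Fin.consEquiv fun _ : Fin (t + 1) => Fin m).symm
      (S (0 : Fin (t + 1)) a.val) = a.val ⊗ₖ (1 : Matrix (Fin t → Fin m) (Fin t → Fin m) F) := by
    ext ⟨p, u⟩ ⟨q, v⟩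
    have h := congrFun (congrFun (congrFun (congrFun (blk_S_zero (t := t) a.val) p) q) u) v
    rw [blk_apply] at h
    rw [Matrix.reindex_apply, Matrix.submatrix_apply, Equiv.symm_symm, kroneckerMap_apply]
    refine h.trans ?_
    rw [Matrix.map_apply, Matrix.algebraMap_matrix_apply, Matrix.one_apply]
    split_ifs <;> simp
  rw [← Matrix.det_reindex_self (Fin.consEquiv fun _ : Fin (t + 1) => Fin m).symm, e2, Matrix.det_kronecker, ha,
    Matrix.det_one, one_pow, one_pow, one_mul]

/-- one block -/
def elB (a c : Fin m) (h : a ≠ c) (R : Matrix (Fin t → Fin m) (Fin t → Fin m) F) : GL (Fin (t + 1) → Fin m) F where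
  val := 1 + blk.symm (Matrix.single a c R)
  inv := 1 - blk.symm (Matrix.single a c R)
  val_inv := by
    rw [add_mul, mul_sub, mul_sub, one_mul, mul_one, one_mul, ← map_mul, Matrix.single_mul_single_of_ne _ _ _ _ h.symm,
      map_zero]
    abel
  inv_val := by
    rw [sub_mul, mul_add, mul_add, one_mul, mul_one, one_mul, ← map_mul, Matrix.single_mul_single_of_ne _ _ _ _ h.symm,
      map_zero]
    abel

theorem blk_elB (a c : Fin m) (h : a ≠ c) (R : Matrix (Fin t → Fin m) (Fin t → Fin m) F) :
    blk (elB a c h R).val = 1 + Matrix.single a c R := by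
  show blk (1 + blk.symm (Matrix.single a c R)) = _
  rw [map_add, map_one, AlgEquiv.apply_symm_apply]

theorem blk_elB_inv (a c : Fin m) (h : a ≠ c) (R : Matrix (Fin t → Fin m) (Fin t → Fin m) F) :
    blk ((elB a c h R)⁻¹).val = 1 - Matrix.single a c R := by
  show blk (1 - blk.symm (Matrix.single a c R)) = _
  rw [map_sub, map_one, AlgEquiv.apply_symm_apply]

theorem blk_ext {g h : GL (Fin (t + 1) → Fin m) F} (e : blk g.val = blk h.val) : g = h :=
  Units.ext ((blk (F := F) (m := m) (t := t)).injective e)

theorem elB_mul (a c : Fin m) (h : a ≠ c) (R R' : Matrix (Fin t → Fin m) (Fin t → Fin m) F) :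
    elB a c h R * elB a c h R' = elB a c h (R + R') := by
  refine blk_ext ?_
  rw [Units.val_mul, map_mul, blk_elB, blk_elB, blk_elB, add_mul, one_mul, mul_add, mul_one,
    Matrix.single_mul_single_of_ne _ _ _ _ h.symm, add_zero, Matrix.single_add]
  abel

theorem elB_comm (a b c : Fin m) (hab : a ≠ b) (hbc : b ≠ c) (hac : a ≠ c)
    (R R' : Matrix (Fin t → Fin m) (Fin t → Fin m) F) :
    elB a c hac (R * R') = elB a b hab R * elB b c hbc R' * (elB a b hab R)⁻¹ * (elB b c hbc R')⁻¹ := by
  rw [eq_mul_inv_iff_mul_eq, eq_mul_inv_iff_mul_eq]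
  refine blk_ext ?_
  simp only [Units.val_mul, map_mul, blk_elB, mul_add, add_mul, one_mul, mul_one, mul_assoc,
    Matrix.single_mul_single_same, Matrix.single_mul_single_of_ne _ _ _ _ hab.symm,
    Matrix.single_mul_single_of_ne _ _ _ _ hbc.symm, Matrix.single_mul_single_of_ne _ _ _ _ hac.symm,
    mul_zero, add_zero, zero_add]
  abel

theorem elB_one (a c : Fin m) (h : a ≠ c) :
    elB (t := t) a c h (1 : Matrix (Fin t → Fin m) (Fin t → Fin m) F) = sgl 0 (elU a c h 1) := by
  refine blk_ext ?_
  rw [blk_elB, sgl_coe, elU_coe, map_add, map_one, map_add, map_one, blk_S_zero, Matrix.map_single, map_one]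

theorem elB_smul_one (a c : Fin m) (h : a ≠ c) (r : F) :
    elB (t := t) a c h (r • (1 : Matrix (Fin t → Fin m) (Fin t → Fin m) F)) = sgl 0 (elU a c h r) := by
  refine blk_ext ?_
  rw [blk_elB, sgl_coe, elU_coe, map_add, map_one, map_add, map_one, blk_S_zero, Matrix.map_single,
    Algebra.algebraMap_eq_smul_one]

theorem conj_lift_elB (v : GL (Fin t → Fin m) F) (a c : Fin m) (h : a ≠ c)
    (R : Matrix (Fin t → Fin m) (Fin t → Fin m) F) :
    liftW v * elB a c h R * (liftW v)⁻¹ = elB a c h (conjMat v R) := by
  refine blk_ext ?_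
  rw [← map_inv, Units.val_mul, Units.val_mul, map_mul, map_mul, liftW_coe, liftW_coe, blk_lift, blk_lift, blk_elB,
    blk_elB, conjMat_apply, mul_add, add_mul, mul_one, Matrix.diagonal_mul_diagonal]
  congr 1
  · rw [← Units.val_mul, mul_inv_cancel, Units.val_one, Matrix.diagonal_one]
  · ext1 p q
    rw [Matrix.mul_diagonal, Matrix.diagonal_mul, Matrix.single_apply, Matrix.single_apply]
    split_ifs <;> simp

theorem single_eq_smul (a b : Fin m) (c : F) : Matrix.single a b c = c • Matrix.single a b (1 : F) := by
  simp [Matrix.smul_single]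

theorem sum_single_one : ∑ c : Fin m, Matrix.single c c (1 : F) = (1 : Matrix (Fin m) (Fin m) F) := by
  ext u v
  rw [Matrix.sum_apply, Finset.sum_eq_single u (fun c _ hc => Matrix.single_apply_of_ne _ _ _ _ _ fun h => hc h.1) (by simp),
    Matrix.single_apply, Matrix.one_apply]
  simp

/-- a pure tensor is additive in each slot -/
theorem pure_update_add (X : Fin t → Matrix (Fin m) (Fin m) F) (k : Fin t) (u v : Matrix (Fin m) (Fin m) F) :
    pureTensor (Function.update X k (u + v)) = pureTensor (Function.update X k u) + pureTensor (Function.update X k v) := by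
  classical
  ext x y
  have e : ∀ w : Matrix (Fin m) (Fin m) F, pureTensor (Function.update X k w) x y =
      w (x k) (y k) * ∏ l ∈ Finset.univ.erase k, X l (x l) (y l) := fun w => by
    rw [pureTensor_apply, ← Finset.mul_prod_erase _ _ (Finset.mem_univ k), Function.update_self]
    congr 1
    exact Finset.prod_congr rfl fun l hl => by rw [Function.update_of_ne (Finset.ne_of_mem_erase hl)]
  rw [Matrix.add_apply, e, e, e, Matrix.add_apply, add_mul]

theorem pure_update_sum {α : Type*} (s : Finset α) (X : Fin t → Matrix (Fin m) (Fin m) F) (k : Fin t)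
    (u : α → Matrix (Fin m) (Fin m) F) :
    pureTensor (Function.update X k (∑ i ∈ s, u i)) = ∑ i ∈ s, pureTensor (Function.update X k (u i)) := by
  classical
  induction s using Finset.induction with
  | empty => simpa using pure_zero (Function.update X k 0) k (Function.update_self _ _ _)
  | insert i s hi ih => rw [Finset.sum_insert hi, Finset.sum_insert hi, pure_update_add, ih]

section Algebra

variable (A : Subalgebra F (Matrix (Fin t → Fin m) (Fin t → Fin m) F))

/-- invariance under the slot transvections -/
def AdStable : Prop := ∀ (j : Fin t) (E : Matrix (Fin m) (Fin m) F), E * E = 0 → E.trace = 0 →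
  (∃ a b, a ≠ b ∧ E = Matrix.single a b (E a b)) ∨ (∃ a b b', a ≠ b ∧ a ≠ b' ∧ b ≠ b' ∧
    E = Matrix.single a b 1 + Matrix.single a b' 1) →
  ∀ R ∈ A, (1 + S j E) * R * (1 - S j E) ∈ A

variable {A}

theorem AdStable.single (hA : AdStable A) (j : Fin t) {a b : Fin m} (h : a ≠ b) (c : F)
    {R : Matrix (Fin t → Fin m) (Fin t → Fin m) F} (hR : R ∈ A) :
    S j (Matrix.single a b c) * R - R * S j (Matrix.single a b c) -
      S j (Matrix.single a b c) * R * S j (Matrix.single a b c) ∈ A := by
  have := sub_mem (hA j _ (Matrix.single_mul_single_of_ne _ _ _ _ h.symm _) (mem_sl.1 (single_mem_sl h c))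
    (Or.inl ⟨a, b, h, by simp⟩) R hR) hR
  convert this using 1
  noncomm_ring

/-- the partial pure tensors -/
def ptw (I : Finset (Fin t)) (f g : Fin t → Fin m) : Matrix (Fin t → Fin m) (Fin t → Fin m) F :=
  pureTensor fun i => if i ∈ I then Matrix.single (f i) (g i) 1 else 1

theorem ptw_insert {I : Finset (Fin t)} {j : Fin t} (hj : j ∉ I) (f g : Fin t → Fin m) (a b : Fin m) :
    ptw (F := F) (insert j I) (Function.update f j a) (Function.update g j b) =
      S j (Matrix.single a b 1) * ptw I f g := by
  rw [ptw, ptw, slotHom_apply, ← map_mul]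
  congr 1
  funext l
  rcases eq_or_ne l j with rfl | hl
  · simp [hj]
  · simp [hl, Function.update_of_ne hl, Pi.mulSingle_eq_of_ne hl]

theorem ptw_comm {I : Finset (Fin t)} {j : Fin t} (hj : j ∉ I) (f g : Fin t → Fin m) (z : Matrix (Fin m) (Fin m) F) :
    S j z * ptw I f g = ptw I f g * S j z := by
  rw [ptw, slotHom_apply, ← map_mul, ← map_mul]
  congr 1
  funext l
  rcases eq_or_ne l j with rfl | hl
  · simp [hj]
  · simp [Pi.mulSingle_eq_of_ne hl]

/-- one more slot -/
theorem grow (hm : 3 ≤ m) (hA : AdStable A) {I : Finset (Fin t)} {f g : Fin t → Fin m} (hfg : ∀ i ∈ I, f i ≠ g i)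
    {U : Matrix (Fin t → Fin m) (Fin t → Fin m) F} (hU : ∀ i ∈ I, ∀ z, S i z * U = U * S i z)
    (hP : ptw I f g * U ∈ A) (hns : ¬ ∃ c : F, U = c • 1) (hne : ∀ V : Matrix (Fin t → Fin m) (Fin t → Fin m) F,
      (∀ i ∈ I, ∀ z, S i z * V = V * S i z) → ptw I f g * V = 0 → V = 0) :
    ∃ j, j ∉ I ∧ ∃ a b, a ≠ b ∧ ∃ U', (∀ i ∈ insert j I, ∀ z, S i z * U' = U' * S i z) ∧ U' ≠ 0 ∧
      ptw (insert j I) (Function.update f j a) (Function.update g j b) * U' ∈ A := by
  classical
  obtain ⟨j, hj, hnc⟩ : ∃ j, j ∉ I ∧ ∃ a b, a ≠ b ∧ S j (Matrix.single a b (1 : F)) * U ≠ U * S j (Matrix.single a b 1) := by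
    by_contra hc
    push Not at hc
    refine hns ?_
    have hall : ∀ (i : Fin t) (z : Matrix (Fin m) (Fin m) F), S i z * U = U * S i z := by
      intro i z
      by_cases hi : i ∈ I
      · exact hU i hi z
      rw [Matrix.matrix_eq_sum_single z]
      simp only [map_sum, Finset.sum_mul, Finset.mul_sum]
      refine Finset.sum_congr rfl fun a _ => Finset.sum_congr rfl fun b _ => ?_
      rw [single_eq_smul a b (z a b), map_smul, smul_mul_assoc, mul_smul_comm]
      congr 1
      rcases eq_or_ne a b with rfl | hab
      · obtain ⟨d, hd, -⟩ := exists_third' hm a a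
        have e : Matrix.single a a (1 : F) = Matrix.single a d 1 * Matrix.single d a 1 := by simp
        rw [e, map_mul, mul_assoc, hc i hi d a hd, ← mul_assoc, hc i hi a d hd.symm, mul_assoc]
      · exact hc i hi a b hab
    obtain ⟨c, hc'⟩ : ∃ c : F, U = c • 1 := by
      have hsub : Algebra.adjoin F (⋃ i : Fin t, Set.range (S (F := F) (m := m) i)) ≤ Subalgebra.centralizer F {U} := by
        refine Algebra.adjoin_le fun M hM => ?_
        obtain ⟨i, z, rfl⟩ := Set.mem_iUnion.1 hM
        rw [SetLike.mem_coe, Subalgebra.mem_centralizer_iff]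
        intro V hV
        rw [Set.mem_singleton_iff.1 hV]
        exact (hall i z).symm
      rw [adjoin_S] at hsub
      haveI : Nonempty (Fin t → Fin m) := ⟨fun _ => ⟨0, by omega⟩⟩
      refine mem_scalar_of_commute (k := U) fun u v _ => ?_
      have := hsub (Algebra.mem_top (x := Matrix.single u v (1 : F)))
      rw [Subalgebra.mem_centralizer_iff] at this
      exact (this U rfl).symm
    exact ⟨c, hc'⟩
  -- a product supported in one position of the slot
  obtain ⟨x, y, hxy, q, hq0, hqU, hqA, hqxy⟩ : ∃ x y, x ≠ y ∧ ∃ q, q ≠ 0 ∧ (∀ i ∈ I, ∀ z, S i z * q = q * S i z) ∧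
      ptw I f g * q ∈ A ∧ S j (Matrix.single x x (1 : F)) * q * S j (Matrix.single y y 1) = q := by
    have hcI : ∀ (z : Matrix (Fin m) (Fin m) F) (V : Matrix (Fin t → Fin m) (Fin t → Fin m) F),
        ptw I f g * (S j z * V) = S j z * (ptw I f g * V) := fun z V => by
      rw [← mul_assoc, ← ptw_comm hj, mul_assoc]
    have hcU : ∀ z : Matrix (Fin m) (Fin m) F, ∀ i ∈ I, ∀ w, S i w * S j z = S j z * S i w := fun z i hi w =>
      S_comm (fun e => hj (by rw [← e]; exact hi)) _ _
    by_cases hoff : ∃ x y, x ≠ y ∧ S j (Matrix.single x y (1 : F)) * U * S j (Matrix.single x y 1) ≠ 0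
    · obtain ⟨x, y, hxy, hne'⟩ := hoff
      refine ⟨x, y, hxy, _, hne', fun i hi w => ?_, ?_, ?_⟩
      · rw [← mul_assoc, ← mul_assoc, hcU _ i hi, mul_assoc (S j _) (S i w) U, hU i hi, ← mul_assoc,
          mul_assoc _ (S i w) (S j _), hcU _ i hi, ← mul_assoc]
      · obtain ⟨l, hlx, hly⟩ := exists_third' hm x y
        set P := ptw I f g * U
        set a₁ := S j (Matrix.single x y (1 : F))
        set b₁ := S j (Matrix.single x l (1 : F))
        have hab : a₁ * P * b₁ + b₁ * P * a₁ ∈ A := by
          have h1 := hA.single j hxy 1 hP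
          have h2 := hA.single j hlx.symm 1 hP
          have h3 := sub_mem (hA j (Matrix.single x y 1 + Matrix.single x l 1)
            (by simp [add_mul, mul_add, Matrix.single_mul_single_of_ne _ _ _ _ hxy.symm,
              Matrix.single_mul_single_of_ne _ _ _ _ hlx])
            (by rw [trace_add, mem_sl.1 (single_mem_sl hxy (1 : F)), mem_sl.1 (single_mem_sl hlx.symm (1 : F)), add_zero])
            (Or.inr ⟨x, y, l, hxy, hlx.symm, hly.symm, rfl⟩) _ hP) hP
          have := sub_mem (add_mem h1 h2) h3
          convert this using 1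
          simp only [map_add, a₁, b₁, P]
          noncomm_ring
        have h4 := hA.single j hly 1 hab
        have e1 : S j (Matrix.single l y (1 : F)) * a₁ = 0 := by
          rw [← map_mul, Matrix.single_mul_single_of_ne _ _ _ _ hxy.symm, map_zero]
        have e2 : S j (Matrix.single l y (1 : F)) * b₁ = 0 := by
          rw [← map_mul, Matrix.single_mul_single_of_ne _ _ _ _ hxy.symm, map_zero]
        have e3 : b₁ * S j (Matrix.single l y (1 : F)) = a₁ := by
          rw [← map_mul, Matrix.single_mul_single_same, mul_one]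
        have e4 : a₁ * S j (Matrix.single l y (1 : F)) = 0 := by
          rw [← map_mul, Matrix.single_mul_single_of_ne _ _ _ _ hly.symm, map_zero]
        simp only [mul_add, add_mul, ← mul_assoc, e1, e2, zero_mul] at h4
        simp only [mul_assoc, e3, e4, mul_zero, add_zero, zero_sub, sub_zero] at h4
        have h5 := neg_mem h4
        rw [neg_neg] at h5
        rw [mul_assoc (a₁) U a₁, hcI, ← mul_assoc (ptw I f g)]
        exact h5
      · set E := S j (Matrix.single x y (1 : F))
        have a1 : S j (Matrix.single x x (1 : F)) * E = E := by rw [← map_mul, Matrix.single_mul_single_same, mul_one]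
        have a2 : E * S j (Matrix.single y y (1 : F)) = E := by rw [← map_mul, Matrix.single_mul_single_same, mul_one]
        rw [← mul_assoc, ← mul_assoc, a1, mul_assoc _ E, a2]
    · push Not at hoff
      obtain ⟨x, y, hxy, hne'⟩ := hnc
      set E := S j (Matrix.single x y (1 : F)) with hE
      refine ⟨x, y, hxy, E * U - U * E, sub_ne_zero.2 hne', fun i hi w => ?_, ?_, ?_⟩
      · rw [mul_sub, sub_mul, ← mul_assoc, ← mul_assoc, hcU _ i hi, mul_assoc E, hU i hi, ← mul_assoc,
          mul_assoc U (S i w) E, hcU _ i hi, ← mul_assoc]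
      · have h1 := hA.single j hxy 1 hP
        have e : E * (ptw I f g * U) * E = 0 := by
          rw [← hcI, mul_assoc, hoff x y hxy, mul_zero]
        rw [e, sub_zero, ← hcI, mul_assoc, ← mul_sub] at h1
        exact h1
      · have hz : ∀ a b, a ≠ b → S j (Matrix.single a a (1 : F)) * U * S j (Matrix.single b b 1) = 0 := by
          intro a b hab
          have h1 : S j (Matrix.single a a (1 : F)) * U * S j (Matrix.single b b 1) =
              S j (Matrix.single a b 1) * (S j (Matrix.single b a 1) * U * S j (Matrix.single b a 1)) *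
                S j (Matrix.single a b 1) := by
            simp only [← mul_assoc, ← map_mul, Matrix.single_mul_single_same, mul_one]
            rw [mul_assoc _ (S j (Matrix.single b a 1)), ← map_mul, Matrix.single_mul_single_same, mul_one]
          rw [h1, hoff b a hab.symm, mul_zero, zero_mul]
        have key : ∀ a, S j (Matrix.single a a (1 : F)) * U = U * S j (Matrix.single a a 1) := fun a => by
          have hone : ∑ b : Fin m, S j (Matrix.single b b (1 : F)) = 1 := by
            rw [← map_sum, sum_single_one, map_one]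
          calc S j (Matrix.single a a (1 : F)) * U = S j (Matrix.single a a 1) * U * ∑ b, S j (Matrix.single b b 1) := by
                rw [hone, mul_one]
            _ = S j (Matrix.single a a 1) * U * S j (Matrix.single a a 1) := by
                rw [Finset.mul_sum, Finset.sum_eq_single a (fun b _ hb => hz a b hb.symm) (by simp)]
            _ = (∑ b, S j (Matrix.single b b 1)) * U * S j (Matrix.single a a 1) := by
                rw [Finset.sum_mul, Finset.sum_mul, Finset.sum_eq_single a (fun b _ hb => hz b a hb) (by simp)]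
            _ = _ := by rw [hone, one_mul]
        have a1 : S j (Matrix.single x x (1 : F)) * E = E := by rw [hE, ← map_mul, Matrix.single_mul_single_same, mul_one]
        have a2 : E * S j (Matrix.single y y (1 : F)) = E := by rw [hE, ← map_mul, Matrix.single_mul_single_same, mul_one]
        rw [mul_sub, sub_mul]
        congr 1
        · rw [← mul_assoc, a1, mul_assoc, ← key, ← mul_assoc, a2]
        · rw [← mul_assoc, key, mul_assoc U, a1, mul_assoc, a2]
  -- the free part
  let U' := ∑ k, S j (Matrix.single k x (1 : F)) * q * S j (Matrix.single y k 1)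
  have hprod : S j (Matrix.single x y (1 : F)) * U' = q := by
    rw [Finset.mul_sum, Finset.sum_eq_single y (fun k _ hk => ?_) (by simp)]
    · rw [← mul_assoc, ← mul_assoc, ← map_mul, Matrix.single_mul_single_same, mul_one, hqxy]
    · rw [← mul_assoc, ← mul_assoc, ← map_mul, Matrix.single_mul_single_of_ne _ _ _ _ hk.symm, map_zero, zero_mul,
        zero_mul]
  have hsingle : ∀ a b, S j (Matrix.single a b (1 : F)) * U' = U' * S j (Matrix.single a b 1) := by
    intro a b
    rw [Finset.mul_sum, Finset.sum_mul,
      Finset.sum_eq_single b (fun k _ hk => by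
        rw [← mul_assoc, ← mul_assoc, ← map_mul, Matrix.single_mul_single_of_ne _ _ _ _ hk.symm, map_zero, zero_mul,
          zero_mul]) (by simp),
      Finset.sum_eq_single a (fun k _ hk => by
        rw [mul_assoc, ← map_mul, Matrix.single_mul_single_of_ne _ _ _ _ hk, map_zero, mul_zero]) (by simp)]
    rw [← mul_assoc, ← mul_assoc, ← map_mul, Matrix.single_mul_single_same, mul_one]
    conv_rhs => rw [mul_assoc, ← map_mul, Matrix.single_mul_single_same, mul_one]
  refine ⟨j, hj, x, y, hxy, U', fun i hi w => ?_, fun h0 => hq0 (by rw [← hprod, h0, mul_zero]), ?_⟩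
  · rcases Finset.mem_insert.1 hi with rfl | hi
    · rw [Matrix.matrix_eq_sum_single w]
      simp only [map_sum, Finset.sum_mul, Finset.mul_sum]
      refine Finset.sum_congr rfl fun a _ => Finset.sum_congr rfl fun b _ => ?_
      rw [single_eq_smul a b (w a b), map_smul, smul_mul_assoc, mul_smul_comm]
      congr 1
      exact hsingle a b
    · have hc : ∀ z : Matrix (Fin m) (Fin m) F, Commute (S i w) (S j z) := fun z =>
        S_comm (fun e => hj (by rw [← e]; exact hi)) _ _
      exact (Commute.sum_right _ _ _ fun k _ =>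
        ((hc _).mul_right (hqU i hi w)).mul_right (hc _))
  · rw [ptw_insert hj, ptw_comm hj, mul_assoc, hprod]
    exact hqA

/-- a non-scalar element gives all matrices of one slot -/
theorem exists_slot (hm : 3 ≤ m) (hA : AdStable A) {R : Matrix (Fin t → Fin m) (Fin t → Fin m) F} (hR : R ∈ A)
    (hns : ¬ ∃ c : F, R = c • 1) : ∃ i : Fin t, ∀ z, S i z ∈ A := by
  classical
  let o : Fin m := ⟨0, by omega⟩
  -- maximal support
  have hne : ∀ (I : Finset (Fin t)) (f g : Fin t → Fin m) (V : Matrix (Fin t → Fin m) (Fin t → Fin m) F),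
      (∀ i ∈ I, ∀ z, S i z * V = V * S i z) → ptw I f g * V = 0 → V = 0 := by
    intro I
    induction I using Finset.induction with
    | empty =>
      intro f g V _ h
      rwa [ptw, show (fun i : Fin t => if i ∈ (∅ : Finset (Fin t)) then Matrix.single (f i) (g i) (1 : F) else 1) = 1 from
        funext fun i => by simp, map_one, one_mul] at h
    | insert j I hj ih =>
      intro f g V hV h
      rw [show f = Function.update f j (f j) by simp, show g = Function.update g j (g j) by simp, ptw_insert hj,
        ptw_comm hj, mul_assoc] at h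
      have h1 : ∀ i ∈ I, ∀ z, S i z * (S j (Matrix.single (f j) (g j) 1) * V) =
          S j (Matrix.single (f j) (g j) 1) * V * S i z := fun i hi z =>
        Commute.mul_right (S_comm (fun e => hj (by rw [← e]; exact hi)) _ _) (hV i (Finset.mem_insert_of_mem hi) z)
      have h2 := ih f g _ h1 h
      have hone : V = ∑ k, S j (Matrix.single k (f j) 1) * (S j (Matrix.single (f j) (g j) 1) * V) *
          S j (Matrix.single (g j) k 1) := by
        have e : ∀ k, S j (Matrix.single k (f j) (1 : F)) * (S j (Matrix.single (f j) (g j) 1) * V) *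
            S j (Matrix.single (g j) k 1) = V * S j (Matrix.single k k 1) := fun k => by
          rw [← mul_assoc, ← map_mul, Matrix.single_mul_single_same, mul_one,
            hV j (Finset.mem_insert_self _ _), mul_assoc, ← map_mul, Matrix.single_mul_single_same, mul_one]
        rw [Finset.sum_congr rfl fun k _ => e k, ← Finset.mul_sum, ← map_sum,
          sum_single_one, map_one, mul_one]
      rw [hone]
      exact Finset.sum_eq_zero fun k _ => by rw [h2, mul_zero, zero_mul]
  have hfull : ∀ (n : ℕ) (I : Finset (Fin t)) (f g : Fin t → Fin m) (U : Matrix (Fin t → Fin m) (Fin t → Fin m) F),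
      t - I.card ≤ n → (∀ i ∈ I, f i ≠ g i) → (∀ i ∈ I, ∀ z, S i z * U = U * S i z) → U ≠ 0 →
      ptw I f g * U ∈ A → (I.Nonempty ∨ ¬ ∃ c : F, U = c • 1) →
      ∃ (J : Finset (Fin t)) (f' g' : Fin t → Fin m), J.Nonempty ∧ (∀ i ∈ J, f' i ≠ g' i) ∧ ptw J f' g' ∈ A := by
    intro n
    induction n with
    | zero =>
      intro I f g U hn hfg hU hU0 hP hI
      by_cases hs : ∃ c : F, U = c • 1
      · obtain ⟨c, rfl⟩ := hs
        refine ⟨I, f, g, hI.resolve_right fun h => h ⟨c, rfl⟩, hfg, ?_⟩
        have hc : c ≠ 0 := fun h => hU0 (by rw [h, zero_smul])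
        have := Subalgebra.smul_mem A hP c⁻¹
        rwa [mul_smul_comm, mul_one, smul_smul, inv_mul_cancel₀ hc, one_smul] at this
      · obtain ⟨j, hj, -⟩ := grow hm hA hfg hU hP hs (hne I f g)
        have := Finset.card_lt_card (Finset.ssubset_insert hj)
        have := Finset.card_le_univ (insert j I)
        simp at this
        omega
    | succ n ih =>
      intro I f g U hn hfg hU hU0 hP hI
      by_cases hs : ∃ c : F, U = c • 1
      · obtain ⟨c, rfl⟩ := hs
        refine ⟨I, f, g, hI.resolve_right fun h => h ⟨c, rfl⟩, hfg, ?_⟩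
        have hc : c ≠ 0 := fun h => hU0 (by rw [h, zero_smul])
        have := Subalgebra.smul_mem A hP c⁻¹
        rwa [mul_smul_comm, mul_one, smul_smul, inv_mul_cancel₀ hc, one_smul] at this
      · obtain ⟨j, hj, a, b, hab, U', hU', hU'0, hP'⟩ := grow hm hA hfg hU hP hs (hne I f g)
        refine ih (insert j I) _ _ U' ?_ (fun i hi => ?_) hU' hU'0 hP' (Or.inl (Finset.insert_nonempty _ _))
        · rw [Finset.card_insert_of_notMem hj]; omega
        · rcases eq_or_ne i j with rfl | hij
          · simpa using hab
          · simpa [Function.update_of_ne hij] using hfg i ((Finset.mem_insert.1 hi).resolve_left hij)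
  obtain ⟨J, f, g, ⟨i, hiJ⟩, hfg, hmem⟩ := hfull t ∅ (fun _ => o) (fun _ => o) R (by simp) (by simp) (by simp)
    (fun h => hns ⟨0, by rw [h, zero_smul]⟩) (by
      rw [ptw, show (fun i : Fin t => if i ∈ (∅ : Finset (Fin t)) then Matrix.single o o (1 : F) else 1) = 1 from
        funext fun i => by simp, map_one, one_mul]
      exact hR) (Or.inr hns)
  -- all off-diagonal choices
  have row : ∀ {f g : Fin t → Fin m} {k : Fin t}, k ∈ J → ∀ a, f k ≠ g k → a ≠ g k → ptw (F := F) J f g ∈ A →
      ptw (F := F) J (Function.update f k a) g ∈ A := by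
    intro f g k hk a h1 h2 hP
    rcases eq_or_ne a (f k) with rfl | ha
    · simpa using hP
    obtain ⟨I, hkI, rfl⟩ : ∃ I, k ∉ I ∧ insert k I = J := ⟨J.erase k, by simp, Finset.insert_erase hk⟩
    have e : ∀ u v, ptw (F := F) (insert k I) (Function.update f k u) (Function.update g k v) =
        S k (Matrix.single u v 1) * ptw I f g := ptw_insert hkI f g
    have := hA.single k ha 1 hP
    rw [show ptw (F := F) (insert k I) f g = S k (Matrix.single (f k) (g k) 1) * ptw I f g by rw [← e]; simp] at this
    rw [mul_assoc (S k (Matrix.single (f k) (g k) 1)) (ptw I f g), ← ptw_comm hkI, ← mul_assoc, ← mul_assoc,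
      ← map_mul, ← map_mul, Matrix.single_mul_single_same, Matrix.single_mul_single_of_ne _ _ _ _ h2.symm, map_zero,
      zero_mul, sub_zero, mul_assoc (S k (Matrix.single a (g k) (1 * 1))), ← ptw_comm hkI, ← mul_assoc, ← map_mul,
      Matrix.single_mul_single_of_ne _ _ _ _ h2.symm, map_zero, zero_mul, sub_zero, mul_one] at this
    rw [show g = Function.update g k (g k) by simp, e]
    exact this
  have col : ∀ {f g : Fin t → Fin m} {k : Fin t}, k ∈ J → ∀ b, f k ≠ g k → f k ≠ b → ptw (F := F) J f g ∈ A →
      ptw (F := F) J f (Function.update g k b) ∈ A := by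
    intro f g k hk b h1 h2 hP
    rcases eq_or_ne b (g k) with rfl | hb
    · simpa using hP
    obtain ⟨I, hkI, rfl⟩ : ∃ I, k ∉ I ∧ insert k I = J := ⟨J.erase k, by simp, Finset.insert_erase hk⟩
    have e : ∀ u v, ptw (F := F) (insert k I) (Function.update f k u) (Function.update g k v) =
        S k (Matrix.single u v 1) * ptw I f g := ptw_insert hkI f g
    have := neg_mem (hA.single k hb.symm 1 hP)
    rw [show ptw (F := F) (insert k I) f g = S k (Matrix.single (f k) (g k) 1) * ptw I f g by rw [← e]; simp] at this
    rw [mul_assoc (S k (Matrix.single (f k) (g k) 1)) (ptw I f g), ← ptw_comm hkI, ← mul_assoc, ← mul_assoc,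
      ← map_mul, ← map_mul, Matrix.single_mul_single_same, Matrix.single_mul_single_of_ne _ _ _ _ h2.symm, map_zero,
      zero_mul, zero_sub, zero_mul, sub_zero, neg_neg, mul_one] at this
    rw [show f = Function.update f k (f k) by simp, e]
    exact this
  have move : ∀ {f g : Fin t → Fin m} {k : Fin t}, k ∈ J → ∀ a b, f k ≠ g k → a ≠ b → ptw (F := F) J f g ∈ A →
      ptw (F := F) J (Function.update f k a) (Function.update g k b) ∈ A := by
    intro f g k hk a b h hab hP
    by_cases ha : a = g k
    · obtain ⟨d, hdf, hdg⟩ := exists_third' hm (f k) (g k)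
      have h1 := col hk d h hdf.symm hP
      have h2 := row hk a (by simpa using hdf.symm) (by simpa [ha] using hdg.symm) h1
      have h3 := col hk b (by simpa [ha] using hdg.symm) (by simpa using hab) h2
      simpa using h3
    · exact col hk b (by simpa using ha) (by simpa using hab) (row hk a h ha hP)
  have offd : ∀ (s : Finset (Fin t)) (f' g' : Fin t → Fin m), (∀ k ∈ J, f' k ≠ g' k) →
      (∀ k ∈ J, k ∉ s → f' k = f k ∧ g' k = g k) → ptw (F := F) J f' g' ∈ A := by
    intro s
    induction s using Finset.induction with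
    | empty =>
      intro f' g' _ h0
      have e : ptw (F := F) J f' g' = ptw J f g := by
        unfold ptw
        congr 1
        funext k
        split_ifs with hk
        · rw [(h0 k hk (by simp)).1, (h0 k hk (by simp)).2]
        · rfl
      rw [e]; exact hmem
    | insert k s hks ih =>
      intro f' g' h h0
      by_cases hk : k ∈ J
      · have h1 := ih (Function.update f' k (f k)) (Function.update g' k (g k))
          (fun l hl => by rcases eq_or_ne l k with rfl | hlk <;> simp [*])
          (fun l hl hls => by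
            rcases eq_or_ne l k with rfl | hlk
            · simp
            · simpa [Function.update_of_ne hlk] using h0 l hl (by simp [hlk, hls]))
        have h2 := move hk (f' k) (g' k) (by simpa using hfg k hk) (h k hk) h1
        simpa using h2
      · exact ih f' g' h fun l hl hls => h0 l hl (by
          rw [Finset.mem_insert]; rintro (rfl | hls')
          · exact hk hl
          · exact hls hls')
  have allp : ∀ f' g' : Fin t → Fin m, ptw (F := F) J f' g' ∈ A := by
    intro f' g'
    choose d hd1 hd2 using fun k => exists_third' hm (f' k) (g' k)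
    have h1 := offd Finset.univ f' d (fun k _ => (hd1 k).symm) (fun k _ hk => absurd (Finset.mem_univ k) hk)
    have h2 := offd Finset.univ d g' (fun k _ => hd2 k) (fun k _ hk => absurd (Finset.mem_univ k) hk)
    have := A.mul_mem h1 h2
    rw [ptw, ptw, ← map_mul] at this
    rw [ptw]
    convert this using 2
    funext k
    by_cases hk : k ∈ J <;> simp [hk]
  have hsub : ∀ (D : Finset (Fin t)), D ⊆ J → ∀ f' g' : Fin t → Fin m, ptw (F := F) (J \ D) f' g' ∈ A := by
    intro D
    induction D using Finset.induction with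
    | empty => intro _ f' g'; simpa using allp f' g'
    | insert k D hkD ih =>
      intro hsub f' g'
      have hkJ : k ∈ J := hsub (Finset.mem_insert_self _ _)
      have e : J \ D = insert k (J \ insert k D) := by
        rw [Finset.sdiff_insert, Finset.insert_erase (Finset.mem_sdiff.2 ⟨hkJ, hkD⟩)]
      have hk' : k ∉ J \ insert k D := by simp
      have hsum : ∑ c, ptw (F := F) (J \ D) (Function.update f' k c) (Function.update g' k c) ∈ A :=
        sum_mem fun c _ => ih (fun l hl => hsub (Finset.mem_insert_of_mem hl)) _ _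
      rw [e] at hsum
      simp only [ptw_insert hk', ← Finset.sum_mul, ← map_sum,
        sum_single_one, map_one, one_mul] at hsum
      exact hsum
  refine ⟨i, fun z => ?_⟩
  rw [Matrix.matrix_eq_sum_single z]
  simp only [map_sum]
  refine sum_mem fun a _ => sum_mem fun b _ => ?_
  rw [single_eq_smul a b (z a b), map_smul]
  refine Subalgebra.smul_mem A ?_ _
  have h1 := hsub (J.erase i) (Finset.erase_subset _ _) (fun _ => a) fun _ => b
  have e : ptw (F := F) (J \ J.erase i) (fun _ => a) (fun _ => b) = S i (Matrix.single a b 1) := by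
    rw [ptw, slotHom_apply]
    congr 1
    funext k
    rcases eq_or_ne k i with rfl | hk
    · simp [hiJ]
    · simp [hk, Pi.mulSingle_eq_of_ne hk]
  rwa [e] at h1

end Algebra

end Cfsg.Agent.TensorWreath
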