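import Cfsg.Agent.Lib.Forms.Max.TensorWreath.Descent

/-!
# A slot transvection is not conjugate to a transposition of two slots
-/

set_option autoImplicit false
set_option linter.unusedSectionVars false

namespace Cfsg.Agent.TensorWreath

open Matrix Cfsg.Agent.Aschbacher

variable {F : Type*} [Field F] {t : ℕ}

/-- the kernel of an operator commuting with the symmetric square of the special linear group in characteristic two -/
theorem kernel_two [CharP F 2] (K : Fin 3 → Fin 3 → Fin 3 → Fin 3 → F)
    (hl : ∀ a b c d, K b a c d = K a b c d) (hr : ∀ a b c d, K a b d c = K a b c d)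
    (hperm : ∀ (π : Equiv.Perm (Fin 3)) a b c d, K (π a) (π b) (π c) (π d) = K a b c d)
    (hT : ∀ a b c d, ∑ e : Fin 3, ∑ f : Fin 3,
        (1 + Matrix.single 0 1 1 : Matrix (Fin 3) (Fin 3) F) a e * (1 + Matrix.single 0 1 1 : Matrix (Fin 3) (Fin 3) F) b f * K e f c d =
      ∑ e : Fin 3, ∑ f : Fin 3,
        K a b e f * ((1 + Matrix.single 0 1 1 : Matrix (Fin 3) (Fin 3) F) e c * (1 + Matrix.single 0 1 1 : Matrix (Fin 3) (Fin 3) F) f d)) :
    ∀ a b c d, K a b c d = K 0 1 0 1 * ((if c = a ∧ d = b then 1 else 0) + if c = b ∧ d = a then 1 else 0) := by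
  have h2 : ∀ x : F, x + x = 0 := CharTwo.add_self_eq_zero
  have sw : ∀ p q a b c d, K (Equiv.swap p q a) (Equiv.swap p q b) (Equiv.swap p q c) (Equiv.swap p q d) = K a b c d :=
    fun p q => hperm _
  have hq : K 0 0 2 2 = 0 := by
    have h := hT 0 0 2 2
    simp [Fin.sum_univ_three, Matrix.one_apply, Matrix.single_apply] at h
    have e1 := sw 1 2 0 0 2 2
    have e2 := sw 0 1 0 0 2 2
    have e3 := hl 1 0 2 2
    simp [Equiv.swap_apply_def] at e1 e2
    rw [e2, e3, add_comm (K 1 0 2 2) (K 0 0 2 2), h2] at h
    exact h.symm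
  have hu : K 0 2 2 2 = 0 := by
    have h := hT 0 2 2 2
    simp [Fin.sum_univ_three, Matrix.one_apply, Matrix.single_apply] at h
    have e := sw 0 1 0 2 2 2
    simp [Equiv.swap_apply_def] at e
    rw [e] at h
    exact h
  have hr0 : K 2 2 2 0 = 0 := by
    have h := hT 2 2 2 1
    simp [Fin.sum_univ_three, Matrix.one_apply, Matrix.single_apply] at h
    exact h
  have hγ : K 0 2 0 1 = 0 := by
    have h := hT 0 2 0 1
    simp [Fin.sum_univ_three, Matrix.one_apply, Matrix.single_apply] at h
    have e := sw 0 1 0 2 0 1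
    simp [Equiv.swap_apply_def] at e
    rw [hr 1 2 0 1] at e
    have e' : K 0 2 0 0 = 0 := by
      have := sw 0 2 0 2 2 2
      simp [Equiv.swap_apply_def] at this
      rw [← hl, this, hu]
    rw [e, h2, e', zero_add] at h
    exact h.symm
  have hv : K 1 2 0 0 = 0 := by
    have h := hT 0 2 0 0
    simp [Fin.sum_univ_three, Matrix.one_apply, Matrix.single_apply] at h
    exact h
  have hp : K 0 0 0 0 = 0 := by
    have h := hT 0 0 0 1
    simp [Fin.sum_univ_three, Matrix.one_apply, Matrix.single_apply] at h
    have e := sw 0 1 0 0 0 1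
    simp [Equiv.swap_apply_def] at e
    rw [hr 1 1 0 1] at e
    have e' := hl 1 0 0 1
    rw [e, e', add_comm (K 1 0 0 1) (K 0 0 0 1), h2] at h
    have hr' : K 0 0 0 1 = 0 := by
      have := hperm (Equiv.swap 0 2 * Equiv.swap 0 1) 2 2 2 0
      simp [Equiv.swap_apply_def, hr0] at this
      exact this
    rw [hr', add_zero] at h
    exact h.symm
  have hs : K 1 1 0 2 = 0 := by
    have h := hT 0 0 0 2
    simp [Fin.sum_univ_three, Matrix.one_apply, Matrix.single_apply] at h
    have e' := hl 1 0 0 2
    rw [e', add_assoc, ← add_assoc (K 1 0 0 2), h2, zero_add, add_eq_left] at h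
    exact h
  -- rows `00` and `01`
  have row : ∀ c d, K 0 0 c d = 0 ∧
      K 0 1 c d = K 0 1 0 1 * ((if c = 0 ∧ d = 1 then 1 else 0) + if c = 1 ∧ d = 0 then 1 else 0) := by
    have s01 := sw 0 1; have s02 := sw 0 2; have s12 := sw 1 2
    have a11 : K 0 0 1 1 = 0 := by have := s12 0 0 2 2; simp [Equiv.swap_apply_def] at this; rw [this, hq]
    have a02 : K 0 0 0 2 = 0 := by have := s02 2 2 2 0; simp [Equiv.swap_apply_def] at this; rw [this, hr0]
    have a01 : K 0 0 0 1 = 0 := by have := s12 0 0 0 2; simp [Equiv.swap_apply_def] at this; rw [this, a02]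
    have a12 : K 0 0 1 2 = 0 := by have := s01 1 1 0 2; simp [Equiv.swap_apply_def] at this; rw [this, hs]
    have b11 : K 0 1 1 1 = 0 := by have := s12 0 2 2 2; simp [Equiv.swap_apply_def] at this; rw [this, hu]
    have b00 : K 0 1 0 0 = 0 := by
      have := s01 0 1 1 1; simp [Equiv.swap_apply_def] at this; rw [← hl, this, b11]
    have b22 : K 0 1 2 2 = 0 := by
      have := s02 1 2 0 0; simp [Equiv.swap_apply_def] at this; rw [← hl, this, hv]
    have b02 : K 0 1 0 2 = 0 := by have := s12 0 2 0 1; simp [Equiv.swap_apply_def] at this; rw [this, hγ]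
    have b12 : K 0 1 1 2 = 0 := by
      have := s01 0 1 0 2; simp [Equiv.swap_apply_def] at this; rw [← hl, this, b02]
    intro c d
    fin_cases c <;> fin_cases d <;>
      simp [hp, hq, a11, a01, a02, a12, b00, b11, b22, b02, b12, hr _ _ 0 1, hr _ _ 0 2, hr _ _ 1 2]
  intro a b c d
  obtain ⟨π, hπ⟩ : ∃ π : Equiv.Perm (Fin 3), π a = 0 ∧ (a = b ∧ π b = 0 ∨ a ≠ b ∧ π b = 1) := by
    revert a b; decide
  rw [← hperm π a b c d]
  rcases hπ with ⟨ha, ⟨rfl, -⟩ | ⟨hne, hb⟩⟩
  · rw [ha, (row _ _).1, h2, mul_zero]
  · rw [ha, hb, (row _ _).2]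
    simp only [← hb, ← ha, π.injective.eq_iff]

/-- the entry formula for the action on two slots -/
theorem two_slot_apply {i k : Fin t} (hik : i ≠ k) (A : Matrix (Fin 3) (Fin 3) F)
    (Z : Matrix (Fin t → Fin 3) (Fin t → Fin 3) F) (x y : Fin t → Fin 3) :
    (S i A * S k A * Z) x y =
        ∑ e, ∑ f, A (x i) e * A (x k) f * Z (Function.update (Function.update x i e) k f) y ∧
      (Z * (S i A * S k A)) x y =
        ∑ e, ∑ f, Z x (Function.update (Function.update y i e) k f) * (A e (y i) * A f (y k)) := by
  classical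
  have hP : ∀ p q, (S i A * S k A) p q =
      if ∀ l, l ≠ i → l ≠ k → p l = q l then A (p i) (q i) * A (p k) (q k) else 0 := by
    intro p q
    rw [slotHom_apply, slotHom_apply, ← map_mul, pureTensor_apply,
      ← Finset.mul_prod_erase _ _ (Finset.mem_univ i),
      ← Finset.mul_prod_erase _ _ (Finset.mem_erase.2 ⟨hik.symm, Finset.mem_univ k⟩)]
    simp only [Pi.mul_apply, Pi.mulSingle_eq_same, Pi.mulSingle_eq_of_ne hik, Pi.mulSingle_eq_of_ne hik.symm, mul_one,
      one_mul]
    split_ifs with h
    · rw [Finset.prod_eq_one fun l hl => ?_, mul_one]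
      simp only [Finset.mem_erase] at hl
      rw [Pi.mulSingle_eq_of_ne hl.2.1, Pi.mulSingle_eq_of_ne hl.1, one_mul, h l hl.2.1 hl.1, Matrix.one_apply_eq]
    · push Not at h
      obtain ⟨l, hli, hlk, hne⟩ := h
      rw [Finset.prod_eq_zero (Finset.mem_erase.2 ⟨hlk, Finset.mem_erase.2 ⟨hli, Finset.mem_univ l⟩⟩)
        (by rw [Pi.mulSingle_eq_of_ne hli, Pi.mulSingle_eq_of_ne hlk, one_mul, Matrix.one_apply_ne hne]), mul_zero, mul_zero]
  have hval : ∀ (p : Fin t → Fin 3) e f, Function.update (Function.update p i e) k f i = e ∧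
      Function.update (Function.update p i e) k f k = f :=
    fun p e f => ⟨by rw [Function.update_of_ne hik, Function.update_self], by rw [Function.update_self]⟩
  have hinj : ∀ p : Fin t → Fin 3, Function.Injective fun ef : Fin 3 × Fin 3 =>
      Function.update (Function.update p i ef.1) k ef.2 := fun p u v h => by
    have h1 := congrFun h i; have h2 := congrFun h k
    simp only [(hval p _ _).1, (hval p _ _).2] at h1 h2
    exact Prod.ext h1 h2
  have hout : ∀ (p : Fin t → Fin 3) z, z ∉ Set.range (fun ef : Fin 3 × Fin 3 =>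
      Function.update (Function.update p i ef.1) k ef.2) → ¬ ∀ l, l ≠ i → l ≠ k → p l = z l := by
    intro p z hz h
    refine hz ⟨(z i, z k), funext fun l => ?_⟩
    rcases eq_or_ne l k with rfl | hlk
    · exact Function.update_self _ _ _
    rcases eq_or_ne l i with rfl | hli
    · exact (hval p _ _).1
    · show Function.update (Function.update p i (z i)) k (z k) l = z l
      rw [Function.update_of_ne hlk, Function.update_of_ne hli]; exact h l hli hlk
  refine ⟨?_, ?_⟩
  · rw [Matrix.mul_apply, ← Fintype.sum_prod_type']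
    refine (Fintype.sum_of_injective _ (hinj x) _ _ (fun z hz => ?_) fun ef => ?_).symm
    · rw [hP, if_neg (hout x z hz), zero_mul]
    · rw [hP, if_pos fun l hli hlk => by rw [Function.update_of_ne hlk, Function.update_of_ne hli],
        (hval x _ _).1, (hval x _ _).2]
  · rw [Matrix.mul_apply, ← Fintype.sum_prod_type']
    refine (Fintype.sum_of_injective _ (hinj y) _ _ (fun z hz => ?_) fun ef => ?_).symm
    · rw [hP, if_neg (fun h => hout y z hz fun l a b => (h l a b).symm), mul_zero]
    · rw [hP, if_pos fun l hli hlk => by rw [Function.update_of_ne hlk, Function.update_of_ne hli],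
        (hval y _ _).1, (hval y _ _).2]

/-- operators commuting with a diagonal action on two slots and the other slots -/
theorem centraliser_swap [CharP F 2] {i k : Fin t} (hik : i ≠ k) (Z : Matrix (Fin t → Fin 3) (Fin t → Fin 3) F)
    (hpair : ∀ a b, a ≠ b → S i (1 + Matrix.single a b (1 : F)) * S k (1 + Matrix.single a b 1) * Z =
      Z * (S i (1 + Matrix.single a b 1) * S k (1 + Matrix.single a b 1)))
    (hout : ∀ l, l ≠ i → l ≠ k → ∀ a b, a ≠ b → S l (Matrix.single a b (1 : F)) * Z = Z * S l (Matrix.single a b 1))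
    (hl : (permGL (Equiv.swap i k) : GL (Fin t → Fin 3) F).val * Z = Z)
    (hr : Z * (permGL (Equiv.swap i k) : GL (Fin t → Fin 3) F).val = Z) :
    ∃ β : F, Z = β • ((permGL (Equiv.swap i k) : GL (Fin t → Fin 3) F).val - 1) := by
  classical
  have hzero : ∀ x y, ∀ l, l ≠ i → l ≠ k → x l ≠ y l → Z x y = 0 := by
    intro x y l hli hlk hne
    obtain ⟨a, ha, -⟩ := exists_third' (le_refl 3) (x l) (x l)
    have h := congrFun (congrFun (hout l hli hlk a (x l) ha) (Function.update x l a)) y
    rw [Matrix.mul_apply, Finset.sum_eq_single x (fun z _ hz => ?_) (by simp), Matrix.mul_apply,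
      Finset.sum_eq_zero fun z _ => ?_] at h
    · rw [S_apply, if_pos fun j hj => Function.update_of_ne hj _ _] at h
      simpa using h
    · rw [S_apply]
      split_ifs with hc
      · rw [Matrix.single_apply_of_ne _ _ _ _ _ (fun h' => hne h'.2), mul_zero]
      · rw [mul_zero]
    · rw [S_apply]
      split_ifs with hc
      · rw [Function.update_self, Matrix.single_apply, if_neg, zero_mul]
        rintro ⟨-, hzl⟩
        refine hz (funext fun j => ?_)
        rcases eq_or_ne j l with rfl | hj
        · exact hzl.symm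
        · rw [← hc j hj, Function.update_of_ne hj]
      · rw [zero_mul]
  have hmove : ∀ x y, ∀ l, l ≠ i → l ≠ k → x l = y l →
      Z x y = Z (Function.update x l 0) (Function.update y l 0) := by
    intro x y l hli hlk hxy
    rcases eq_or_ne (x l) 0 with h0 | h0
    · rw [← h0]; conv_rhs => arg 2; rw [hxy]
      simp
    have h := congrFun (congrFun (hout l hli hlk 0 (x l) h0.symm) (Function.update x l 0)) y
    rw [Matrix.mul_apply, Finset.sum_eq_single x (fun z _ hz => ?_) (by simp), Matrix.mul_apply,
      Finset.sum_eq_single (Function.update y l 0) (fun z _ hz => ?_) (by simp)] at h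
    · rw [S_apply, if_pos (fun j hj => Function.update_of_ne hj _ _), S_apply,
        if_pos (fun j hj => Function.update_of_ne hj _ _), Function.update_self, Function.update_self, ← hxy] at h
      simpa using h
    · rw [S_apply]
      split_ifs with hc
      · rw [Matrix.single_apply, if_neg, mul_zero]
        rintro ⟨hzl, -⟩
        refine hz (funext fun j => ?_)
        rcases eq_or_ne j l with rfl | hj
        · rw [← hzl, Function.update_self]
        · rw [hc j hj, Function.update_of_ne hj]
      · rw [mul_zero]
    · rw [S_apply]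
      split_ifs with hc
      · rw [Function.update_self, Matrix.single_apply, if_neg, zero_mul]
        rintro ⟨-, hzl⟩
        refine hz (funext fun j => ?_)
        rcases eq_or_ne j l with rfl | hj
        · exact hzl.symm
        · rw [← hc j hj, Function.update_of_ne hj]
      · rw [zero_mul]
  let pt : Fin 3 → Fin 3 → Fin t → Fin 3 := fun a b => Function.update (Function.update (fun _ => 0) i a) k b
  let K : Fin 3 → Fin 3 → Fin 3 → Fin 3 → F := fun a b c d => Z (pt a b) (pt c d)
  have hglob : ∀ x y, (∀ l, l ≠ i → l ≠ k → x l = y l) → Z x y = K (x i) (x k) (y i) (y k) := by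
    suffices ∀ (s : Finset (Fin t)) x y, (∀ l, l ≠ i → l ≠ k → x l = y l) → (∀ l ∉ s, l ≠ i → l ≠ k → x l = 0) →
        Z x y = K (x i) (x k) (y i) (y k) from fun x y h => this Finset.univ x y h fun l hl => absurd (Finset.mem_univ l) hl
    intro s
    induction s using Finset.induction with
    | empty =>
      intro x y h h0
      have e : ∀ z : Fin t → Fin 3, (∀ l, l ≠ i → l ≠ k → z l = 0) → z = pt (z i) (z k) := fun z hz => funext fun l => by
        rcases eq_or_ne l k with rfl | hlk
        · simp [pt]
        rcases eq_or_ne l i with rfl | hli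
        · simp [pt, Function.update_of_ne hlk]
        · simp [pt, Function.update_of_ne hlk, Function.update_of_ne hli, hz l hli hlk]
      conv_lhs => rw [e x fun l a b => h0 l (by simp) a b, e y fun l a b => (h l a b).symm.trans (h0 l (by simp) a b)]
    | insert l s hls ih =>
      intro x y h h0
      by_cases hl : l ≠ i ∧ l ≠ k
      · rw [hmove x y l hl.1 hl.2 (h l hl.1 hl.2), ih _ _ (fun j a b => by
          rcases eq_or_ne j l with rfl | hj
          · simp
          · simp [Function.update_of_ne hj, h j a b]) (fun j hj a b => by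
          rcases eq_or_ne j l with rfl | hjl
          · simp
          · rw [Function.update_of_ne hjl]; exact h0 j (by simp [hjl, hj]) a b)]
        simp [Function.update_of_ne hl.1.symm, Function.update_of_ne hl.2.symm]
      · refine ih x y h fun j hj a b => h0 j (fun hm => ?_) a b
        rcases Finset.mem_insert.1 hm with rfl | hm
        · exact hl ⟨a, b⟩
        · exact hj hm
  have hpti : ∀ a b, pt a b i = a ∧ pt a b k = b := fun a b => ⟨by simp [pt, Function.update_of_ne hik], by simp [pt]⟩
  have hpt : ∀ a b e f, Function.update (Function.update (pt a b) i e) k f = pt e f := fun a b e f => funext fun l => by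
    rcases eq_or_ne l k with rfl | hlk
    · simp [pt]
    rcases eq_or_ne l i with rfl | hli <;> simp [pt, Function.update_of_ne hlk, *]
  have hswap : ∀ a b, pt a b ∘ Equiv.swap i k = pt b a := fun a b => funext fun l => by
    rcases eq_or_ne l k with rfl | hlk
    · simp [pt, Function.update_of_ne hik]
    rcases eq_or_ne l i with rfl | hli
    · simp [pt, Function.update_of_ne hlk]
    · simp [pt, Function.update_of_ne hlk, Function.update_of_ne hli, Equiv.swap_apply_of_ne_of_ne hli hlk]
  let C : Submonoid (Matrix (Fin 3) (Fin 3) F) :=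
    { carrier := {A | S i A * S k A * Z = Z * (S i A * S k A)}
      one_mem' := by simp
      mul_mem' := fun {A B} (hA : _ = _) (hB : _ = _) => by
        show S i (A * B) * S k (A * B) * Z = Z * (S i (A * B) * S k (A * B))
        have e : S i (A * B) * S k (A * B) = S i A * S k A * (S i B * S k B) := by
          rw [map_mul, map_mul, mul_assoc, ← mul_assoc (S i B), S_comm hik B A]
          simp only [mul_assoc]
        rw [e, mul_assoc, hB, ← mul_assoc, hA, mul_assoc] }
  have hC : ∀ A ∈ C, ∀ a b c d, ∑ e, ∑ f, A a e * A b f * K e f c d = ∑ e, ∑ f, K a b e f * (A e c * A f d) := by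
    intro A hA a b c d
    have h := congrFun (congrFun (show S i A * S k A * Z = Z * (S i A * S k A) from hA) (pt a b)) (pt c d)
    rw [(two_slot_apply hik A Z _ _).1, (two_slot_apply hik A Z _ _).2] at h
    simpa only [hpt, (hpti _ _).1, (hpti _ _).2] using h
  have hswapK : ∀ p q : Fin 3, p ≠ q → ∀ a b c d,
      K (Equiv.swap p q a) (Equiv.swap p q b) (Equiv.swap p q c) (Equiv.swap p q d) = K a b c d := by
    intro p q hpq a b c d
    set T := fun u v : Fin 3 => (1 + Matrix.single u v (1 : F) : Matrix (Fin 3) (Fin 3) F)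
    have hP : T p q * T q p * T p q = (Equiv.swap p q).toPEquiv.toMatrix := by
      ext u v
      fin_cases p <;> fin_cases q <;> first
        | exact absurd rfl hpq
        | (fin_cases u <;> fin_cases v <;>
            simp [T, Matrix.mul_apply, Fin.sum_univ_three, PEquiv.toMatrix_apply, Matrix.one_apply, Matrix.single_apply,
              Equiv.swap_apply_def, CharTwo.add_self_eq_zero])
    have h := hC _ (mul_mem (mul_mem (show T p q ∈ C from hpair p q hpq) (show T q p ∈ C from hpair q p hpq.symm))
      (show T p q ∈ C from hpair p q hpq)) a b (Equiv.swap p q c) (Equiv.swap p q d)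
    rw [hP] at h
    have hA : ∀ u v, ((Equiv.swap p q).toPEquiv.toMatrix : Matrix (Fin 3) (Fin 3) F) u v =
        if Equiv.swap p q u = v then 1 else 0 := fun u v => by simp [PEquiv.toMatrix_apply]
    have hne : ∀ {u v : Fin 3}, u ≠ v → Equiv.swap p q u ≠ Equiv.swap p q v := fun h e => h ((Equiv.swap p q).injective e)
    rw [Finset.sum_eq_single (Equiv.swap p q a) (fun e _ he => ?_) (by simp),
      Finset.sum_eq_single (Equiv.swap p q b) (fun e _ he => ?_) (by simp),
      Finset.sum_eq_single c (fun e _ he => ?_) (by simp),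
      Finset.sum_eq_single d (fun e _ he => ?_) (by simp)] at h
    · simpa [hA] using h
    · simp [hA, hne he]
    · exact Finset.sum_eq_zero fun f _ => by simp [hA, hne he]
    · simp [hA, Ne.symm he]
    · exact Finset.sum_eq_zero fun f _ => by simp [hA, Ne.symm he]
  have hperm : ∀ (π : Equiv.Perm (Fin 3)) a b c d, K (π a) (π b) (π c) (π d) = K a b c d := by
    intro π
    induction π using Equiv.Perm.swap_induction_on with
    | one => intros; rfl
    | swap_mul f x y hxy ih => intro a b c d; simp only [Equiv.Perm.mul_apply]; rw [hswapK x y hxy, ih]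
  have hKl : ∀ a b c d, K b a c d = K a b c d := fun a b c d => by
    have h := congrFun (congrFun hl (pt a b)) (pt c d)
    rwa [perm_mul_apply, hswap] at h
  have hKr : ∀ a b c d, K a b d c = K a b c d := fun a b c d => by
    have h := congrFun (congrFun hr (pt a b)) (pt c d)
    rwa [mul_perm_apply, Equiv.symm_swap, hswap] at h
  have hK := kernel_two K hKl hKr hperm (hC _ (hpair 0 1 (by decide)))
  refine ⟨K 0 1 0 1, Matrix.ext fun x y => ?_⟩
  rw [Matrix.smul_apply, Matrix.sub_apply, permGL_apply, Matrix.one_apply, CharTwo.sub_eq_add, smul_eq_mul]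
  by_cases hxy : ∀ l, l ≠ i → l ≠ k → x l = y l
  · rw [hglob x y hxy, hK]
    congr 1
    rw [add_comm]
    congr 1
    · refine if_congr ⟨fun h => funext fun l => ?_, fun h => ?_⟩ rfl rfl
      · rcases eq_or_ne l k with rfl | hlk
        · simpa using h.2
        rcases eq_or_ne l i with rfl | hli
        · simpa using h.1
        · simpa [Equiv.swap_apply_of_ne_of_ne hli hlk] using (hxy l hli hlk).symm
      · subst h; simp
    · refine if_congr ⟨fun h => funext fun l => ?_, fun h => by subst h; simp⟩ rfl rfl
      rcases eq_or_ne l k with rfl | hlk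
      · exact h.2.symm
      rcases eq_or_ne l i with rfl | hli
      · exact h.1.symm
      · exact hxy l hli hlk
  · push Not at hxy
    obtain ⟨l, hli, hlk, hne⟩ := hxy
    rw [hzero x y l hli hlk hne, if_neg, if_neg, add_zero, mul_zero]
    · intro h; exact hne (congrFun h l)
    · intro h; subst h; simp [Equiv.swap_apply_of_ne_of_ne hli hlk] at hne

end Cfsg.Agent.TensorWreath
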